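import Cfsg.Agent.Lib.Perm.Sharp4

/-! Jordan sets: Steiner systems of flats, Marggraf's theorems, quasiprimitive versions. -/

set_option autoImplicit false
open MulAction CA.PermBasic CA.PermMulti CA.PermJordan CA.Sharp4 Finset
open scoped Pointwise

namespace CA.JSet
universe u v
variable {G : Type u} {X : Type v} [Group G] [MulAction G X] [Fintype X] [DecidableEq X]

variable (G) in
/-- `S` is a Jordan set -/
def Jd (S : Finset X) : Prop := ∀ x ∈ S, ∀ y ∈ S, ∃ g : G, (∀ z ∉ S, g • z = z) ∧ g • x = y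

omit [Fintype X] in
theorem Jd.smul {S : Finset X} (h : Jd G S) (k : G) : Jd G (k • S) := fun x hx y hy => by
  obtain ⟨g, h1, h2⟩ := h _ (inv_smul_mem_iff.2 hx) _ (inv_smul_mem_iff.2 hy)
  exact ⟨k * g * k⁻¹, fun z hz => by simp [mul_smul, h1 _ (mt inv_smul_mem_iff.1 hz)],
    by simp [mul_smul, h2]⟩

omit [Fintype X] in
theorem Jd.union {S T : Finset X} (h : Jd G S) (h' : Jd G T) {c : X} (h1 : c ∈ S) (h2 : c ∈ T) :
    Jd G (S ∪ T) := by
  have : ∀ x ∈ S ∪ T, ∃ g : G, (∀ z ∉ S ∪ T, g • z = z) ∧ g • c = x := fun x hx =>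
    (mem_union.1 hx).elim (fun e => (h c h1 x e).imp fun _ e => ⟨fun z hz => e.1 z (by simp_all), e.2⟩)
      fun e => (h' c h2 x e).imp fun _ e => ⟨fun z hz => e.1 z (by simp_all), e.2⟩
  intro x hx y hy
  obtain ⟨g, g1, rfl⟩ := this x hx
  obtain ⟨k, k1, rfl⟩ := this y hy
  exact ⟨k * g⁻¹, fun z hz => by rw [mul_smul, inv_smul_eq_iff.2 (g1 z hz).symm, k1 z hz],
    by simp [mul_smul]⟩

theorem mpt_of (t : ℕ) (ht : t ≤ Fintype.card X) (h : ∀ S : Finset X, #S < t → Jd G Sᶜ) :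
    IsMultiplyPretransitive G X t := by
  induction t with
  | zero => exact is_zero_pretransitive
  | succ t ih =>
    obtain ⟨S, -, hS⟩ := exists_subset_card_eq (s := (univ : Finset X)) (n := t) (by simpa using Nat.le_of_succ_le ht)
    exact mpt_add_of_fixing (ih (by omega) fun S e => h S (by omega)) S S.finite_toSet (by simpa)
      (is_one_pretransitive_iff.2 (pretransitive_fixing_iff.2 fun x y hx hy => by
        simpa using h S (by omega) x (by simpa using hx) y (by simpa using hy)))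

omit [Fintype X] in
theorem exists_subset {t : ℕ} (h : IsMultiplyPretransitive G X t) {S T : Finset X} (hS : #S = t)
    (hT : t ≤ #T) : ∃ g : G, S ⊆ g • T := by
  obtain ⟨U, h1, h2⟩ := exists_subset_card_eq hT
  let e := equivOfCardEq (hS.trans h2.symm)
  obtain ⟨g, hg⟩ := mpt_exists_fun h ((Fintype.card_coe S).trans hS) (fun x => (e x).1) Subtype.val
    (Subtype.val_injective.comp e.injective) Subtype.val_injective
  exact ⟨g, fun x hx => mem_smul_finset.2 ⟨_, h1 (e _).2, hg ⟨x, hx⟩⟩⟩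

theorem rudio (h : IsPreprimitive G X) {A : Finset X} (h1 : 1 < #A) (h2 : #A < Fintype.card X) :
    ∃ g : G, ∃ a ∈ A, a ∈ g • A ∧ g • A ≠ A := by
  obtain ⟨a, ha, b, hb, e⟩ := one_lt_card.1 h1
  obtain ⟨g, h3, h4⟩ := IsPreprimitive.exists_mem_smul_and_notMem_smul (G := G) A.finite_toSet ⟨a, ha⟩
    (fun e => h2.ne (by rw [coe_eq_univ.1 e, card_univ])) e
  exact ⟨g, a, ha, by simpa [← coe_smul_finset] using h3, fun f => h4 (by rwa [← coe_smul_finset, f])⟩

variable (G) in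
/-- the Steiner system attached to a non-trivial Jordan set -/
structure St (Γ : Finset X) (t e : ℕ) (B : Finset X → Prop) : Prop where
  pos : 1 ≤ t
  two : 2 ≤ e
  le : t + 1 + #Γ ≤ Fintype.card X
  mpt : IsMultiplyPretransitive G X (t + 1)
  card : ∀ {L}, B L → #L = t + e
  smul : ∀ {L} (g : G), B L → B (g • L)
  uniq : ∀ {L L' S}, B L → B L' → S ⊆ L → S ⊆ L' → t + 1 ≤ #S → L = L'
  ex : ∀ S, #S = t + 1 → ∃ L, B L ∧ S ⊆ L
  sub : ∀ {L S}, B L → S ⊆ L → Disjoint S Γ → t + 1 ≤ #S → Disjoint L Γ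

theorem steiner (h : IsPreprimitive G X) {Γ : Finset X} (hΓ : Jd G Γ) (h1 : 1 < #Γ) :
    IsMultiplyPretransitive G X (Fintype.card X - #Γ + 1) ∨ ∃ t e B, St G Γ t e B := by
  classical
  have h0 := card_le_univ Γ
  by_cases H : ∃ i, i + #Γ ≤ Fintype.card X ∧ ∃ S : Finset X, #S = i ∧ ¬ Jd G Sᶜ
  swap
  · exact .inl (mpt_of _ (by omega) fun S e => by_contra fun f => H ⟨_, by omega, S, rfl, f⟩)
  obtain ⟨h2, S, h3, h4⟩ := Nat.find_spec H
  have h5 := fun i => Nat.find_min H (m := i)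
  obtain ⟨t, ht⟩ : ∃ t, Nat.find H = t + 1 := Nat.exists_eq_succ_of_ne_zero fun e => h4 fun x _ y _ =>
    (h.exists_smul_eq x y).imp fun g f => ⟨by simp [card_eq_zero.1 (h3.trans e)], f⟩
  rw [ht] at h2 h3 h5
  have h6 : IsMultiplyPretransitive G X (t + 1) :=
    mpt_of _ (by omega) fun S e => by_contra fun f => h5 _ e ⟨by omega, S, rfl, f⟩
  obtain ⟨Δ, d1, d2⟩ := exists_max_image {T : Finset X | Jd G T ∧ t + 1 + #T ≤ Fintype.card X} Finset.card
    ⟨Γ, by simp [hΓ, h2]⟩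
  simp only [mem_filter_univ, and_imp] at d1 d2
  have d3 := d2 Γ hΓ h2
  have d4 : ∀ g k : G, ∀ c ∈ g • Δ, c ∈ k • Δ → t + 1 + #(g • Δ ∪ k • Δ) ≤ Fintype.card X →
      g • Δ = k • Δ := fun g k c a b e => by
    have := d2 _ ((d1.1.smul g).union (d1.1.smul k) a b) e
    exact (eq_of_subset_of_card_le subset_union_left (by simpa)).trans
      (eq_of_subset_of_card_le subset_union_right (by simpa)).symm
  have d5 : Fintype.card X < t + 2 * #Δ := by
    obtain ⟨g, a, a1, a2, a3⟩ := rudio h (h1.trans_le d3) (by omega)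
    have := mt (d4 g 1 a a2 (by simpa)) (by simpa)
    have h7 := card_union_add_card_inter (g • Δ) ((1 : G) • Δ)
    have := card_pos.2 ⟨a, mem_inter.2 ⟨a2, show a ∈ (1 : G) • Δ by simpa⟩⟩
    simp only [card_smul_finset] at h7
    omega
  have c : ∀ g : G, #(g • Δ)ᶜ + #Δ = Fintype.card X := fun g => by
    rw [card_compl, card_smul_finset]; omega
  have u : ∀ {g k : G} {S}, S ⊆ (g • Δ)ᶜ → S ⊆ (k • Δ)ᶜ → t + 1 ≤ #S → g • Δ = k • Δ := fun {g k S} a b e => by
    have h7 := card_union_add_card_inter (g • Δ) (k • Δ)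
    have h8 := card_le_card (subset_inter a b)
    rw [← compl_union, card_compl] at h8
    have := card_le_univ (g • Δ ∪ k • Δ)
    simp only [card_smul_finset] at h7
    obtain ⟨x, hx⟩ := card_pos.1 (show 0 < #(g • Δ ∩ k • Δ) by omega)
    exact d4 g k x (mem_inter.1 hx).1 (mem_inter.1 hx).2 (by omega)
  have sc : ∀ (g : G) (T : Finset X), g • Tᶜ = (g • T)ᶜ := fun g T => by
    ext; simp [← inv_smul_mem_iff]
  have e2 : t + 2 + #Δ ≤ Fintype.card X := by
    by_contra f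
    obtain ⟨g, hg⟩ := exists_subset h6 h3 (T := Δᶜ) (by rw [card_compl]; omega)
    rw [eq_of_subset_of_card_le hg (by rw [card_smul_finset, card_compl]; omega), sc, compl_compl] at h4
    exact h4 (d1.1.smul g)
  have t1 : 1 ≤ t := by
    obtain ⟨g, a, a1, a2, a3⟩ := rudio h (A := Δᶜ) (by rw [card_compl]; omega) (by rw [card_compl]; omega)
    by_contra f
    refine a3 (by rw [sc, u (S := {a}) (k := 1) (by simpa [sc] using a2) (by simpa using a1) (by simp; omega),
      one_smul])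
  have inv : ∀ {T : Finset X} {g : G} {S}, Jd G T → S ⊆ (g • Δ)ᶜ → Disjoint S T → t + 1 ≤ #S →
      ∀ x ∈ T, ∀ y ∈ T, y ∈ g • Δ → x ∈ g • Δ := fun {T g S} a b d e x hx y hy f => by
    obtain ⟨k, k1, rfl⟩ := a x hx y hy
    rwa [u b (k := k * g) (fun z hz => by
      rw [← k1 z (disjoint_left.1 d hz), mul_smul, ← sc]; exact smul_mem_smul_finset (b hz)) e,
      mul_smul, smul_mem_smul_finset_iff] at f
  refine .inr ⟨t, Fintype.card X - #Δ - t, fun L => ∃ g : G, L = (g • Δ)ᶜ, t1, by omega, h2, h6,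
    fun ⟨g, e⟩ => by have := c g; rw [e]; omega, fun k ⟨g, e⟩ => ⟨k * g, by rw [e, sc, mul_smul]⟩,
    fun ⟨g, e⟩ ⟨k, f⟩ a b d => by rw [e, f, u (e ▸ a) (f ▸ b) d], fun S e => ?_, ?_⟩
  · obtain ⟨g, hg⟩ := exists_subset h6 e (T := Δᶜ) (by rw [card_compl]; omega)
    exact ⟨_, ⟨g, rfl⟩, sc g Δ ▸ hg⟩
  rintro _ S ⟨g, rfl⟩ a b d
  refine disjoint_left.2 fun x x1 x2 => ?_
  have h7 := card_le_card (union_subset a fun y hy => mem_compl.2 fun f =>
    mem_compl.1 x1 (inv hΓ a b d x x2 y hy f))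
  rw [card_union_of_disjoint b] at h7
  obtain ⟨p, hp, q, hq, e⟩ := one_lt_card.1 h1
  obtain ⟨y, hy⟩ := card_pos.1 (show 0 < #(g • Δ) by rw [card_smul_finset]; omega)
  obtain ⟨k, k1, k2⟩ := two_iff.1 (mpt_of_le h6 (m := 2) (by omega) (by simp; omega)) p q x y e
    (by rintro rfl; exact mem_compl.1 x1 hy)
  have h8 := le_card_sdiff (k • Γ) (g • Δ)ᶜ
  rw [card_smul_finset] at h8
  exact mem_compl.1 x1 (inv (S := (g • Δ)ᶜ \ k • Γ) (hΓ.smul k) sdiff_subset sdiff_disjoint (by omega) x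
    (k1 ▸ smul_mem_smul_finset hp) y (k2 ▸ smul_mem_smul_finset hq) hy)

namespace St
variable {Γ : Finset X} {t e : ℕ} {B : Finset X → Prop} (h : St G Γ t e B)
include h

theorem count {U : Finset X} (hU : #U = t) (H : ∀ L, B L → U ⊆ L → ∀ a ∈ L, ∀ b ∈ L, a ∉ U → b ∉ U →
    a ∉ Γ → b ∉ Γ → a = b) : #(Γᶜ \ U) * (e - 1) ≤ #(Γ \ U) := by
  classical
  refine (card_mul_le_card_mul (fun a x => ∃ L, B L ∧ U ⊆ L ∧ a ∈ L ∧ x ∈ L) (fun a ha => ?_)
    fun x hx => card_le_one.2 fun a ha b hb => ?_).trans_eq (mul_one _)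
  · simp only [mem_sdiff, mem_compl] at ha
    have h1 := card_insert_of_notMem ha.2
    obtain ⟨L, l1, l2⟩ := h.ex (insert a U) (hU ▸ h1)
    have l3 := insert_subset_iff.1 l2
    refine (show _ = #(L \ insert a U) by rw [card_sdiff_of_subset l2, h.card l1]; omega).trans_le
      (card_le_card fun x hx => ?_)
    simp only [mem_sdiff, mem_insert, not_or, mem_bipartiteAbove] at hx ⊢
    exact ⟨⟨by_contra fun f => hx.2.1 (H L l1 l3.2 x hx.1 a l3.1 hx.2.2 ha.2 f ha.1), hx.2.2⟩,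
      L, l1, l3.2, l3.1, hx.1⟩
  simp only [mem_sdiff, mem_compl, mem_bipartiteBelow] at ha hb hx
  obtain ⟨⟨a1, a2⟩, L, l1, l2, l3, l4⟩ := ha
  obtain ⟨⟨b1, b2⟩, M, m1, m2, m3, m4⟩ := hb
  obtain rfl := h.uniq l1 m1 (insert_subset l4 l2) (insert_subset m4 m2)
    (by rw [card_insert_of_notMem hx.2, hU])
  exact H L l1 l2 a l3 b m3 a2 b2 a1 b1

theorem exists_out (i : ℕ) (hi : i ≤ t + 1) : ∃ A : Finset X, #A = i ∧ Disjoint A Γ :=
  let ⟨A, a, b⟩ := exists_subset_card_eq (s := Γᶜ) (n := i) (by have := h.le; rw [card_compl]; omega)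
  ⟨A, b, disjoint_left.2 fun _ e => mem_compl.1 (a e)⟩

theorem bound (h1 : Γ.Nonempty) : (Fintype.card X - #Γ - (t - 1)) * (e - 1) ≤ #Γ - 1 := by
  obtain ⟨p, hp⟩ := h1
  obtain ⟨A, a1, a2⟩ := h.exists_out (t - 1) (by omega)
  have h2 := disjoint_right.1 a2 hp
  have h0 := h.pos
  have := h.count (U := insert p A) (by rw [card_insert_of_notMem h2]; omega)
    fun L l1 l2 a a3 b b3 a4 b4 a5 b5 => by_contra fun f => disjoint_left.1
      (h.sub l1 (S := insert a (insert b A)) (by simp_all [insert_subset_iff]) (by simp_all)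
        (by rw [card_insert_of_notMem (by simp_all), card_insert_of_notMem (by simp_all)]; omega))
      (l2 (mem_insert_self ..)) hp
  rwa [sdiff_insert_of_notMem (by simpa), card_sdiff_of_subset (subset_compl_iff_disjoint_right.2 a2),
    card_compl, a1, sdiff_insert, sdiff_eq_self_of_disjoint a2.symm, card_erase_of_mem hp] at this

end St

theorem three (h : IsPreprimitive G X) {Γ : Finset X} (hΓ : Jd G Γ) (h1 : 1 < #Γ)
    (h2 : 2 * #Γ ≤ Fintype.card X) : IsMultiplyPretransitive G X 3 := by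
  obtain h3 | ⟨t, e, B, h3⟩ := steiner h hΓ h1
  · exact mpt_of_le h3 (by omega) (by rw [Nat.card_eq_fintype_card]; omega)
  have := h3.bound (card_pos.1 (by omega))
  have := h3.le
  have := h3.pos
  have := Nat.le_mul_of_pos_right (Fintype.card X - #Γ - (t - 1)) (show 0 < e - 1 by have := h3.two; omega)
  exact mpt_of_le h3.mpt (by omega) (by simp; omega)

theorem exists_inv {f : G} (hf : f * f = 1) (j : ℕ) (h : 2 * j ≤ #{x : X | f • x ≠ x}) :
    ∃ P : Finset X, #P = 2 * j ∧ ∀ x ∈ P, f • x ≠ x ∧ f • x ∈ P := by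
  induction j with
  | zero => exact ⟨∅, rfl, by simp⟩
  | succ j ih =>
    obtain ⟨P, p1, p2⟩ := ih (by omega)
    obtain ⟨x, x1, x2⟩ := exists_mem_notMem_of_card_lt_card (show #P < #{x : X | f • x ≠ x} by omega)
    have e : ∀ y : X, f • f • y = y := fun y => by rw [← mul_smul, hf, one_smul]
    have x3 := (mem_filter.1 x1).2
    refine ⟨insert x (insert (f • x) P), by
      rw [card_insert_of_notMem (by simp [x2, x3.symm]), card_insert_of_notMem fun g => x2 (e x ▸ (p2 _ g).2)]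
      omega, ?_⟩
    simp only [mem_insert, forall_eq_or_imp, e]
    exact ⟨⟨x3, by simp⟩, ⟨x3.symm, by simp⟩, fun y hy => ⟨(p2 y hy).1, by simp [(p2 y hy).2]⟩⟩

theorem alt_le [FaithfulSMul G X] (h : IsPreprimitive G X) {Γ : Finset X} (hΓ : Jd G Γ) (h1 : 1 < #Γ)
    (h2 : 2 * #Γ < Fintype.card X) : alternatingGroup X ≤ (toPermHom G X).range := by
  by_contra hA
  have key : ∀ k, 3 ≤ k → k ≤ Fintype.card X → IsMultiplyPretransitive G X k → ∀ g : G, g ≠ 1 →
      2 * k - 2 ≤ #{x : X | g • x ≠ x} := fun k a b c g d => by_contra fun e => hA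
    (alt_le_of_support_lt _ a b (mpt_range c) _ ⟨g, rfl⟩ (fun f => d (toPerm_injective (f.trans
      (map_one (toPermHom G X)).symm))) (not_le.1 e))
  have k2 : ∀ g : G, (∀ z ∉ Γ, g • z = z) → #{x : X | g • x ≠ x} ≤ #Γ := fun g hg =>
    card_le_card fun x hx => by_contra fun f => (mem_filter.1 hx).2 (hg x f)
  obtain ⟨p, hp, q, hq, e⟩ := one_lt_card.1 h1
  obtain ⟨g, g1, g2⟩ := hΓ p hp q hq
  have g3 : g ≠ 1 := by rintro rfl; exact e (by simpa using g2)
  obtain h3 | ⟨t, e, B, h3⟩ := steiner h hΓ h1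
  · have := (key _ (by omega) (by omega) h3 g g3).trans (k2 g g1)
    omega
  have h4 := h3.bound ⟨p, hp⟩
  have h5 := h3.le
  have h6 := h3.two
  have := Nat.le_mul_of_pos_right (Fintype.card X - #Γ - (t - 1)) (show 0 < e - 1 by omega)
  have h7 := key _ (by omega) (by omega) h3.mpt
  have := (h7 g g3).trans (k2 g g1)
  obtain rfl : e = 2 := by
    by_contra f
    have := Nat.mul_le_mul_left (Fintype.card X - #Γ - (t - 1)) (show 2 ≤ e - 1 by omega)
    omega
  obtain ⟨f, f1, f2, f3⟩ : ∃ f : G, (∀ z ∉ Γ, f • z = z) ∧ f * f = 1 ∧ f ≠ 1 := by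
    obtain ⟨T, t1, t2⟩ := h3.exists_out t (by omega)
    have t3 := fun {x} (hx : x ∈ Γ) => card_insert_of_notMem (disjoint_right.1 t2 hx)
    obtain ⟨L, l1, l2⟩ := h3.ex (insert p T) (t1 ▸ t3 hp)
    obtain ⟨r, hr⟩ := card_eq_one.1 (show #(L \ insert p T) = 1 by
      rw [card_sdiff_of_subset l2, h3.card l1, t3 hp]; omega)
    obtain ⟨r1, r2⟩ := mem_sdiff.1 (hr.ge (mem_singleton_self r))
    have l3 := (subset_insert p T).trans l2
    have r3 : r ∈ Γ := by_contra fun f => disjoint_left.1 (h3.sub l1 (insert_subset r1 l3) (by simp [f, t2])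
      (by rw [card_insert_of_notMem (by simp_all)]; omega)) (l2 (mem_insert_self ..)) hp
    obtain ⟨k, k1, k3⟩ := hΓ p hp r r3
    have k4 : k • L = L := h3.uniq (h3.smul k l1) l1 (insert_subset (k3 ▸ smul_mem_smul_finset
      (l2 (mem_insert_self ..))) fun x hx => k1 x (disjoint_left.1 t2 hx) ▸ smul_mem_smul_finset (l3 hx))
      (insert_subset r1 l3) (by rw [t3 r3]; omega)
    have k5 : k • r = p := by_contra fun f => r2 (by
      have : k • r ∈ L \ insert p T := mem_sdiff.2 ⟨k4 ▸ smul_mem_smul_finset r1, by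
        simpa [f] using fun g => disjoint_left.1 t2 g
          (((smul_left_cancel_iff k).1 (k1 _ (disjoint_left.1 t2 g))).symm ▸ r3)⟩
      rw [hr, mem_singleton, ← k3, smul_left_cancel_iff, k3] at this
      simp [this])
    have : Finite G := finite_of_faithful (X := X)
    have k6 : 2 ∣ orderOf k := even_iff_two_dvd.1 (Nat.not_odd_iff_even.1 fun ⟨a, ha⟩ => r2 (by
      have : (k ^ 2) ^ a ∈ stabilizer G r := pow_mem (by simp [sq, mul_smul, k3, k5]) a
      rw [← mem_stabilizer_iff.1 this, ← k3, ← mul_smul, ← pow_mul, ← pow_succ, ← ha, pow_orderOf_eq_one]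
      simp))
    exact ⟨k ^ (orderOf k / 2), fun z hz => pow_mem (mem_stabilizer_iff.2 (k1 z hz)) _, by
      rw [← sq, ← pow_mul, Nat.div_mul_cancel k6, pow_orderOf_eq_one], fun e => by
        simpa [e] using orderOf_pow_orderOf_div (orderOf_pos k).ne' k6⟩
  have h8 := h7 f f3
  obtain ⟨P, p1, p2⟩ := exists_inv (X := X) f2 ((t - 1) / 2) (by omega)
  obtain ⟨x, x1, x2⟩ := exists_mem_notMem_of_card_lt_card (show #P < #{x : X | f • x ≠ x} by omega)
  have x3 := (mem_filter.1 x1).2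
  have p3 : insert x P ⊆ Γ := insert_subset (by_contra fun g => x3 (f1 x g))
    fun y hy => by_contra fun g => (p2 y hy).1 (f1 y g)
  obtain ⟨A, a1, a2⟩ := h3.exists_out (t - #(insert x P)) (by omega)
  have p4 := card_insert_of_notMem x2
  have a3 := a2.mono_right p3
  have := h3.count (U := A ∪ insert x P) (by rw [card_union_of_disjoint a3]; omega)
    fun L l1 l2 a a4 b b4 a5 b5 a6 b6 => by_contra fun g => by
      have s0 : ∀ y ∈ insert a (insert b (A ∪ P)), y ∉ P → y ∉ Γ := fun y hy e => by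
        simp only [mem_insert, mem_union, e, or_false] at hy
        rcases hy with rfl | rfl | hy
        exacts [a6, b6, disjoint_left.1 a2 hy]
      have s1 : insert a (insert b (A ∪ P)) ⊆ L := by
        simp only [insert_subset_iff, union_subset_iff] at l2 ⊢; tauto
      have s2 : #(insert a (insert b (A ∪ P))) = t + 1 := by
        rw [card_insert_of_notMem (by simp_all), card_insert_of_notMem (by simp_all),
          card_union_of_disjoint (a3.mono_right (subset_insert ..))]; omega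
      have s3 : ∀ y ∈ insert a (insert b (A ∪ P)), f • y ∈ insert a (insert b (A ∪ P)) := fun y hy => by
        by_cases e : y ∈ P
        · simp [(p2 y e).2]
        · rwa [f1 y (s0 y hy e)]
      have e : ∀ y : X, f • f • y = y := fun y => by rw [← mul_smul, f2, one_smul]
      have s4 : f • L = L := h3.uniq (h3.smul f l1) l1
        (fun y hy => e y ▸ smul_mem_smul_finset (s1 (s3 y hy))) s1 s2.ge
      have s5 : x ∉ insert a (insert b (A ∪ P)) := fun g => s0 x g x2 (p3 (mem_insert_self ..))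
      have s6 : x ∈ L := l2 (by simp)
      exact x3 (card_le_one.1 (show #(L \ insert a (insert b (A ∪ P))) ≤ 1 by
        rw [card_sdiff_of_subset s1, h3.card l1]; omega) _ (mem_sdiff.2 ⟨s4 ▸ smul_mem_smul_finset s6,
          fun g => s5 (e x ▸ s3 _ g)⟩) _ (mem_sdiff.2 ⟨s6, s5⟩))
  rw [sdiff_union_distrib, sdiff_union_distrib, sdiff_eq_self_of_disjoint (disjoint_compl_left.mono_right p3),
    inter_eq_left.2 sdiff_subset, card_sdiff_of_subset (subset_compl_iff_disjoint_right.2 a2), card_compl,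
    sdiff_eq_self_of_disjoint a2.symm, inter_eq_right.2 sdiff_subset, card_sdiff_of_subset p3] at this
  omega

omit [DecidableEq X] [Fintype X] in
theorem qp [FaithfulSMul G X] (hq : ∀ N : Subgroup G, N.Normal → N ≠ ⊥ → IsPretransitive N X)
    {Γ : Finset X} (hΓ : Jd G Γ) (h1 : 1 < #Γ) {r : X → X → Prop} (hr : Equivalence r)
    (hi : ∀ (g : G) x y, r x y → r (g • x) (g • y)) (h2 : ¬ ∀ x y, r x y) :
    (∀ g : G, (∀ x, r (g • x) x) → g = 1) ∧ (¬ ∀ x ∈ Γ, ∀ y ∈ Γ, r x y) ∧ ∀ x ∈ Γ, ∀ y, r x y → y ∈ Γ := by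
  let K : Subgroup G :=
    { carrier := {g | ∀ x, r (g • x) x}
      one_mem' := fun x => by simpa using hr.refl x
      mul_mem' := fun {a b} ha hb x => mul_smul a b x ▸ hr.trans (ha _) (hb x)
      inv_mem' := fun {g} hg x => hr.symm (by simpa using hg (g⁻¹ • x)) }
  have h3 : ∀ g : G, (∀ x, r (g • x) x) → g = 1 := fun g hg => by_contra fun e => h2 fun x y => by
    obtain ⟨k, rfl⟩ := (hq K ⟨fun n hn g x => by simpa [mul_smul] using hi g _ _ (hn (g⁻¹ • x))⟩
      fun f => e (f.le hg)).exists_smul_eq y x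
    exact k.2 y
  have h4 : ¬ ∀ x ∈ Γ, ∀ y ∈ Γ, r x y := fun H => by
    obtain ⟨p, hp, q, hq, e⟩ := one_lt_card.1 h1
    obtain ⟨g, g1, g2⟩ := hΓ p hp q hq
    obtain rfl := h3 g fun x => by
      by_cases f : x ∈ Γ
      · exact H _ (by_contra fun e => e (((smul_left_cancel_iff g).1 (g1 _ e)).symm ▸ f)) _ f
      · exact (g1 x f).symm ▸ hr.refl x
    exact e (by simpa using g2)
  refine ⟨h3, h4, fun x hx y e => by_contra fun f => h4 ?_⟩
  have : ∀ z ∈ Γ, r z y := fun z hz => let ⟨g, a, b⟩ := hΓ x hx z hz; b ▸ a y f ▸ hi g _ _ e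
  exact fun a ha b hb => hr.trans (this a ha) (hr.symm (this b hb))

omit [DecidableEq X] [Fintype X] in
theorem qp_trans (hq : ∀ N : Subgroup G, N.Normal → N ≠ ⊥ → IsPretransitive N X)
    {Γ : Finset X} (hΓ : Jd G Γ) (h1 : 1 < #Γ) : IsPretransitive G X := by
  obtain ⟨p, hp, q, h, e⟩ := one_lt_card.1 h1
  obtain ⟨g, -, g2⟩ := hΓ p hp q h
  exact pretransitive_of_subgroup ⊤ (hq ⊤ inferInstance fun f => e (by
    simpa [Subgroup.mem_bot.1 (f.le (Subgroup.mem_top g))] using g2))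

theorem alt_le_qp (n : ℕ) : ∀ (X : Type v) [MulAction G X] [Fintype X] [DecidableEq X] [FaithfulSMul G X],
    Fintype.card X = n → (∀ N : Subgroup G, N.Normal → N ≠ ⊥ → IsPretransitive N X) →
    ∀ Γ : Finset X, Jd G Γ → 1 < #Γ → 2 * #Γ < Fintype.card X →
    alternatingGroup X ≤ (toPermHom G X).range := by
  induction n using Nat.strong_induction_on with | _ n ih
  intro X _ _ _ _ hn hq Γ hΓ h1 h2
  classical
  have := qp_trans hq hΓ h1
  refine alt_le (prim_of_rel fun r hr hi => by_contra fun H => ?_) hΓ h1 h2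
  obtain ⟨h3, h4⟩ := not_or.1 H
  obtain ⟨h5, h6, h7⟩ := qp hq hΓ h1 hr hi h4
  let s : Setoid X := ⟨r, hr⟩
  let _ : MulAction G (Quotient s) :=
    { smul := fun g => Quotient.map (g • ·) (hi g)
      one_smul := Quotient.ind fun x => congrArg _ (one_smul G x)
      mul_smul := fun g k => Quotient.ind fun x => congrArg _ (mul_smul g k x) }
  have e : ∀ (g : G) (x : X), g • (⟦x⟧ : Quotient s) = ⟦g • x⟧ := fun _ _ => rfl
  have : FaithfulSMul G (Quotient s) := faithfulSMul_iff.2 fun g hg => h5 g fun x => Quotient.exact (hg ⟦x⟧)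
  have m : ∀ x, ⟦x⟧ ∈ Γ.image (Quotient.mk s) ↔ x ∈ Γ := fun x => ⟨fun h =>
    let ⟨y, a, b⟩ := mem_image.1 h; h7 y a x (Quotient.exact b), mem_image_of_mem _⟩
  push Not at h3 h6
  obtain ⟨x, y, h3, h8⟩ := h3
  obtain ⟨p, hp, q, hq', h6⟩ := h6
  have c : ∀ a : Quotient s, #{z | ⟦z⟧ = a} = #{z | (⟦z⟧ : Quotient s) = ⟦p⟧} := Quotient.ind fun a => by
    obtain ⟨g, rfl⟩ := exists_smul_eq G a p
    exact card_equiv (toPerm g) fun z => by simp [← e]
  have c1 := mul_card_image_le_card Γ (f := Quotient.mk s) _ fun a ha => (c a).symm.trans_le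
    (card_le_card fun z hz => mem_filter.2 ⟨(m z).1 ((mem_filter.1 hz).2 ▸ ha), (mem_filter.1 hz).2⟩)
  have c2 := card_le_mul_card_image univ (f := Quotient.mk s) _ fun a _ => (c a).le
  have c3 : 2 * #(Γ.image (Quotient.mk s)) < Fintype.card (Quotient s) := by
    rw [image_univ_of_surjective Quotient.mk_surjective, card_univ, card_univ] at c2
    exact Nat.lt_of_mul_lt_mul_left (a := #{z | (⟦z⟧ : Quotient s) = ⟦p⟧}) (by nlinarith)
  have c4 : 1 < #(Γ.image (Quotient.mk s)) :=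
    one_lt_card.2 ⟨_, (m p).2 hp, _, (m q).2 hq', fun f => h6 (Quotient.exact f)⟩
  have A := ih _ (hn ▸ Fintype.card_lt_of_surjective_not_injective _ Quotient.mk_surjective
    fun f => h8 (f (Quotient.sound h3))) (Quotient s) rfl (fun N a b => ⟨Quotient.ind fun x => Quotient.ind
      fun y => ((hq N a b).exists_smul_eq x y).imp fun _ e => congrArg _ e⟩) (Γ.image (Quotient.mk s))
    (Quotient.ind fun x hx => Quotient.ind fun y hy => (hΓ x ((m x).1 hx) y ((m y).1 hy)).imp fun g e =>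
      ⟨Quotient.ind fun z hz => congrArg _ (e.1 z (mt (m z).2 hz)), congrArg _ e.2⟩) c4 c3
  obtain ⟨g, rfl⟩ := exists_smul_eq G x p
  obtain ⟨f, f1, f2⟩ := hΓ _ hp _ (h7 _ hp _ (hi g _ _ h3))
  obtain ⟨a, ha, b, hb, ab⟩ := one_lt_card.1 (show 1 < #(Γ.image (Quotient.mk s))ᶜ by
    rw [card_compl]; omega)
  rw [mem_compl] at ha hb
  have n1 : ∀ a ∉ Γ.image (Quotient.mk s), f • a = a ∧ ⟦g • x⟧ ≠ a := Quotient.ind fun z hz =>
    ⟨congrArg _ (f1 z (mt (m z).2 hz)), fun e => hz (e ▸ (m _).2 hp)⟩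
  obtain ⟨k, hk⟩ := A (Equiv.Perm.isThreeCycle_swap_mul_swap_same (n1 a ha).2 (n1 b hb).2 ab).mem_alternatingGroup
  have n2 : f • (⟦g • x⟧ : Quotient s) = ⟦g • x⟧ := by rw [e, f2]; exact (Quotient.sound (hi g _ _ h3)).symm
  have n3 : f * k = k * f := toPerm_injective (β := Quotient s) (by
    change toPermHom G _ _ = toPermHom G _ _
    have : ∀ a ∉ Γ.image (Quotient.mk s), Commute (toPermHom G _ f) (Equiv.swap ⟦g • x⟧ a) := fun a ha =>
      (Equiv.mul_swap_eq_swap_mul ..).trans (by simp [n2, n1 a ha])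
    rw [map_mul, map_mul, hk]
    exact (this a ha).mul_right (this b hb))
  have n4 : ⟦k • g • x⟧ = b := by
    simpa [e, Equiv.swap_apply_of_ne_of_ne (n1 b hb).2.symm ab.symm] using Equiv.congr_fun hk ⟦g • x⟧
  have := f1 _ (mt (m _).2 (n4 ▸ hb))
  rw [← mul_smul, n3, mul_smul, f2] at this
  exact h8 (by simpa using this.symm)

end CA.JSet
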