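import Mathlib
import Cfsg.Agent.S0998
import Cfsg.Agent.S0496
import Cfsg.Agent.S0494
import Cfsg.Agent.S0495
import Cfsg.Agent.S0255
import Cfsg.Agent.S0989
import Cfsg.Agent.S0990
import Cfsg.Agent.S0991
import Cfsg.Agent.S1016
import Cfsg.Agent.S1017
import Cfsg.Agent.Lib.Lin.A8GL4
import Cfsg.Agent.Lib.Lin.SLnCard
import Cfsg.Agent.Lib.Perm.AutAn
import Cfsg.Agent.Lib.Grp.Core
import Cfsg.Agent.Lib.Grp.Subn
import Cfsg.Agent.Lib.Char.CharBurn
import Cfsg.Agent.Lib.Perm.PrimeDeg

/-! Subgroups of `A₈`. -/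

namespace CA.SubA8
open Subgroup Cfsg MulAction

abbrev A8 := alternatingGroup (Fin 8)

variable {H : Type*} [Group H] [Finite H]

theorem not_comm_alt {n : ℕ} (h : 4 ≤ n) : ¬ IsMulCommutative (alternatingGroup (Fin n)) := by
  rw [alternatingGroup.isMulCommutative_iff_card_le_three]
  simp only [Nat.card_fin]; omega

theorem idx (f : H →* A8) (hf : Function.Injective f) :
    Nat.card H ∣ 20160 ∧ (Nat.card H = 20160 ∨ Nat.card H ≤ 2520) := by
  have h1 : Nat.card f.range = Nat.card H :=
    (Nat.card_congr (MonoidHom.ofInjective hf).toEquiv).symm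
  have h2 := f.range.card_mul_index
  rw [h1, CA.A8GL4.card_A8] at h2
  refine ⟨Dvd.intro _ h2, ?_⟩
  by_cases ht : f.range = ⊤
  · left; rw [ht, index_top] at h2; omega
  · right
    have : IsSimpleGroup A8 := alternatingGroup.isSimpleGroup (by simp)
    obtain ⟨g, hg⟩ := Cfsg.Agent.S0991.result (not_comm_alt (n := 8) (by norm_num)) f.range ht
    have h3 := Nat.card_le_card_of_injective g hg
    have h4 : Nat.card (alternatingGroup (Fin f.range.index)) ≤ f.range.index.factorial := by
      have := Nat.card_le_card_of_injective _ (alternatingGroup (Fin f.range.index)).subtype_injective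
      rwa [Nat.card_perm, Nat.card_fin] at this
    rw [CA.A8GL4.card_A8] at h3
    by_contra hc
    have h5 : f.range.index ≤ 7 := by nlinarith
    have := Nat.factorial_le h5
    have h6 : Nat.factorial 7 = 5040 := rfl
    omega

theorem norm7 (f : H →* A8) (hf : Function.Injective f) (P : Subgroup H) (hP : Nat.card P = 7) :
    Nat.card (normalizer (P : Set H)) ∣ 21 := by
  have : Fact (Nat.Prime 7) := ⟨by norm_num⟩
  have h1 : Nat.card ((P.map f).map A8.subtype) = 7 := by
    rw [card_map_of_injective A8.subtype_injective, card_map_of_injective hf, hP]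
  let Q : Sylow 7 (Equiv.Perm (Fin 8)) := Sylow.ofCard ((P.map f).map A8.subtype) (by
    rw [h1, Nat.card_perm, Nat.card_fin]
    have : (Nat.factorial 8).factorization 7 = 1 := by decide +kernel
    rw [this]; rfl)
  have a := Cfsg.Agent.S0989.result (α := Fin 8) 7 (by simp) Q
  have b := (Cfsg.Agent.S0990.result (α := Fin 8) (by simp) 7 (by norm_num) Q).2
  have e : (Q : Subgroup (Equiv.Perm (Fin 8))).subgroupOf A8 = P.map f :=
    comap_map_eq_self_of_injective A8.subtype_injective _
  rw [a, e] at b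
  have c := card_dvd_of_le (le_normalizer_map (H := P) f)
  rw [card_map_of_injective hf] at c
  have d : 2 * Nat.card (normalizer ((P.map f : Subgroup A8) : Set A8)) = 7 * (7 - 1) := b
  have d' : Nat.card (normalizer ((P.map f : Subgroup A8) : Set A8)) = 21 := by omega
  exact d' ▸ c

theorem syl7 (f : H →* A8) (hf : Function.Injective f) (h7 : 7 ∣ Nat.card H) :
    ∃ n, n % 7 = 1 ∧ (Nat.card H = 7 * n ∨ Nat.card H = 21 * n) := by
  have : Fact (Nat.Prime 7) := ⟨by norm_num⟩
  obtain ⟨P⟩ : Nonempty (Sylow 7 H) := inferInstance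
  have hd := (idx f hf).1
  have hP : Nat.card P = 7 := by
    rw [P.card_eq_multiplicity]
    have h1 : (Nat.card H).factorization 7 ≤ 1 := by
      have := (Nat.factorization_le_iff_dvd Nat.card_pos.ne' (by norm_num)).2 hd 7
      have h2 : (20160 : ℕ).factorization 7 = 1 := by decide +kernel
      rwa [h2] at this
    have h2 : 1 ≤ (Nat.card H).factorization 7 :=
      (Nat.Prime.dvd_iff_one_le_factorization (by norm_num) Nat.card_pos.ne').1 h7
    rw [le_antisymm h1 h2]; rfl
  have h1 := norm7 f hf P hP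
  have h2 := card_dvd_of_le (le_normalizer (H := (P : Subgroup H)))
  rw [hP] at h2
  have h3 := card_sylow_modEq_one 7 H
  rw [P.card_eq_index_normalizer] at h3
  have h4 := (normalizer ((P : Subgroup H) : Set H)).card_mul_index
  refine ⟨_, h3, ?_⟩
  have h5 := Nat.le_of_dvd (by norm_num) h1
  generalize Nat.card (normalizer ((P : Subgroup H) : Set H)) = m at *
  have : m = 7 ∨ m = 21 := by interval_cases m <;> simp_all
  rcases this with rfl | rfl
  · exact Or.inl h4.symm
  · exact Or.inr h4.symm

theorem simple_card [IsSimpleGroup H] (hH : ¬ IsMulCommutative H) (f : H →* A8)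
    (hf : Function.Injective f) : Nat.card H = 60 ∨ Nat.card H = 168 ∨ Nat.card H = 360 ∨
      Nat.card H = 2520 ∨ Nat.card H = 20160 := by
  obtain ⟨hd, h1⟩ := idx f hf
  have h7 := syl7 f hf
  by_cases h2 : Nat.card H ≤ 1092
  · rcases Cfsg.Agent.S0496.result hH h2 with h | h | h | h | h | h
    · omega
    · omega
    · omega
    · obtain ⟨n, h3, h4⟩ := h7 (by rw [h]; norm_num); omega
    · rw [h] at hd; norm_num at hd
    · rw [h] at hd; norm_num at hd
  · have a := Cfsg.Agent.S1016.result (G := H)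
    have b := Cfsg.Agent.S1017.result (G := H)
    have c : Nat.card H ≠ 1344 := fun h => by
      rcases Cfsg.Agent.S0998.result (G := H) (fun hc => hH inferInstance) 3 2 7 6 (by norm_num)
        (by norm_num) (by norm_num) (by norm_num) (by norm_num) (by norm_num) (by rw [h]; norm_num)
        with ⟨F, _, _, hF, ⟨e⟩⟩ | ⟨F, _, _, hF, ⟨e⟩⟩
      all_goals
        have h3 := CA.SLnCard.card_PSL2_odd (F := F) (by rw [Nat.card_eq_fintype_card, hF]; decide)
        rw [← Nat.card_congr e.toEquiv, h, Nat.card_eq_fintype_card, hF] at h3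
        norm_num at h3
    obtain ⟨k, hk⟩ := hd
    rcases h1 with h1 | h1
    · omega
    have k1 : 8 ≤ k := by nlinarith
    have k2 : k ≤ 18 := by nlinarith
    have : Nat.card H = 2520 ∨ Nat.card H = 2240 ∨ Nat.card H = 1680 ∨ Nat.card H = 1260 ∨
        Nat.card H = 1120 := by
      interval_cases k <;> omega
    rcases this with h | h | h | h | h
    · omega
    all_goals
      obtain ⟨n, h3, h4⟩ := h7 (by rw [h]; norm_num); omega

/-- a minimal normal subgroup whose order is exactly divisible by a prime is simple -/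
theorem simple_of_min {T : Subgroup H} [T.Normal] {p : ℕ} (hp : p.Prime)
    (hmin : ∀ K : Subgroup H, K.Normal → K ≤ T → K = ⊥ ∨ K = T) (h1 : p ∣ Nat.card T)
    (h2 : ¬ p * p ∣ Nat.card T) : IsSimpleGroup T := by
  have : Fact p.Prime := ⟨hp⟩
  obtain ⟨x, hx⟩ := exists_prime_orderOf_dvd_card' p h1
  have hx1 : x ≠ 1 := by rintro rfl; rw [orderOf_one] at hx; exact hp.one_lt.ne hx
  have : Nontrivial T := ⟨x, 1, hx1⟩
  refine ⟨fun S hS => ?_⟩
  by_cases hd : p ∣ Nat.card S
  · right
    have hK : normalClosure {y : H | y ∈ T ∧ y ^ p = 1} ≤ S.map T.subtype := by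
      refine (closure_le _).2 fun y hy => ?_
      obtain ⟨z, ⟨hz1, hz2⟩, hc⟩ := Group.mem_conjugatesOfSet_iff.1 hy
      obtain ⟨c, rfl⟩ := isConj_iff.1 hc
      have m : c * z * c⁻¹ ∈ T := Normal.conj_mem inferInstance z hz1 c
      refine ⟨⟨_, m⟩, ?_, rfl⟩
      have e1 : (⟨_, m⟩ : T) ^ p = 1 := Subtype.ext (by
        show (c * z * c⁻¹) ^ p = 1
        rw [conj_pow, hz2]; simp)
      have e2 : orderOf (QuotientGroup.mk' S ⟨_, m⟩) ∣ p := by
        rw [orderOf_dvd_iff_pow_eq_one, ← map_pow, e1, map_one]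
      have e3 : orderOf (QuotientGroup.mk' S ⟨_, m⟩) ∣ S.index := orderOf_dvd_natCard _
      rcases (Nat.dvd_prime hp).1 e2 with e | e
      · exact (QuotientGroup.eq_one_iff _).1 (orderOf_eq_one_iff.1 e)
      · rw [e] at e3
        exact absurd (S.card_mul_index ▸ Nat.mul_dvd_mul hd e3) h2
    have hK2 : normalClosure {y : H | y ∈ T ∧ y ^ p = 1} ≤ T :=
      hK.trans (map_subtype_le S)
    rcases hmin _ inferInstance hK2 with h | h
    · have : (x : H) ∈ normalClosure {y : H | y ∈ T ∧ y ^ p = 1} :=
        subset_normalClosure ⟨x.2, by rw [← hx]; exact congrArg Subtype.val (pow_orderOf_eq_one x)⟩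
      rw [h, mem_bot] at this
      exact absurd (Subtype.ext this) hx1
    · rw [h] at hK
      refine top_le_iff.1 fun y _ => ?_
      obtain ⟨z, hz, e⟩ := hK y.2
      exact (Subtype.ext e : z = y) ▸ hz
  · left
    have h3 : S ≤ pPrimeCore p T := CA.Core.le_pPrimeCore ((Nat.Prime.coprime_iff_not_dvd hp).2 hd).symm
    rcases hmin ((pPrimeCore p T).map T.subtype) inferInstance (map_subtype_le _) with h | h
    · rw [map_eq_bot_iff_of_injective _ T.subtype_injective] at h
      exact le_bot_iff.1 (h ▸ h3)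
    · have := CA.Core.coprime_map_pPrimeCore (p := p) T
      rw [h] at this
      exact absurd h1 ((Nat.Prime.coprime_iff_not_dvd hp).1 this.symm)

theorem min_simple (f : H →* A8) (hf : Function.Injective f) {T : Subgroup H} [T.Normal]
    (hmin : ∀ K : Subgroup H, K.Normal → K ≤ T → K = ⊥ ∨ K = T) (hs : ¬ Group.IsSolvable T) :
    IsSimpleGroup T := by
  have hd := (idx (f.comp T.subtype) (hf.comp T.subtype_injective)).1
  by_cases h5 : 5 ∣ Nat.card T
  · exact simple_of_min (by norm_num) hmin h5 fun h => by have := h.trans hd; norm_num at this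
  by_cases h7 : 7 ∣ Nat.card T
  · exact simple_of_min (by norm_num) hmin h7 fun h => by have := h.trans hd; norm_num at this
  refine absurd (CChar.CharBurn.isSolvable_of_primes (p := 2) (q := 3) fun r hr h => ?_) hs
  have h1 : r ∣ 2 ^ 6 * 3 ^ 2 * 5 * 7 := h.trans hd
  rcases (hr.dvd_mul).1 h1 with h1 | h1
  · rcases (hr.dvd_mul).1 h1 with h1 | h1
    · rcases (hr.dvd_mul).1 h1 with h1 | h1
      · exact Or.inl ((Nat.prime_dvd_prime_iff_eq hr Nat.prime_two).1 (hr.dvd_of_dvd_pow h1))
      · exact Or.inr ((Nat.prime_dvd_prime_iff_eq hr Nat.prime_three).1 (hr.dvd_of_dvd_pow h1))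
    · exact absurd (((Nat.prime_dvd_prime_iff_eq hr (by norm_num)).1 h1) ▸ h) h5
  · exact absurd (((Nat.prime_dvd_prime_iff_eq hr (by norm_num)).1 h1) ▸ h) h7

theorem of_inj_sym {α : Type*} [Fintype α] {n : ℕ} (hn : Fintype.card α = n) (g : H →* Equiv.Perm α)
    (hg : Function.Injective g) (h : n.factorial ≤ 2 * Nat.card H) :
    Nonempty (H ≃* alternatingGroup (Fin n)) ∨ Nonempty (H ≃* Equiv.Perm (Fin n)) := by
  let g' : H →* Equiv.Perm (Fin n) :=
    (Fintype.equivFinOfCardEq hn).permCongrHom.toMonoidHom.comp g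
  have hg' : Function.Injective g' := (Fintype.equivFinOfCardEq hn).permCongrHom.injective.comp hg
  have e := MonoidHom.ofInjective hg'
  have h1 := g'.range.card_mul_index
  rw [← Nat.card_congr e.toEquiv, Nat.card_perm, Nat.card_fin] at h1
  have h2 : 0 < Nat.card H := Nat.card_pos
  have h3 : g'.range.index ≤ 2 := by nlinarith
  have h4 : g'.range.index ≠ 0 := index_ne_zero_of_finite
  rcases (by omega : g'.range.index = 1 ∨ g'.range.index = 2) with h5 | h5
  · right
    rw [index_eq_one] at h5
    exact ⟨e.trans ((MulEquiv.subgroupCongr h5).trans topEquiv)⟩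
  · left
    exact ⟨e.trans (MulEquiv.subgroupCongr (Equiv.Perm.eq_alternatingGroup_of_index_eq_two h5))⟩

/-- restriction of a permutation representation to an invariant subset -/
def res {α : Type*} (φ : H →* Equiv.Perm α) (p : α → Prop) (h : ∀ g x, p (φ g x) ↔ p x) :
    H →* Equiv.Perm {x // p x} where
  toFun g := (φ g).subtypePerm (h g)
  map_one' := by ext x; simp
  map_mul' a b := by ext x; simp; rfl

theorem card_2520 (f : H →* A8) (hf : Function.Injective f) (h : Nat.card H = 2520) :
    Nonempty (H ≃* alternatingGroup (Fin 7)) := by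
  classical
  have : IsSimpleGroup A8 := alternatingGroup.isSimpleGroup (by simp)
  have h1 : Nat.card f.range = Nat.card H :=
    (Nat.card_congr (MonoidHom.ofInjective hf).toEquiv).symm
  have h2 := f.range.card_mul_index
  rw [h1, CA.A8GL4.card_A8, h] at h2
  have h3 : f.range.index = 8 := by omega
  have hk : (toPermHom A8 (A8 ⧸ f.range)).ker = ⊥ := by
    rw [← normalCore_eq_ker]
    refine (f.range.normalCore_normal.eq_bot_or_eq_top).resolve_right fun e => ?_
    have := f.range.normalCore_le
    rw [e, top_le_iff] at this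
    rw [this, index_top] at h3
    omega
  let φ := (toPermHom A8 (A8 ⧸ f.range)).comp f
  have hφ : Function.Injective φ := ((MonoidHom.ker_eq_bot_iff _).1 hk).comp hf
  let x₀ : A8 ⧸ f.range := ((1 : A8) : A8 ⧸ f.range)
  have h0 : ∀ g, φ g x₀ = x₀ := fun g => by
    show ((f g * 1 : A8) : A8 ⧸ f.range) = ((1 : A8) : A8 ⧸ f.range)
    rw [QuotientGroup.eq]
    simp
  have hp : ∀ g x, φ g x ≠ x₀ ↔ x ≠ x₀ := fun g x => by
    conv_lhs => rw [← h0 g]
    exact (φ g).injective.ne_iff
  have := Fintype.ofFinite (A8 ⧸ f.range)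
  have hc : Fintype.card {x // x ≠ x₀} = 7 := by
    rw [Fintype.card_subtype_compl, Fintype.card_subtype_eq, ← Nat.card_eq_fintype_card]
    exact congrArg (· - 1) h3
  have hi : Function.Injective (res φ (· ≠ x₀) hp) := by
    rw [injective_iff_map_eq_one]
    intro g hg
    apply hφ
    rw [map_one]
    ext x
    by_cases hx : x = x₀
    · rw [hx]; exact h0 g
    · exact congrArg Subtype.val (Equiv.congr_fun hg ⟨x, hx⟩)
  rcases of_inj_sym hc _ hi (by rw [h]; decide) with h4 | ⟨⟨e⟩⟩
  · exact h4
  · have := Nat.card_congr e.toEquiv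
    rw [h, Nat.card_perm, Nat.card_fin] at this
    exact absurd this (by decide)

theorem no45 [IsSimpleGroup H] (h : Nat.card H = 360) (S : Subgroup H) : S.index ≠ 8 := by
  intro hS
  have : Fact (Nat.Prime 5) := ⟨by norm_num⟩
  have h1 := S.card_mul_index
  rw [hS, h] at h1
  have h2 : Nat.card S = 45 := by omega
  obtain ⟨P⟩ : Nonempty (Sylow 5 S) := inferInstance
  have hP : Nat.card P = 5 := by
    rw [P.card_eq_multiplicity, h2]; decide +kernel
  have a := card_sylow_modEq_one 5 S
  have b := P.card_dvd_index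
  have c := (P : Subgroup S).card_mul_index
  rw [hP, h2] at c
  have d : (P : Subgroup S).index = 9 := by omega
  rw [d] at b
  have e : Nat.card (Sylow 5 S) = 1 := by
    have := Nat.le_of_dvd (by norm_num) b
    generalize Nat.card (Sylow 5 S) = m at *
    unfold Nat.ModEq at a
    interval_cases m <;> simp_all
  have : Subsingleton (Sylow 5 S) := (Nat.card_eq_one_iff_unique.1 e).1
  have hn := P.normal_of_subsingleton
  have hQ : Nat.card ((P : Subgroup S).map S.subtype) = 5 := by
    rw [card_map_of_injective S.subtype_injective, hP]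
  let Q : Sylow 5 H := Sylow.ofCard ((P : Subgroup S).map S.subtype) (by
    rw [hQ, h]; decide +kernel)
  have hle : S ≤ normalizer ((Q : Subgroup H) : Set H) := by
    have := le_normalizer_map (H := (P : Subgroup S)) S.subtype
    rwa [normalizer_eq_top, ← MonoidHom.range_eq_map, range_subtype] at this
  have a' := card_sylow_modEq_one 5 H
  rw [Q.card_eq_index_normalizer] at a'
  have b' := index_dvd_of_le hle
  rw [hS] at b'
  have e' : (normalizer ((Q : Subgroup H) : Set H)).index = 1 := by
    have := Nat.le_of_dvd (by norm_num) b'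
    generalize (normalizer ((Q : Subgroup H) : Set H)).index = m at *
    unfold Nat.ModEq at a'
    interval_cases m <;> simp_all
  rw [index_eq_one, normalizer_eq_top_iff] at e'
  have hQ' : Nat.card (Q : Subgroup H) = 5 := hQ
  rcases e'.eq_bot_or_eq_top with e | e
  · rw [e, card_bot] at hQ'; omega
  · rw [e, card_top] at hQ'; omega

theorem supp_360 [IsSimpleGroup H] (hH : ¬ IsMulCommutative H) (h : Nat.card H = 360)
    (φ : H →* Equiv.Perm (Fin 8)) : Nat.card {x // ∃ t, φ t x ≠ x} ≤ 6 := by
  classical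
  letI : MulAction H (Fin 8) := MulAction.compHom _ φ
  have key : ∀ x : Fin 8, (∃ t, φ t x ≠ x) → (orbit H x).ncard = 6 := by
    rintro x ⟨t, ht⟩
    have h1 := index_stabilizer H x
    have h2 : stabilizer H x ≠ ⊤ := fun e => ht (show t ∈ stabilizer H x from e ▸ mem_top t)
    obtain ⟨g, hg⟩ := Cfsg.Agent.S0991.result hH _ h2
    have h3 := Nat.card_le_card_of_injective g hg
    have h4 : Nat.card (alternatingGroup (Fin (stabilizer H x).index)) ≤
        (stabilizer H x).index.factorial := by
      have := Nat.card_le_card_of_injective _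
        (alternatingGroup (Fin (stabilizer H x).index)).subtype_injective
      rwa [Nat.card_perm, Nat.card_fin] at this
    have h5 := no45 h (stabilizer H x)
    have h6 := (stabilizer H x).index_dvd_card
    have h7 : (orbit H x).ncard ≤ 8 := by simpa using Set.ncard_le_card (orbit H x)
    rw [← h1] at h7 ⊢
    rw [h] at h3 h6
    have h8 := h3.trans h4
    clear h3 h4 hg g h1 h2
    generalize (stabilizer H x).index = k at *
    interval_cases k <;> simp_all [Nat.factorial]
  by_contra hc
  have hne : Nonempty {x // ∃ t, φ t x ≠ x} := (Nat.card_pos_iff.1 (by omega)).1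
  obtain ⟨x, hx⟩ := hne
  have h1 : ¬ {y | ∃ t, φ t y ≠ y} ⊆ orbit H x := fun hs => by
    have := Set.ncard_le_ncard hs
    rw [key x hx, ← Nat.card_coe_set_eq] at this
    exact hc this
  obtain ⟨y, hy, hy'⟩ := Set.not_subset.1 h1
  have hd : Disjoint (orbit H x) (orbit H y) := by
    rw [Set.disjoint_left]
    intro z h1 h2
    rw [← orbit_eq_iff.2 h1, orbit_eq_iff.2 h2] at hy'
    exact hy' (mem_orbit_self y)
  have := Set.ncard_le_card (orbit H x ∪ orbit H y)
  rw [Set.ncard_union_eq hd, key x hx, key y hy] at this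
  simp at this

def Concl (H : Type*) [Group H] : Prop :=
  (∃ n : ℕ, 5 ≤ n ∧ n ≤ 8 ∧ Nonempty (H ≃* alternatingGroup (Fin n))) ∨
    Nonempty (H ≃* Equiv.Perm (Fin 5)) ∨ Nonempty (H ≃* Equiv.Perm (Fin 6)) ∨
      Nonempty (H ≃* GL (Fin 3) (ZMod 2))

theorem iso_168 [IsSimpleGroup H] (h : Nat.card H = 168) : Nonempty (H ≃* GL (Fin 3) (ZMod 2)) := by
  have : Fact (Nat.Prime 7) := ⟨by norm_num⟩
  obtain ⟨e1⟩ := Cfsg.Agent.S0495.result h (F := ZMod 7) (by simp)
  obtain ⟨e2⟩ := Cfsg.Agent.S0255.result (F := ZMod 7) (K := ZMod 2) (by simp) (by simp)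
  exact ⟨e1.trans (e2.trans ((CA.A8GL4.pslEquivSL (n := 3) (by norm_num) (by simp)).trans
    (CA.A8GL4.slEquivGL (by simp))))⟩

theorem top_of_168 (f : H →* A8) (hf : Function.Injective f) (T : Subgroup H) [T.Normal]
    (h : Nat.card T = 168) : T = ⊤ := by
  have : Fact (Nat.Prime 7) := ⟨by norm_num⟩
  obtain ⟨P⟩ : Nonempty (Sylow 7 T) := inferInstance
  have hP : Nat.card P = 7 := by
    rw [P.card_eq_multiplicity, h]; decide +kernel
  have h1 := norm7 f hf ((P : Subgroup T).map T.subtype) (by
    rw [card_map_of_injective T.subtype_injective, hP])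
  have h2 := le_normalizer_map (H := (P : Subgroup T)) T.subtype
  have h3 := norm7 (f.comp T.subtype) (hf.comp T.subtype_injective) P hP
  have h4 := card_sylow_modEq_one 7 T
  rw [P.card_eq_index_normalizer] at h4
  have h5 := (normalizer ((P : Subgroup T) : Set T)).card_mul_index
  have h6 := card_dvd_of_le (le_normalizer (H := (P : Subgroup T)))
  rw [hP] at h6
  have h7 : Nat.card (normalizer ((P : Subgroup T) : Set T)) = 21 := by
    have := Nat.le_of_dvd (by norm_num) h3
    unfold Nat.ModEq at h4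
    generalize Nat.card (normalizer ((P : Subgroup T) : Set T)) = m at *
    interval_cases m <;> simp_all <;> omega
  have h8 := eq_of_le_of_card_ge h2 (by
    rw [card_map_of_injective T.subtype_injective, h7]; exact Nat.le_of_dvd (by norm_num) h1)
  have h9 := P.normalizer_sup_eq_top
  rw [← h8, sup_of_le_right (map_subtype_le _)] at h9
  exact h9

theorem main [Nontrivial H] (f : H →* A8) (hf : Function.Injective f)
    (hs : ∀ N : Subgroup H, N.Normal → Group.IsSolvable N → N = ⊥) : Concl H := by
  classical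
  have mins : ∀ N : Subgroup H, N.Normal → N ≠ ⊥ → ∃ T : Subgroup H, T ≤ N ∧ T.Normal ∧
      IsSimpleGroup T ∧ ¬ IsMulCommutative T := fun N _ hN => by
    obtain ⟨T, h1, h2, h3, h4⟩ := CA.Subn.exists_minimal_normal hN
    have h5 : ¬ Group.IsSolvable T := fun h => h2 (hs T h3 h)
    exact ⟨T, h1, h3, min_simple f hf h4 h5,
      fun h => h5 (CA.Core.isSolvable_of_isMulCommutative h)⟩
  obtain ⟨hd, h1 | h1⟩ := idx f hf
  · refine Or.inl ⟨8, by norm_num, le_rfl, ⟨MulEquiv.ofBijective f ?_⟩⟩
    rw [Nat.bijective_iff_injective_and_card]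
    exact ⟨hf, by rw [h1, CA.A8GL4.card_A8]⟩
  obtain ⟨T, -, hT, hT1, hT2⟩ := mins ⊤ inferInstance top_ne_bot
  have cT := simple_card hT2 (f.comp T.subtype) (hf.comp T.subtype_injective)
  have hTle := card_le_card_group T
  have hC : centralizer (T : Set H) = ⊥ := by
    by_contra hC
    obtain ⟨U, hU0, hU, hU1, hU2⟩ := mins _ inferInstance hC
    have cU := simple_card hU2 (f.comp U.subtype) (hf.comp U.subtype_injective)
    have hi : T ⊓ U = ⊥ := by
      refine hs _ inferInstance (CA.Core.isSolvable_of_isMulCommutative ⟨⟨fun a b => ?_⟩⟩)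
      exact Subtype.ext (hU0 b.2.2 a a.2.1)
    have hc : Nat.card T * Nat.card U ≤ Nat.card H := by
      rw [← Nat.card_prod]
      refine Nat.card_le_card_of_injective (fun p : T × U => (p.1 : H) * p.2) ?_
      exact mul_injective_of_disjoint (disjoint_iff.2 hi)
    have h60 : 60 ≤ Nat.card T := by omega
    have h60' : 60 ≤ Nat.card U := by omega
    nlinarith
  rcases cT with h | h | h | h | h
  · obtain ⟨e⟩ := Cfsg.Agent.S0494.result h
    let e2 : Equiv.Perm (Fin 5) ≃* MulAut (alternatingGroup (Fin 5)) :=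
      MulEquiv.ofBijective MulAut.conjNormal ⟨CA.AutAn.conjNormal_injective (by simp),
        CA.AutAn.exists_conj (by simp) (by simp)⟩
    let g : H →* Equiv.Perm (Fin 5) :=
      (e2.symm.toMonoidHom.comp (MulAut.congr e).toMonoidHom).comp MulAut.conjNormal
    have hg : Function.Injective g := by
      refine (e2.symm.injective.comp (MulAut.congr e).injective).comp ?_
      rw [injective_iff_map_eq_one]
      intro x hx
      rw [← mem_bot, ← hC]
      intro t ht
      have := congrArg Subtype.val (MulEquiv.congr_fun hx ⟨t, ht⟩)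
      simp only [MulAut.conjNormal_apply, MulAut.one_apply] at this
      exact (mul_inv_eq_iff_eq_mul.1 this).symm
    rcases of_inj_sym (n := 5) (by simp) g hg (by
      have : Nat.factorial 5 = 120 := rfl
      omega) with h2 | h2
    · exact Or.inl ⟨5, le_rfl, by norm_num, h2⟩
    · exact Or.inr (Or.inl h2)
  · have := top_of_168 f hf T h
    subst this
    have : IsSimpleGroup H := topEquiv.symm.isSimpleGroup
    exact Or.inr (Or.inr (Or.inr (iso_168 (by rwa [card_top] at h))))
  · let φ := A8.subtype.comp f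
    have hφ : Function.Injective φ := A8.subtype_injective.comp hf
    have h2 := supp_360 hT2 h (φ.comp T.subtype)
    rw [Nat.card_eq_fintype_card] at h2
    have hp0 : ∀ g x, (∃ t : T, φ.comp T.subtype t x ≠ x) → ∃ t : T, φ.comp T.subtype t (φ g x) ≠ φ g x := by
      rintro g x ⟨t, ht⟩
      refine ⟨⟨g * t * g⁻¹, hT.conj_mem _ t.2 g⟩, fun e => ht ?_⟩
      apply (φ g).injective
      simpa using e
    have hp : ∀ g x, (∃ t : T, φ.comp T.subtype t (φ g x) ≠ φ g x) ↔
        ∃ t : T, φ.comp T.subtype t x ≠ x := fun g x =>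
      ⟨fun h => by simpa using hp0 g⁻¹ _ h, hp0 g x⟩
    have hi : Function.Injective (res φ (fun x => ∃ t : T, φ.comp T.subtype t x ≠ x) hp) := by
      rw [injective_iff_map_eq_one]
      intro g hg
      rw [← mem_bot, ← hC]
      intro t ht
      apply hφ
      have a : ∀ x, (∃ t : T, φ.comp T.subtype t x ≠ x) → φ g x = x := fun x hx =>
        congrArg Subtype.val (Equiv.congr_fun hg ⟨x, hx⟩)
      ext1 x
      simp only [map_mul, Equiv.Perm.mul_apply]
      by_cases hx : ∃ t : T, φ.comp T.subtype t x ≠ x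
      · rw [a x hx, a _ (hp0 t x hx)]
      · have hx' := mt (hp g x).1 hx
        push Not at hx hx'
        rw [show φ t x = x from hx ⟨t, ht⟩]
        exact hx' ⟨t, ht⟩
    have h3 := Nat.card_le_card_of_injective _ hi
    rw [Nat.card_perm, Nat.card_eq_fintype_card (α := {x // _})] at h3
    have h4 : Fintype.card {x // ∃ t : T, φ.comp T.subtype t x ≠ x} = 6 := by
      by_contra h4
      have := Nat.factorial_le (show Fintype.card {x // ∃ t : T, φ.comp T.subtype t x ≠ x} ≤ 5 by omega)
      have : Nat.factorial 5 = 120 := rfl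
      omega
    rcases of_inj_sym h4 _ hi (by
      have : Nat.factorial 6 = 720 := rfl
      omega) with h2 | h2
    · exact Or.inl ⟨6, by norm_num, by norm_num, h2⟩
    · exact Or.inr (Or.inr (Or.inl h2))
  · exact Or.inl ⟨7, by norm_num, by norm_num, card_2520 f hf (by omega)⟩
  · omega

theorem solv_bot (hO : pPrimeCore 2 H = ⊥) (hO2 : pCore 2 H = ⊥) (N : Subgroup H) (hN : N.Normal)
    (h : Group.IsSolvable N) : N = ⊥ := by
  by_contra h0
  obtain ⟨T, h1, h2, h3, h4⟩ := CA.Subn.exists_minimal_normal h0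
  obtain ⟨-, p, hp, h5⟩ := CA.Subn.elemAb_of_minimal_normal (CA.Core.isSolvable_of_le h1 h) h2 h4
  have : Fact p.Prime := ⟨hp⟩
  have hP : IsPGroup p T := fun x => ⟨1, Subtype.ext (by simpa using h5 x x.2)⟩
  by_cases e : p = 2
  · subst e
    exact h2 (le_bot_iff.1 (hO2 ▸ CA.Core.le_pCore hP))
  · exact h2 (le_bot_iff.1 (hO ▸ CA.Core.le_pPrimeCore
      (CA.Core.coprime_card_of_isPGroup hP ((Nat.coprime_primes hp Nat.prime_two).2 e))))

theorem exists_emb : Nonempty (GL (Fin 4) (ZMod 2) ≃* A8) := by
  obtain ⟨e⟩ := CA.A8GL4.nonempty_SL (F := ZMod 2) (by simp)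
  exact ⟨(CA.A8GL4.slEquivGL (by simp)).symm.trans e⟩

theorem sign_eq_one [IsSimpleGroup H] (hH : ¬ IsMulCommutative H) (χ : H →* ℤˣ) (x : H) :
    χ x = 1 := by
  rcases χ.normal_ker.eq_bot_or_eq_top with h | h
  · refine absurd ⟨⟨fun a b => (MonoidHom.ker_eq_bot_iff _).1 h ?_⟩⟩ hH
    rw [map_mul, map_mul, mul_comm]
  · exact (show x ∈ χ.ker from h ▸ mem_top x)

/-- a subgroup containing a full Sylow `p`-subgroup of a finite group meets every class of
`p`-elements -/
theorem exists_conj_mem {p : ℕ} [Fact p.Prime] (K : Subgroup H) (h : ¬ p ∣ K.index) {x : H}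
    (hx : x ^ p = 1) : ∃ g : H, g * x * g⁻¹ ∈ K := by
  have hz : IsPGroup p (zpowers x) := by
    rintro ⟨_, k, rfl⟩
    refine ⟨1, Subtype.ext ?_⟩
    show (x ^ k) ^ p ^ 1 = 1
    rw [pow_one, ← zpow_natCast, ← zpow_mul, mul_comm, zpow_mul, zpow_natCast, hx, one_zpow]
  obtain ⟨g, hg⟩ := CChar.CharBurn.exists_conj_le_of_isPGroup Fact.out hz h
  have := hg (mem_zpowers x)
  rw [mem_pointwise_smul_iff_inv_smul_mem] at this
  exact ⟨g⁻¹, by simpa using this⟩

theorem deg7 {α : Type*} [Fintype α] [DecidableEq α] (hα : Fintype.card α = 7)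
    (G : Subgroup (Equiv.Perm α)) [IsPretransitive G α] (hG : ¬ Group.IsSolvable G)
    (hA : ¬ alternatingGroup α ≤ G) : Nat.card G = 168 ∧ IsSimpleGroup G := by
  have : Fact (Nat.Prime 7) := ⟨by norm_num⟩
  have hα' : Nat.card α = 7 := by rw [Nat.card_eq_fintype_card, hα]
  have hS : Nat.card (Equiv.Perm α) = 5040 := by rw [Nat.card_perm, hα']; rfl
  have : Nontrivial G := by
    by_contra h
    rw [not_nontrivial_iff_subsingleton] at h
    exact hG inferInstance
  obtain ⟨T, -, h2, h3, h4⟩ := CA.Subn.exists_minimal_normal (N := (⊤ : Subgroup G)) top_ne_bot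
  obtain ⟨P⟩ : Nonempty (Sylow 7 G) := inferInstance
  have hP := CA.PrimeDeg.card_sylow hα' P
  have hPT := CA.PrimeDeg.sylow_le_of_normal hα' P T h2
  have h7 : 7 ∣ Nat.card T := hP ▸ card_dvd_of_le hPT
  have hGd : Nat.card G ∣ 5040 := hS ▸ G.card_subgroup_dvd_card
  have hTd : Nat.card T ∣ 5040 := T.card_subgroup_dvd_card.trans hGd
  have hT : IsSimpleGroup T :=
    simple_of_min (by norm_num) h4 h7 fun h => by have := h.trans hTd; norm_num at this
  have hT2 : ¬ IsMulCommutative T := fun h => by
    letI : CommGroup T := { (inferInstance : Group T) with mul_comm := h.1.1 }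
    have h5 := (Nat.prime_dvd_prime_iff_eq (by norm_num) (IsSimpleGroup.prime_card (α := T))).1 h7
    have := eq_of_le_of_card_ge hPT (by omega)
    exact hG ((CA.PrimeDeg.isSolvable_iff hα' P).2 (this ▸ h3))
  obtain ⟨e⟩ : Nonempty (α ↪ Fin 8) := Function.Embedding.nonempty_of_card_le (by simp [hα])
  let G0 : Subgroup G := (Equiv.Perm.sign.comp G.subtype).ker
  let φ : G0 →* Equiv.Perm (Fin 8) :=
    (Equiv.Perm.extendDomainHom e.toEquivRange).comp (G.subtype.comp G0.subtype)
  have hφ : Function.Injective φ := (Equiv.Perm.extendDomainHom_injective e.toEquivRange).comp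
    (G.subtype_injective.comp G0.subtype_injective)
  let f : G0 →* A8 := φ.codRestrict A8 fun x => by
    rw [Equiv.Perm.mem_alternatingGroup]
    exact (Equiv.Perm.sign_extendDomain _ _).trans x.2
  have hf : Function.Injective f := fun a b h => hφ (congrArg Subtype.val h)
  have hT0 : T ≤ G0 := fun x hx =>
    sign_eq_one hT2 ((Equiv.Perm.sign.comp G.subtype).comp T.subtype) ⟨x, hx⟩
  rcases simple_card hT2 (f.comp (inclusion hT0)) (hf.comp (inclusion_injective hT0)) with
    h | h | h | h | h
  · rw [h] at h7; norm_num at h7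
  · have h5 := top_of_168 f hf (T.subgroupOf G0) (by
      rw [Nat.card_congr (subgroupOfEquivOfLe hT0).toEquiv, h])
    have h6 : G0 = T := le_antisymm (subgroupOf_eq_top.1 h5) hT0
    have h8 : G0.index ∣ 2 := by
      rw [index_ker]
      simpa using (Equiv.Perm.sign.comp G.subtype).range.card_subgroup_dvd_card
    have h9 := G0.card_mul_index
    rw [h6, h] at h9
    rw [h6] at h8
    rcases (Nat.dvd_prime Nat.prime_two).1 h8 with h8 | h8
    · rw [index_eq_one] at h8
      subst h8
      exact ⟨by rwa [card_top] at h, topEquiv.symm.isSimpleGroup⟩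
    · exfalso
      have h10 := G.card_mul_index
      rw [hS, ← h9, h8] at h10
      have : Nontrivial α := Fintype.one_lt_card_iff_nontrivial.1 (by omega)
      obtain ⟨a, b, hab⟩ := exists_pair_ne α
      obtain ⟨g, hg⟩ := exists_conj_mem (p := 2) G (by omega) (x := Equiv.swap a b) (by
        rw [pow_two, Equiv.swap_mul_self])
      rw [← Equiv.swap_apply_apply] at hg
      rw [Equiv.Perm.subgroup_eq_top_of_isPreprimitive_of_isSwap_mem (CA.PrimeDeg.preprimitive hα') _
        ⟨_, _, g.injective.ne hab, rfl⟩ hg] at hA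
      exact hA le_top
  · rw [h] at h7; norm_num at h7
  · refine absurd ?_ hA
    have h5 := (T.map G.subtype).card_mul_index
    rw [card_map_of_injective G.subtype_injective, h, hS] at h5
    rw [← Equiv.Perm.eq_alternatingGroup_of_index_eq_two (G := T.map G.subtype) (by omega)]
    exact map_subtype_le T
  · rw [h] at hTd; norm_num at hTd

end CA.SubA8
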