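import Mathlib
import Cfsg.Agent.Lib.Perm.JSet
import Cfsg.Agent.Lib.Perm.SubA8
import Cfsg.Agent.Lib.Grp.Fstar

/-! Permutation groups with quasisimple `F*` containing a small regular cycle group. -/

set_option autoImplicit false
open MulAction CA.PermBasic CA.PermMulti CA.PermJordan CA.Sharp4 Cfsg
open scoped Pointwise

namespace CA.QsAlt

variable {G X : Type*} [Group G] [MulAction G X] [Finite X]

theorem fix_small (hK : Group.IsPerfect G) (s : Set X) (hs : s.ncard ≤ 4)
    (hinv : ∀ k : G, ∀ x ∈ s, k • x ∈ s) (k : G) : ∀ x ∈ s, k • x = x := by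
  let T : SubMulAction G X := ⟨s, fun k x hx => hinv k x hx⟩
  have h1 : Group.IsSolvable (Equiv.Perm T) :=
    CChar.CharBurn.isSolvable_of_primes (p := 2) (q := 3) fun r hr hd => by
      rw [Nat.card_perm, hr.dvd_factorial] at hd
      have : r ≤ 4 := hd.trans hs
      interval_cases r <;> simp_all (config := {decide := true})
  have h2 : (toPermHom G T).range = ⊥ := CA.Fitting.eq_bot_of_isSolvable_of_perfect inferInstance (by
    rw [MonoidHom.range_eq_map, ← Subgroup.map_commutator, ← commutator_def, hK.1])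
  intro x hx
  exact congrArg (fun σ : Equiv.Perm T => (σ ⟨x, hx⟩ : X)) (Subgroup.mem_bot.1 (h2.le ⟨k, rfl⟩))

variable [FaithfulSMul G X] (hK : IsQuasisimple (generalizedFittingSubgroup G))
include hK

theorem le_of_small {U : Subgroup G} (hU : U.IsSubnormal) {v : G} (hv : v ∈ U) (h1 : v ≠ 1)
    (h4 : {x : X | v • x ≠ x}.ncard ≤ 4) : generalizedFittingSubgroup G ≤ U := by
  have : Finite G := finite_of_faithful (X := X)
  refine (CA.Comp.comp_le_or_le_centralizer ⟨Subgroup.Normal.isSubnormal inferInstance, hK⟩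
    hU).resolve_right fun h => h1 (eq_one_of_forall_smul (X := X) fun x => ?_)
  by_contra hx
  refine hx (fix_small hK.1 {x : X | v • x ≠ x} h4 (fun k y hy e => hy ?_)
    ⟨v, CA.Fstar.centralizer_fstar_le (Subgroup.le_centralizer_iff.1 h hv)⟩ x hx)
  rw [Subgroup.smul_def, ← mul_smul, h k.2 v hv, mul_smul] at e
  exact MulAction.injective _ e

variable {C : Type*} [CommGroup C] [Finite C] (hC : Nat.card C ≤ 4) [Nontrivial C]
  (ψ : C → G) (e : C ↪ X) (h1 : ∀ c d, ψ c • e d = e (c * d))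
  (h2 : ∀ c, ∀ y ∉ Set.range e, ψ c • y = y)
include hC h1 h2

theorem le_of_mem {U : Subgroup G} (hU : U.IsSubnormal) {c : C} (hc : c ≠ 1) (h : ψ c ∈ U) :
    generalizedFittingSubgroup G ≤ U := by
  refine le_of_small (X := X) hK hU h (fun e' => hc ?_) ?_
  · have := h1 c 1
    rw [e', one_smul, mul_one] at this
    exact (e.injective this).symm
  · refine (Set.ncard_le_ncard (t := Set.range e) fun x hx => ?_).trans ?_
    · by_contra h'; exact hx (h2 c x h')
    · rwa [Set.ncard_range_of_injective e.injective]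

theorem fix_out : ∀ k ∈ generalizedFittingSubgroup G, ∀ y ∉ orbit G (e 1), k • y = y := by
  let U : Subgroup G := fixingSubgroup G (orbit G (e 1))ᶜ
  have hU : U.Normal := ⟨fun u hu g => (mem_fixingSubgroup_iff G).2 fun y hy => by
    rw [mul_smul, mul_smul, (mem_fixingSubgroup_iff G).1 hu, smul_inv_smul]
    exact fun h => hy (by simpa using mem_orbit_of_mem_orbit g h)⟩
  obtain ⟨c, hc⟩ := exists_ne (1 : C)
  have := le_of_mem hK hC ψ e h1 h2 hU.isSubnormal hc ((mem_fixingSubgroup_iff G).2 fun y hy =>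
    h2 c y (by rintro ⟨d, rfl⟩; exact hy ⟨ψ d, by simp [h1]⟩))
  exact fun k hk y hy => (mem_fixingSubgroup_iff G).1 (this hk) y hy

theorem prim : IsPreprimitive G (orbit G (e 1)) := by
  refine prim_of_rel fun r hr hi => ?_
  by_contra hcon
  push Not at hcon
  obtain ⟨⟨a, b, hab, hab'⟩, u, w, huw⟩ := hcon
  have mem : ∀ d, e d ∈ orbit G (e 1) := fun d => ⟨ψ d, by simp [h1]⟩
  have hs : ∀ c d, ψ c • (⟨e d, mem d⟩ : orbit G (e 1)) = ⟨e (c * d), mem _⟩ := fun c d =>
    Subtype.ext (h1 c d)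
  have hs' : ∀ c, ∀ y : orbit G (e 1), (y : X) ∉ Set.range e → ψ c • y = y := fun c y hy =>
    Subtype.ext (h2 c y hy)
  let x : orbit G (e 1) := ⟨e 1, mem 1⟩
  let M : Subgroup G :=
    { carrier := {g | ∀ z, r z (g • z)}
      one_mem' := fun z => by rw [one_smul]; exact hr.refl z
      mul_mem' := fun {g h} hg hh z => by rw [mul_smul]; exact hr.trans (hh z) (hg _)
      inv_mem' := fun {g} hg z => hr.symm (by simpa using hg (g⁻¹ • z)) }
  have hM : M.Normal := ⟨fun m hm g z => by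
    simpa [mul_smul] using hi g _ _ (hm (g⁻¹ • z))⟩
  have hout : ∀ y, r x y → (y : X) ∉ Set.range e → ∀ d, r x ⟨e d, mem d⟩ := fun y hy hy' d => by
    have := hi (ψ d) _ _ hy
    rw [hs, hs' d y hy', mul_one] at this
    exact hr.trans hy (hr.symm this)
  have hKM : generalizedFittingSubgroup G ≤ M := by
    obtain ⟨g, hg⟩ := exists_smul_eq G a x
    have h3 := hi g _ _ hab
    rw [hg] at h3
    have h4 : g • b ≠ x := fun h => hab' (MulAction.injective g (hg.trans h.symm))
    generalize g • b = y at h3 h4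
    obtain ⟨c, hc, hc'⟩ : ∃ c, c ≠ 1 ∧ r x ⟨e c, mem c⟩ := by
      by_cases hy : (y : X) ∈ Set.range e
      · obtain ⟨c, hc⟩ := hy
        obtain rfl : y = ⟨e c, mem c⟩ := Subtype.ext hc.symm
        exact ⟨c, fun h => h4 (by subst h; rfl), h3⟩
      · obtain ⟨c, hc⟩ := exists_ne (1 : C)
        exact ⟨c, hc, hout y h3 hy c⟩
    refine le_of_mem hK hC ψ e h1 h2 hM.isSubnormal hc fun z => ?_
    by_cases hz : (z : X) ∈ Set.range e
    · obtain ⟨d, hd⟩ := hz
      obtain rfl : z = ⟨e d, mem d⟩ := Subtype.ext hd.symm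
      have := hi (ψ d) _ _ hc'
      rwa [hs, hs, mul_one, mul_comm, ← hs] at this
    · rw [hs' c z hz]; exact hr.refl z
  obtain ⟨k, hk, hk1⟩ := (generalizedFittingSubgroup G).bot_or_exists_ne_one.resolve_left
    ((Subgroup.nontrivial_iff_ne_bot _).1 (CA.Quasi.qs_nontrivial hK))
  apply hk1
  suffices h : ∀ k ∈ generalizedFittingSubgroup G, ∀ g : G, ∀ z, r (g • x) z → k • z = z by
    refine eq_one_of_forall_smul (X := X) fun y => ?_
    by_cases hy : y ∈ orbit G (e 1)
    · obtain ⟨g, hg⟩ := exists_smul_eq G x ⟨y, hy⟩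
      exact congrArg Subtype.val (h k hk g ⟨y, hy⟩ (hg ▸ hr.refl _))
    · exact fix_out hK hC ψ e h1 h2 k hk y hy
  have conj : ∀ P : orbit G (e 1) → Prop, (∀ k ∈ generalizedFittingSubgroup G, ∀ z, P z → k • z = z) →
      ∀ k ∈ generalizedFittingSubgroup G, ∀ g : G, ∀ z, P (g⁻¹ • z) → k • z = z := by
    intro P h k hk g z hz
    have := h _ (Subgroup.Normal.conj_mem' inferInstance k hk g) _ hz
    rwa [mul_smul, smul_inv_smul, mul_smul, smul_left_cancel_iff] at this
  by_cases hy : ∀ y, r x y → (y : X) ∈ Set.range e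
  · intro k hk g z hz
    refine conj (r x) (fun k hk z hz => fix_small hK.1 {z | r x z} ?_
      (fun k z hz => hr.trans hz (hKM k.2 z)) ⟨k, hk⟩ z hz) k hk g z (by simpa using hi g⁻¹ _ _ hz)
    rw [← Set.ncard_image_of_injective _ Subtype.val_injective]
    refine (Set.ncard_le_ncard (t := Set.range e) ?_).trans ?_
    · rintro _ ⟨y, hy', rfl⟩; exact hy y hy'
    · rwa [Set.ncard_range_of_injective e.injective]
  push Not at hy
  obtain ⟨y, hy, hy'⟩ := hy
  let U : Subgroup G := M ⊓ fixingSubgroup G {z | ¬ r x z}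
  have hU : (U.subgroupOf M).Normal := ⟨fun u hu g => ⟨(g * u * g⁻¹).2,
    (mem_fixingSubgroup_iff G).2 fun z hz => by
      rw [Subgroup.coe_subtype, Subgroup.coe_mul, Subgroup.coe_mul, mul_smul, mul_smul,
        (mem_fixingSubgroup_iff G).1 (show (u : G) ∈ _ from hu.2), Subgroup.coe_inv, smul_inv_smul]
      exact fun h => hz (hr.trans h (hr.symm (g⁻¹.2 z)))⟩⟩
  obtain ⟨c, hc⟩ := exists_ne (1 : C)
  have hfix : ∀ z : orbit G (e 1), ¬ r x z → ψ c • z = z := fun z hz => hs' c z (by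
    rintro ⟨d, hd⟩
    obtain rfl : z = ⟨e d, mem d⟩ := Subtype.ext hd.symm
    exact hz (hout y hy hy' d))
  have hKU := le_of_mem hK hC ψ e h1 h2 (U := U) (Subgroup.IsSubnormal.step U M inf_le_left
    hM.isSubnormal hU) hc ⟨fun z => by
      by_cases hz : r x z
      · have := hi (ψ c) _ _ hz
        rw [hs] at this
        exact hr.trans (hr.symm hz) (hr.trans (hout y hy hy' _) this)
      · rw [hfix z hz]; exact hr.refl z, (mem_fixingSubgroup_iff G).2 hfix⟩
  have h5 := conj (fun z => ¬ r x z) fun k hk => (mem_fixingSubgroup_iff G).1 (hKU hk).2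
  intro k hk g z hz
  obtain ⟨u', hu'⟩ : ∃ u', ¬ r z u' := by
    by_contra h
    push Not at h
    exact huw (hr.trans (hr.symm (h u)) (h w))
  obtain ⟨g', hg'⟩ := exists_smul_eq G x u'
  exact h5 k hk g' z fun h => hu' (hr.symm (by simpa [hg'] using hi g' _ _ h))

omit hC h1 h2 in
theorem iso {O : SubMulAction G X} [Fintype O] [DecidableEq O] (h5 : 5 ≤ Nat.card O)
    (hO : ∀ k ∈ generalizedFittingSubgroup G, ∀ y ∉ O, k • y = y)
    (hA : alternatingGroup O ≤ (toPermHom G O).range) :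
    Nonempty (generalizedFittingSubgroup G ≃* alternatingGroup (Fin (Nat.card O))) := by
  have := alternatingGroup.isSimpleGroup h5
  have hev : (generalizedFittingSubgroup G).map (toPermHom G O) ≤ alternatingGroup O := by
    rw [← CA.Comp.comp_perfect ⟨Subgroup.Normal.isSubnormal inferInstance, hK⟩,
      Subgroup.map_commutator, alternatingGroup_eq_sign_ker, Subgroup.commutator_le]
    intro a _ b _
    rw [MonoidHom.mem_ker, map_commutatorElement, commutatorElement_eq_one_iff_mul_comm, mul_comm]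
  let f : generalizedFittingSubgroup G →* alternatingGroup O :=
    ((toPermHom G O).comp (Subgroup.subtype _)).codRestrict _ fun k => hev ⟨k, k.2, rfl⟩
  have hf : Function.Injective f := (injective_iff_map_eq_one f).2 fun k hk =>
    Subtype.ext (eq_one_of_forall_smul (X := X) fun y => by
      by_cases hy : y ∈ O
      · exact congrArg (fun σ : alternatingGroup O => (σ.1 ⟨y, hy⟩ : X)) hk
      · exact hO k k.2 y hy)
  have hn : f.range.Normal := ⟨by
    rintro _ ⟨k, rfl⟩ σ
    obtain ⟨g, hg⟩ := hA σ.2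
    exact ⟨⟨_, Subgroup.Normal.conj_mem inferInstance _ k.2 g⟩, Subtype.ext (by
      change toPermHom G O (g * k * g⁻¹) = σ * toPermHom G O k * (σ : Equiv.Perm O)⁻¹
      rw [map_mul, map_mul, map_inv, hg])⟩⟩
  have := CA.Quasi.qs_nontrivial hK
  have hs := (hn.eq_bot_or_eq_top).resolve_left fun h => by
    obtain ⟨k, hk⟩ := exists_ne (1 : generalizedFittingSubgroup G)
    exact hk (hf ((Subgroup.mem_bot.1 (h.le ⟨k, rfl⟩)).trans (map_one f).symm))
  exact ⟨(MulEquiv.ofBijective f ⟨hf, MonoidHom.range_eq_top.1 hs⟩).trans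
    (Finite.equivFin O).altCongrHom⟩

end CA.QsAlt

namespace CA.QsAlt

theorem conj_in {G : Type*} [Group G] [Finite G] {p : ℕ} (hp : p.Prime) {H W S Q : Subgroup G}
    (hS : S ≤ W) (hH : H ⊓ W ≤ S) (hi : ¬ p ∣ H.relIndex W) (hQ : IsPGroup p Q) (hQS : Q ≤ S) :
    ∃ g ∈ S, ∀ q ∈ Q, g * q * g⁻¹ ∈ H := by
  obtain ⟨g, hg⟩ := CChar.CharBurn.exists_conj_le_of_isPGroup hp (A := Q.subgroupOf S)
    (K := (H ⊓ W).subgroupOf S) hQ.comap_subtype fun h => hi (by
      rw [← Subgroup.inf_relIndex_right, ← Subgroup.relIndex_mul_relIndex _ _ _ hH hS]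
      exact h.mul_right _)
  refine ⟨g⁻¹, inv_mem g.2, fun q hq => ?_⟩
  have := hg (show (⟨q, hQS hq⟩ : S) ∈ _ from hq)
  rw [Subgroup.mem_pointwise_smul_iff_inv_smul_mem] at this
  simpa using this.1

variable {X : Type*} [Fintype X] [DecidableEq X] (C : Type*) [CommGroup C] [Finite C]

noncomputable def std (e : C ↪ X) : C →* Equiv.Perm X :=
  (Equiv.Perm.viaEmbeddingHom e).comp (toPermHom C C)

theorem std_apply (e : C ↪ X) (c d : C) : std C e c (e d) = e (c * d) :=
  Equiv.Perm.viaEmbedding_apply _ _ _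

theorem std_out (e : C ↪ X) (c : C) (y : X) (hy : y ∉ Set.range e) : std C e c y = y :=
  Equiv.Perm.viaEmbedding_apply_of_notMem _ _ _ hy

theorem std_conj (e : C ↪ X) (c : C) (g : Equiv.Perm X) :
    g * std C e c * g⁻¹ = std C (e.trans g.toEmbedding) c := by
  ext y
  obtain ⟨y, rfl⟩ := g.surjective y
  rw [Equiv.Perm.mul_apply, Equiv.Perm.mul_apply, Equiv.Perm.inv_def, Equiv.symm_apply_apply]
  by_cases hy : y ∈ Set.range e
  · obtain ⟨d, rfl⟩ := hy
    rw [std_apply]
    exact (std_apply C (e.trans g.toEmbedding) c d).symm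
  · rw [std_out C e c y hy, std_out]
    rintro ⟨d, hd⟩
    exact hy ⟨d, g.injective hd⟩

theorem std_sign [Fintype C] [DecidableEq C] (e : C ↪ X) (c : C) :
    Equiv.Perm.sign (std C e c) = Equiv.Perm.sign (toPermHom C C c) := by
  exact @Equiv.Perm.sign_extendDomain _ _ _ _ _ _ (toPermHom C C c) _
    (fun _ => Classical.propDecidable _) (Equiv.ofInjective e.1 e.2)

def Reg (H : Subgroup (Equiv.Perm X)) (x : X) : Prop :=
  ∃ e : C ↪ X, (∀ c, std C e c ∈ H) ∧ x ∈ Set.range e

theorem cover {p : ℕ} (hp : p.Prime) (hC : IsPGroup p C) {H W : Subgroup (Equiv.Perm X)}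
    (hW : ∀ e c, std C e c ∈ W) (hi : ¬ p ∣ H.relIndex W) :
    {x | ¬ Reg C H x}.ncard < Nat.card C := by
  by_contra hcon
  obtain ⟨e₀⟩ : Nonempty (C ↪ {x | ¬ Reg C H x}) := by
    have := Fintype.ofFinite C
    have := Fintype.ofFinite {x | ¬ Reg C H x}
    exact Function.Embedding.nonempty_of_card_le (by
      rw [← Nat.card_eq_fintype_card, ← Nat.card_eq_fintype_card, Nat.card_coe_set_eq]; omega)
  let e : C ↪ X := e₀.trans (Function.Embedding.subtype _)
  have h1 : ∀ h ∈ H, ∀ x, Reg C H x → Reg C H (h x) := by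
    rintro h hh _ ⟨e, he, d, rfl⟩
    exact ⟨e.trans h.toEmbedding, fun c => std_conj C e c h ▸ mul_mem (mul_mem hh (he c)) (inv_mem hh),
      d, rfl⟩
  let S : Subgroup (Equiv.Perm X) :=
    { carrier := {g | ∀ x, Reg C H (g x) ↔ Reg C H x}
      one_mem' := fun _ => Iff.rfl
      mul_mem' := fun ha hb x => (ha _).trans (hb x)
      inv_mem' := fun {g} hg x => by rw [← hg]; simp }
  obtain ⟨g, hg, hg'⟩ := conj_in hp (H := H) (W := W) (S := W ⊓ S) (Q := (std C e).range) inf_le_left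
    (fun h hh => ⟨hh.2, fun x => ⟨fun h' => by simpa using h1 _ (inv_mem hh.1) _ h', h1 h hh.1 x⟩⟩) hi
    (hC.of_surjective _ (MonoidHom.rangeRestrict_surjective _)) (by
      rintro _ ⟨c, rfl⟩
      refine ⟨hW e c, fun x => ?_⟩
      by_cases hx : x ∈ Set.range e
      · obtain ⟨d, rfl⟩ := hx
        rw [std_apply]
        exact iff_of_false (e₀ _).2 (e₀ _).2
      · rw [std_out C e c x hx])
  exact (e₀ 1).2 ((hg.2 _).1 ⟨e.trans g.toEmbedding, fun c => std_conj C e c g ▸ hg' _ ⟨c, rfl⟩, 1, rfl⟩)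

theorem big {H : Subgroup (Equiv.Perm X)} (hK : IsQuasisimple (generalizedFittingSubgroup H))
    (hC : Nat.card C ≤ 4) [Nontrivial C] {e : C ↪ X} (he : ∀ c, std C e c ∈ H) :
    (∀ k ∈ generalizedFittingSubgroup H, ∀ y ∉ orbit H (e 1), k • y = y) ∧
      IsPreprimitive H (orbit H (e 1)) ∧ ∀ x, Reg C H x → x ∈ orbit H (e 1) := by
  have h1 := fun (e : C ↪ X) (he : ∀ c, std C e c ∈ H) =>
    fix_out hK hC (fun c => (⟨_, he c⟩ : H)) e (std_apply C e) (std_out C e)
  refine ⟨h1 e he, prim hK hC (fun c => (⟨_, he c⟩ : H)) e (std_apply C e) (std_out C e), ?_⟩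
  rintro _ ⟨e', he', d, rfl⟩
  obtain ⟨k, hk, hk1⟩ := (generalizedFittingSubgroup H).bot_or_exists_ne_one.resolve_left
    ((Subgroup.nontrivial_iff_ne_bot _).1 (CA.Quasi.qs_nontrivial hK))
  obtain ⟨y, hy⟩ : ∃ y : X, k • y ≠ y := by
    by_contra h
    push Not at h
    exact hk1 (eq_one_of_forall_smul h)
  have h2 : y ∈ orbit H (e 1) := by by_contra h; exact hy (h1 e he k hk y h)
  have h3 : y ∈ orbit H (e' 1) := by by_contra h; exact hy (h1 e' he' k hk y h)
  rw [← orbit_eq_iff.2 h2, orbit_eq_iff.2 h3]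
  exact ⟨⟨_, he' d⟩, (std_apply C e' d 1).trans (by rw [mul_one])⟩

/-- The orbit as a sub-action. -/
def orb (G : Type*) {X : Type*} [Group G] [MulAction G X] (x : X) : SubMulAction G X :=
  ⟨orbit G x, fun g _ h => mem_orbit_of_mem_orbit g h⟩

theorem three (hn : 5 ≤ Fintype.card X) {H : Subgroup (Equiv.Perm X)}
    (hK : IsQuasisimple (generalizedFittingSubgroup H)) (hi : ¬ 3 ∣ H.index) :
    ∃ m, Fintype.card X ≤ m + 2 ∧ m ≤ Fintype.card X ∧
      Nonempty (generalizedFittingSubgroup H ≃* alternatingGroup (Fin m)) := by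
  classical
  let C := Multiplicative (ZMod 3)
  have hc : Nat.card C = 3 := by simp [C]
  have h1 := cover C Nat.prime_three (IsPGroup.of_card (n := 1) hc) (H := H) (W := ⊤)
    (fun _ _ => trivial) (by rwa [Subgroup.relIndex_top_right])
  obtain ⟨x, e, he, -⟩ : ∃ x, Reg C H x := by
    by_contra h
    push Not at h
    rw [Set.eq_univ_of_forall (s := {x | ¬ Reg C H x}) h, Set.ncard_univ, Nat.card_eq_fintype_card] at h1
    omega
  obtain ⟨b1, b2, b3⟩ := big C hK (by omega) he
  have h2 := Set.ncard_le_ncard (s := (orbit H (e 1))ᶜ) (t := {x | ¬ Reg C H x})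
    fun x hx h => hx (b3 x h)
  have h3 := Set.ncard_add_ncard_compl (orbit H (e 1))
  rw [Nat.card_eq_fintype_card] at h3
  have := Fintype.ofFinite (orb H (e 1))
  have h4 : Nat.card (orb H (e 1)) = (orbit H (e 1)).ncard := rfl
  have h5 : 5 ≤ Nat.card (orb H (e 1)) := by
    by_contra h
    obtain ⟨k, hk, hk1⟩ := (generalizedFittingSubgroup H).bot_or_exists_ne_one.resolve_left
      ((Subgroup.nontrivial_iff_ne_bot _).1 (CA.Quasi.qs_nontrivial hK))
    refine hk1 (eq_one_of_forall_smul (X := X) fun y => ?_)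
    by_cases hy : y ∈ orbit H (e 1)
    · exact fix_small hK.1 (orbit H (e 1)) (by omega)
        (fun k x hx => mem_orbit_of_mem_orbit (k : H) hx) ⟨k, hk⟩ y hy
    · exact b1 k hk y hy
  refine ⟨_, by omega, by omega, iso hK h5 b1 ?_⟩
  obtain ⟨c, hc1⟩ := exists_ne (1 : C)
  refine alt_le_of_support_le_three (preprimitive_range (G := H) (X := orb H (e 1)) b2)
    ⟨⟨_, he c⟩, rfl⟩ (fun h => hc1 ?_) ?_
  · have := congrArg (fun σ : Equiv.Perm (orb H (e 1)) => (σ ⟨e 1, mem_orbit_self _⟩ : X)) h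
    exact e.injective ((mul_one c ▸ (std_apply C e c 1).symm).trans this)
  · rw [← Set.ncard_coe_finset, ← Set.ncard_image_of_injective _ Subtype.val_injective]
    refine (Set.ncard_le_ncard ?_).trans ((Set.ncard_range_of_injective e.injective).trans hc).le
    rintro _ ⟨y, hy, rfl⟩
    by_contra h
    exact Equiv.Perm.mem_support.1 hy (Subtype.ext (std_out C e c y h))

theorem eight {H : Subgroup (Equiv.Perm X)} (hK : IsQuasisimple (generalizedFittingSubgroup H))
    (hi : ¬ 2 ∣ H.relIndex (alternatingGroup X)) {O : SubMulAction H X} [Fintype O]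
    (h8 : Nat.card O = 8) (hO : ∀ k ∈ generalizedFittingSubgroup H, ∀ y ∉ O, k • y = y)
    (hp : IsPreprimitive H O) : alternatingGroup O ≤ (toPermHom H O).range := by
  classical
  set K := generalizedFittingSubgroup H
  have hone : ∀ k ∈ K, (∀ y : O, k • y = y) → k = 1 := fun k hk h =>
    eq_one_of_forall_smul (X := X) fun y => by
      by_cases hy : y ∈ O
      · exact congrArg Subtype.val (h ⟨y, hy⟩)
      · exact hO k hk y hy
  have htr : ∀ N : Subgroup H, N.Normal → N ≤ K → N ≠ ⊥ → IsPretransitive N O := fun N _ hN h =>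
    IsQuasiPreprimitive.isPretransitive_of_normal fun h' => h (eq_bot_iff.2 fun k hk =>
      hone k (hN hk) fun y => (h'.ge (Set.mem_univ y)) ⟨k, hk⟩)
  obtain ⟨x⟩ : Nonempty O := (Nat.card_pos_iff.1 (by omega)).1
  have hZ : Subgroup.center K = ⊥ := by
    by_contra h
    have h1 := htr ((Subgroup.center K).map K.subtype) inferInstance (Subgroup.map_subtype_le _)
      (by rwa [Ne, Subgroup.map_eq_bot_iff_of_injective _ K.subtype_injective])
    refine CA.Quasi.qs_center_ne_top hK (eq_top_iff.2 fun k _ => ?_)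
    obtain ⟨⟨_, z, hz, rfl⟩, e⟩ := h1.exists_smul_eq x ((k : H) • x)
    have h2 : z⁻¹ * k = 1 := Subtype.ext (hone _ (z⁻¹ * k).2 fun y => by
      obtain ⟨⟨_, w, hw, rfl⟩, rfl⟩ := h1.exists_smul_eq x y
      change ((z⁻¹ * k : K) : H) • (w : H) • x = (w : H) • x
      rw [← mul_smul, ← Subgroup.coe_mul, Subgroup.mem_center_iff.1 hw, Subgroup.coe_mul, mul_smul,
        Subgroup.coe_mul, mul_smul, ← e]
      exact congrArg _ (inv_smul_smul (z : H) x))
    rwa [← inv_mul_eq_one.1 h2]
  have := CA.Quasi.simple_of_qs_of_center_eq_bot hK hZ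
  have hnc : ¬ IsMulCommutative K := fun h => CA.Quasi.qs_center_ne_top hK
    (eq_top_iff.2 fun k _ => Subgroup.mem_center_iff.2 fun g => h.1.1 g k)
  have := htr K inferInstance le_rfl ((Subgroup.nontrivial_iff_ne_bot _).1 inferInstance)
  have : Nonempty O := ⟨x⟩
  have h1 := card_dvd_card (G := K) (X := O)
  let L : Subgroup H := fixingSubgroup H (O : Set X)ᶜ ⊓ (alternatingGroup X).subgroupOf H
  have hKL : K ≤ L := fun k hk => ⟨(mem_fixingSubgroup_iff H).2 (hO k hk),
    CA.SubA8.sign_eq_one hnc (Equiv.Perm.sign.comp (H.subtype.comp K.subtype)) ⟨k, hk⟩⟩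
  let f₀ : L →* alternatingGroup O := ((toPermHom H O).comp L.subtype).codRestrict _ fun g => by
    have := (Equiv.Perm.sign_subtypePerm (p := (· ∈ O)) (g : H).1 (fun y => O.smul_mem_iff' (g : H))
      fun y hy => by
        by_contra h; exact hy ((mem_fixingSubgroup_iff H).1 g.2.1 y h)).trans
      (Equiv.Perm.mem_alternatingGroup.1 (Subgroup.mem_subgroupOf.1 g.2.2))
    rw [Equiv.Perm.mem_alternatingGroup]
    convert this using 2
    · congr 1; exact Subsingleton.elim _ _
    · rfl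
  have hf₀ : Function.Injective f₀ := (injective_iff_map_eq_one f₀).2 fun g hg =>
    Subtype.ext (eq_one_of_forall_smul (X := X) fun y => by
      by_cases hy : y ∈ O
      · exact congrArg (fun σ : alternatingGroup O => (σ.1 ⟨y, hy⟩ : X)) hg
      · exact (mem_fixingSubgroup_iff H).1 g.2.1 y hy)
  let f : L →* CA.SubA8.A8 := (Finite.equivFinOfCardEq h8).altCongrHom.toMonoidHom.comp f₀
  have hf : Function.Injective f := (Finite.equivFinOfCardEq h8).altCongrHom.injective.comp hf₀
  have hA : Nat.card (alternatingGroup O) = 20160 := by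
    have : Nontrivial O := Finite.one_lt_card_iff_nontrivial.1 (by omega)
    rw [nat_card_alternatingGroup, h8]; rfl
  have h64 : 64 ∣ Nat.card L := by
    obtain ⟨Q, hQ⟩ := Sylow.exists_subgroup_card_pow_prime (G := alternatingGroup O) 2 (n := 6)
      (by rw [hA]; norm_num)
    let ι : alternatingGroup O →* Equiv.Perm X :=
      (Equiv.Perm.ofSubtype (p := (· ∈ O))).comp (Subgroup.subtype _)
    have hι : Function.Injective ι :=
      Equiv.Perm.ofSubtype_injective.comp (Subgroup.subtype_injective _)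
    let S : Subgroup (Equiv.Perm X) :=
      { carrier := {g | ∀ x, g x ∈ O ↔ x ∈ O}
        one_mem' := fun _ => Iff.rfl
        mul_mem' := fun ha hb x => (ha _).trans (hb x)
        inv_mem' := fun {g} hg x => by rw [← hg]; simp }
    have ev : ∀ q, ι q ∈ alternatingGroup X := fun q =>
      (Equiv.Perm.sign_ofSubtype (p := (· ∈ O)) q.1).trans q.2
    obtain ⟨g, hg, hg'⟩ := conj_in Nat.prime_two (H := H) (S := alternatingGroup X ⊓ S) (Q := Q.map ι)
      inf_le_left (fun h hh => ⟨hh.2, fun y => O.smul_mem_iff' (⟨h, hh.1⟩ : H)⟩) hi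
      ((IsPGroup.of_card hQ).map ι) (by
        rintro _ ⟨q, -, rfl⟩
        exact ⟨ev q, fun y => (Equiv.Perm.ofSubtype_apply_mem_iff_mem (p := (· ∈ O)) q.1 y)⟩)
    have h2 : Q.map ((MulAut.conj g).toMonoidHom.comp ι) ≤ L.map H.subtype := by
      rintro _ ⟨q, hq, rfl⟩
      refine ⟨⟨_, hg' _ ⟨q, hq, rfl⟩⟩, ⟨(mem_fixingSubgroup_iff H).2 fun y hy => ?_,
        Subgroup.Normal.conj_mem inferInstance _ (ev q) g⟩, rfl⟩
      change g (Equiv.Perm.ofSubtype (p := (· ∈ O)) q.1 (g⁻¹ y)) = y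
      rw [Equiv.Perm.ofSubtype_apply_of_not_mem]
      · simp
      · exact fun h => hy (((inv_mem hg).2 y).1 h)
    have h3 := Subgroup.card_dvd_of_le h2
    rwa [Subgroup.card_map_of_injective ((MulAut.conj g).injective.comp hι), hQ,
      Subgroup.card_map_of_injective H.subtype_injective] at h3
  have h2 := Subgroup.card_dvd_of_le hKL
  have h3 : Nat.card L = 20160 := by
    refine (CA.SubA8.idx f hf).2.resolve_right fun h => ?_
    have h0 : 0 < Nat.card L := Nat.card_pos
    rcases CA.SubA8.simple_card hnc (f.comp (Subgroup.inclusion hKL))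
      (hf.comp (Subgroup.inclusion_injective hKL)) with e | e | e | e | e
    · rw [e, h8] at h1; omega
    · have h4 := CA.SubA8.top_of_168 f hf (K.subgroupOf L) (by
        rw [Nat.card_congr (Subgroup.subgroupOfEquivOfLe hKL).toEquiv, e])
      rw [le_antisymm (Subgroup.subgroupOf_eq_top.1 h4) hKL] at h64
      omega
    all_goals rw [e] at h2; omega
  intro σ hσ
  obtain ⟨g, hg⟩ := ((Nat.bijective_iff_injective_and_card f₀).2 ⟨hf₀, h3.trans hA.symm⟩).2 ⟨σ, hσ⟩
  exact ⟨g, congrArg Subtype.val hg⟩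

theorem sg4 : ∀ c : Multiplicative (ZMod 2 × ZMod 2),
    Equiv.Perm.sign (toPermHom _ (Multiplicative (ZMod 2 × ZMod 2)) c) = 1 := by decide +kernel

theorem sg8 : ∀ c : Multiplicative (ZMod 2 × ZMod 2 × ZMod 2),
    Equiv.Perm.sign (toPermHom _ (Multiplicative (ZMod 2 × ZMod 2 × ZMod 2)) c) = 1 := by
  decide +kernel

theorem two (hn : 8 ≤ Fintype.card X) {H : Subgroup (Equiv.Perm X)}
    (hK : IsQuasisimple (generalizedFittingSubgroup H))
    (hi : ¬ 2 ∣ H.relIndex (alternatingGroup X)) :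
    ∃ m, Fintype.card X ≤ m + 3 ∧ m ≤ Fintype.card X ∧
      Nonempty (generalizedFittingSubgroup H ≃* alternatingGroup (Fin m)) := by
  classical
  let C := Multiplicative (ZMod 2 × ZMod 2)
  let D := Multiplicative (ZMod 2 × ZMod 2 × ZMod 2)
  have hc : Nat.card C = 4 := by simp [C]
  have hd : Nat.card D = 8 := by simp [D]
  have h1 := cover C Nat.prime_two (IsPGroup.of_card (n := 2) hc) (H := H)
    (fun e c => (std_sign C e c).trans (sg4 c)) hi
  have h1' := cover D Nat.prime_two (IsPGroup.of_card (n := 3) hd) (H := H)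
    (fun e c => (std_sign D e c).trans (sg8 c)) hi
  obtain ⟨x, e, he, -⟩ : ∃ x, Reg C H x := by
    by_contra h
    push Not at h
    rw [Set.eq_univ_of_forall (s := {x | ¬ Reg C H x}) h, Set.ncard_univ,
      Nat.card_eq_fintype_card] at h1
    omega
  obtain ⟨x', e', he', -⟩ : ∃ x, Reg D H x := by
    by_contra h
    push Not at h
    rw [Set.eq_univ_of_forall (s := {x | ¬ Reg D H x}) h, Set.ncard_univ,
      Nat.card_eq_fintype_card] at h1'
    omega
  obtain ⟨b1, b2, b3⟩ := big C hK (by omega) he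
  have h2 := Set.ncard_le_ncard (s := (orbit H (e 1))ᶜ) (t := {x | ¬ Reg C H x})
    fun x hx h => hx (b3 x h)
  have h3 := Set.ncard_add_ncard_compl (orbit H (e 1))
  rw [Nat.card_eq_fintype_card] at h3
  have := Fintype.ofFinite (orb H (e 1))
  have h4 : Nat.card (orb H (e 1)) = (orbit H (e 1)).ncard := rfl
  have h5 : 8 ≤ Nat.card (orb H (e 1)) := by
    obtain ⟨d, hd'⟩ : ∃ d, e' d ∈ orbit H (e 1) := by
      by_contra h
      have := Set.ncard_le_ncard (s := Set.range e') (t := (orbit H (e 1))ᶜ) (by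
        rintro _ ⟨d, rfl⟩ h'; exact h ⟨d, h'⟩)
      rw [Set.ncard_range_of_injective e'.injective] at this
      omega
    rw [h4, ← hd, ← Set.ncard_range_of_injective e'.injective]
    refine Set.ncard_le_ncard ?_
    rintro _ ⟨d', rfl⟩
    have := mem_orbit_of_mem_orbit (⟨_, he' (d' * d⁻¹)⟩ : H) hd'
    rwa [show (⟨_, he' (d' * d⁻¹)⟩ : H) • e' d = e' d' from
      (std_apply D e' _ d).trans (by rw [inv_mul_cancel_right])] at this
  refine ⟨Nat.card (orb H (e 1)), by omega, by omega, iso (O := orb H (e 1)) hK (by omega) b1 ?_⟩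
  rcases h5.eq_or_lt with h6 | h6
  · exact eight hK hi h6.symm b1 b2
  have mem : ∀ d, e d ∈ orb H (e 1) := fun d => b3 _ ⟨e, he, d, rfl⟩
  let φ := toPermHom H (orb H (e 1))
  let ε : C ↪ orb H (e 1) := ⟨fun d => ⟨e d, mem d⟩, fun a b h => e.injective (congrArg Subtype.val h)⟩
  have h7 : (Finset.univ.map ε).card = 4 := by
    rw [Finset.card_map, Finset.card_univ, ← Nat.card_eq_fintype_card, hc]
  have := CA.JSet.alt_le (G := φ.range) (preprimitive_range b2) (Γ := Finset.univ.map ε) (by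
    intro a ha b hb
    obtain ⟨a, -, rfl⟩ := Finset.mem_map.1 ha
    obtain ⟨b, -, rfl⟩ := Finset.mem_map.1 hb
    refine ⟨⟨_, ⟨_, he (b * a⁻¹)⟩, rfl⟩, fun z hz => Subtype.ext (std_out C e _ z ?_),
      Subtype.ext ((std_apply C e _ a).trans (by rw [inv_mul_cancel_right]; rfl))⟩
    rintro ⟨d, hd⟩
    exact hz (Finset.mem_map.2 ⟨d, Finset.mem_univ _, Subtype.ext hd⟩)) (by omega)
    (by rw [← Nat.card_eq_fintype_card]; omega)
  exact this.trans (by rintro _ ⟨g, rfl⟩; exact g.2)

end CA.QsAlt
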