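import Mathlib
import Cfsg.Agent.Lib.Perm.Burn2
import Cfsg.Agent.Lib.Perm.Neumann
import Cfsg.Agent.Lib.Perm.SRing2
import Cfsg.Agent.Lib.Perm.ZassClass

/-! Atkinson's theorem on doubly transitive groups of degree `p ^ 2 + 1`: tools. -/

set_option autoImplicit false
open MulAction CA.PermBasic CA.PermMulti Finset MonoidAlgebra CA.SRing

namespace CA.Atk

open Polynomial in
/-- A sum of distinct `p`-th roots of unity whose `p`-th power is an integer. -/
theorem cyc {p : ℕ} (hp : p.Prime) {ι : Type*} [Fintype ι] (hι : Fintype.card ι = p) (χ : ι → ℂ)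
    (hinj : Function.Injective χ) (h1 : ∀ i, χ i ^ p = 1) (D : Finset ι) (c : ℤ)
    (h : (∑ d ∈ D, χ d) ^ p = c) : ∃ i, ∀ s t, s ≠ i → t ≠ i → (s ∈ D ↔ t ∈ D) := by
  classical
  have : NeZero p := ⟨hp.ne_zero⟩
  have hζ := Complex.isPrimitiveRoot_exp p hp.ne_zero
  set ζ := Complex.exp (2 * Real.pi * Complex.I / p)
  choose k hk hk' using fun i => hζ.eq_pow_of_pow_eq_one (h1 i)
  let e : ι ≃ Fin p := Equiv.ofBijective (fun i => ⟨k i, hk i⟩)
    ((Fintype.bijective_iff_injective_and_card _).2 ⟨fun i j hij => hinj (by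
      rw [← hk', ← hk', Fin.mk.inj hij]), by simp [hι]⟩)
  have he : ∀ t, χ (e.symm t) = ζ ^ (t : ℕ) := fun t => by
    rw [← hk']; exact congrArg (fun s : Fin p => ζ ^ (s : ℕ)) (e.apply_symm_apply t)
  obtain ⟨r, hr⟩ : ∃ r : ℚ, r ^ p = c := by
    by_contra hcon
    push Not at hcon
    have hi : IsIntegral ℚ ζ := (hζ.isIntegral hp.pos).tower_top
    have hm : (∑ d ∈ D, χ d) ∈ IntermediateField.adjoin ℚ {ζ} := sum_mem fun d _ =>
      hk' d ▸ pow_mem (IntermediateField.mem_adjoin_simple_self ℚ ζ) _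
    have := IntermediateField.adjoin.finiteDimensional hi
    have h2 := minpoly.natDegree_le (A := ℚ) (⟨_, hm⟩ : IntermediateField.adjoin ℚ {ζ})
    rw [IntermediateField.adjoin.finrank hi, ← cyclotomic_eq_minpoly_rat hζ hp.pos,
      natDegree_cyclotomic, Nat.totient_prime hp, 
      ← minpoly.eq_of_irreducible_of_monic (X_pow_sub_C_irreducible_of_prime hp hcon)
        (Subtype.ext (by simp [h])) (monic_X_pow_sub_C _ hp.ne_zero), natDegree_X_pow_sub_C] at h2
    have := hp.pos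
    omega
  obtain ⟨j, hj⟩ : ∃ j : Fin p, ∑ d ∈ D, χ d = r * ζ ^ (j : ℕ) := by
    have hr' : (r : ℂ) ^ p = c := by exact_mod_cast congrArg (Rat.cast : ℚ → ℂ) hr
    by_cases h0 : (r : ℂ) = 0
    · rw [← hr', h0, zero_pow hp.ne_zero, pow_eq_zero_iff hp.ne_zero] at h
      exact ⟨0, by rw [h, h0, zero_mul]⟩
    · obtain ⟨j, hj, hj'⟩ := hζ.eq_pow_of_pow_eq_one (ξ := (∑ d ∈ D, χ d) / r) (by
        rw [div_pow, h, hr', div_self (hr' ▸ pow_ne_zero p h0)])
      exact ⟨⟨j, hj⟩, by rw [hj', mul_div_cancel₀ _ h0]⟩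
  have h3 := (hζ.sum_eq_zero_iff_forall_eq hp
    (fun t => (if e.symm t ∈ D then 1 else 0) - if t = j then r else 0)).1 (by
      simp only [Rat.cast_sub, sub_mul, sum_sub_distrib, apply_ite (Rat.cast : ℚ → ℂ), ite_mul,
        Rat.cast_one, Rat.cast_zero, one_mul, zero_mul, sum_ite_eq', mem_univ, if_true]
      rw [← hj, sub_eq_zero, ← Equiv.sum_comp e]
      simp only [← he, Equiv.symm_apply_apply, sum_ite_mem, univ_inter])
  refine ⟨e.symm j, fun s t hs ht => ?_⟩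
  have := h3 (e s) (e t)
  rw [if_neg (fun h => hs (e.eq_symm_apply.2 h)), if_neg (fun h => ht (e.eq_symm_apply.2 h))] at this
  simp only [Equiv.symm_apply_apply, sub_zero] at this
  by_cases h1 : s ∈ D <;> by_cases h2 : t ∈ D <;> simp_all

theorem ring_lemma {C : Type*} [CommGroup C] [Fintype C] [DecidableEq C] {p : ℕ} (hp : p.Prime)
    (hp2 : p ≠ 2) (E : Subgroup C) (hE : Nat.card E = p) {y : C} (hy : y ^ p ∈ E) (D : Finset C)
    (hD : ∀ d ∈ D, y⁻¹ * d ∈ E)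
    (hc : ∀ e ∈ E, ∀ e' ∈ E, e ≠ 1 → e' ≠ 1 → (S D ^ p).coeff e = (S D ^ p).coeff e') :
    ∃ i ∈ E, ∀ s ∈ E, ∀ t ∈ E, s ≠ i → t ≠ i → (y * s ∈ D ↔ y * t ∈ D) := by
  classical
  have := Fact.mk hp
  have hE1 : ∀ e ∈ E, e ^ p = 1 := fun e he => by
    rw [← hE]; exact congrArg Subtype.val (pow_card_eq_one' (x := (⟨e, he⟩ : E)))
  have hDp : ∀ d ∈ D, d ^ p = y ^ p := fun d hd => by
    have := hE1 _ (hD d hd)
    rwa [mul_pow, inv_pow, inv_mul_eq_one, eq_comm] at this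
  by_cases hy1 : y ^ p = 1
  swap
  · obtain ⟨w, hw⟩ : ∃ w : E, w ∉ ({1, ⟨_, hy⟩} : Finset E) := by
      by_contra hcon
      push Not at hcon
      have h1 := card_le_card (fun w _ => hcon w : univ ⊆ ({1, ⟨_, hy⟩} : Finset E))
      rw [card_univ, ← Nat.card_eq_fintype_card, hE] at h1
      have := h1.trans card_le_two
      have := hp.two_le
      omega
    simp only [mem_insert, mem_singleton, not_or, Subtype.ext_iff] at hw
    obtain ⟨z, hz⟩ := frob hp (S D)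
    have h1 := hc _ hy _ w.2 hy1 hw.1
    rw [hz, MonoidAlgebra.coeff_add, Finsupp.add_apply, Finsupp.add_apply, coeff_pw_S, coeff_pw_S,
      coeff_natCast_mul, coeff_natCast_mul, filter_true_of_mem hDp,
      filter_false_of_mem fun d hd e => hw.2 (e.symm.trans (hDp d hd))] at h1
    have h2 : p ∣ #D := by
      have : (p : ℤ) ∣ #D := ⟨z.coeff w - z.coeff (y ^ p), by simp at h1; linear_combination h1⟩
      exact_mod_cast this
    let D' : Finset E := univ.filter fun e => y * e ∈ D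
    have h3 : #D' = #D := card_bij (fun e _ => y * e) (fun e he => (mem_filter.1 he).2)
      (fun a _ b _ h => Subtype.ext (mul_left_cancel h))
      (fun d hd => ⟨⟨_, hD d hd⟩, by simpa [D'] using hd, by simp⟩)
    refine ⟨1, one_mem _, fun s hs t ht _ _ => ?_⟩
    rcases Nat.eq_zero_or_pos #D with h | h
    · simp [card_eq_zero.1 h]
    · have h4 : D' = univ := eq_univ_of_card _ (le_antisymm (card_le_univ _) (by
        rw [← Nat.card_eq_fintype_card, hE, h3]; exact Nat.le_of_dvd h h2))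
      exact iff_of_true (mem_filter.1 (h4 ▸ mem_univ (⟨s, hs⟩ : E) : _ ∈ D')).2
        (mem_filter.1 (h4 ▸ mem_univ (⟨t, ht⟩ : E) : _ ∈ D')).2
  have : Nontrivial E := Finite.one_lt_card_iff_nontrivial.1 (hE ▸ hp.one_lt)
  obtain ⟨e₀, he₀⟩ := exists_ne (1 : E)
  have he₀' : (e₀ : C) ≠ 1 := fun h => he₀ (Subtype.ext h)
  obtain ⟨χ, hχ⟩ := CommGroup.exists_apply_ne_one_of_hasEnoughRootsOfUnity C ℂ he₀'
  have hsupp : ∀ (n : ℕ) g, (S D ^ n).coeff g ≠ 0 → (y ^ n)⁻¹ * g ∈ E := by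
    intro n
    induction n with
    | zero =>
      intro g hg
      have := coeff_intCast (C := C) 1 g
      rw [Int.cast_one] at this
      rw [pow_zero, this] at hg
      simp only [ne_eq, ite_eq_right_iff, one_ne_zero, imp_false, not_not] at hg
      simp [hg]
    | succ n ih =>
      intro g hg
      rw [pow_succ, coeff_mul_eq_sum] at hg
      obtain ⟨k, -, hk⟩ := exists_ne_zero_of_sum_ne_zero hg
      have h1 := ih k (left_ne_zero_of_mul hk)
      have h2 := right_ne_zero_of_mul hk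
      rw [coeff_S] at h2
      have h3 := mul_mem h1 (hD (k⁻¹ * g) (by by_contra h; exact h2 (if_neg h)))
      convert h3 using 1
      rw [pow_succ, mul_inv, mul_mul_mul_comm, mul_inv_cancel_left]
  let ψ : C →* ℂ := (Units.coeHom ℂ).comp χ
  let Φ := MonoidAlgebra.lift ℤ ℂ C ψ
  have hΦ : ∀ A : Finset C, Φ (S A) = ∑ a ∈ A, ψ a := fun A => by
    simp [Φ, S, map_sum]
  have hker : (ψ.comp E.subtype).ker = ⊥ :=
    ((ψ.comp E.subtype).ker.eq_bot_or_eq_top_of_prime_card (hp := ⟨hE ▸ hp⟩)).resolve_right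
      fun h => hχ (Units.ext ((h ▸ Subgroup.mem_top e₀ : e₀ ∈ (ψ.comp E.subtype).ker)))
  have h0 : ∑ a ∈ univ.filter (· ∈ E), ψ a = 0 := by
    rw [← sum_hom_units_eq_zero (ψ.comp E.subtype) (fun h => hχ (Units.ext
      (DFunLike.congr_fun h e₀))), sum_subtype (p := (· ∈ E)) _ (by simp)]
    rfl
  have hS : S D ^ p = (((S D ^ p).coeff 1 - (S D ^ p).coeff e₀ : ℤ) : MonoidAlgebra ℤ C) +
      (((S D ^ p).coeff e₀ : ℤ) : MonoidAlgebra ℤ C) * S (univ.filter (· ∈ E)) := by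
    ext g
    rw [MonoidAlgebra.coeff_add, Finsupp.add_apply, coeff_intCast, coeff_intCast_mul, coeff_S]
    by_cases hg : g = 1
    · simp [hg]
    by_cases hg' : g ∈ E
    · simp [hg, hg', hc g hg' e₀ e₀.2 hg he₀']
    · have := mt (hsupp p g) (by simpa [hy1] using hg')
      simp only [ne_eq, not_not] at this
      simp [hg, hg', this]
  have h1 := congrArg Φ hS
  rw [map_pow, map_add, map_mul, map_intCast, map_intCast, hΦ, hΦ, h0, mul_zero, add_zero] at h1
  obtain ⟨i, hi⟩ := cyc hp (ι := E) (by rw [← Nat.card_eq_fintype_card, hE]) (fun e => ψ (y * e))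
    (fun a b h => (MonoidHom.ker_eq_bot_iff _).1 hker (by
      simp only [map_mul] at h
      exact mul_left_cancel₀ (χ y).ne_zero h))
    (fun e => by rw [← map_pow, mul_pow, hy1, hE1 _ e.2, one_mul, map_one])
    (univ.filter fun e => y * e ∈ D) _ (Eq.trans (congrArg (· ^ p) (sum_bij (fun e _ => y * e)
      (fun e he => (mem_filter.1 he).2) (fun a _ b _ h => Subtype.ext (mul_left_cancel h))
      (fun d hd => ⟨⟨_, hD d hd⟩, by simpa using hd, by simp⟩) (fun _ _ => rfl))) h1)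
  exact ⟨i, i.2, fun s hs t ht h1 h2 => by
    simpa using hi ⟨s, hs⟩ ⟨t, ht⟩ (fun h => h1 (congrArg Subtype.val h))
      (fun h => h2 (congrArg Subtype.val h))⟩

/-- Linked designs of prime degree do not exist. -/
theorem link {H Y : Type*} [Group H] [MulAction H Y] [Finite Y] {p : ℕ} (hp : p.Prime)
    (hp2 : p ≠ 2) (P E : Subgroup H) [IsMulCommutative P] (hEP : E ≤ P) (hE : Nat.card E = p)
    (hPE : ∀ y ∈ P, y ^ p ∈ E) (o : Y) (htr : ∀ x, ∃ y ∈ P, y • o = x)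
    (hreg : ∀ y ∈ P, y • o = o → y = 1) (h1 : ∀ h : H, h • o = o → ∀ x : Y, ∃ e ∈ E, h • x = e • x)
    (h2 : ∀ e ∈ E, ∀ e' ∈ E, e ≠ 1 → e' ≠ 1 → ∃ h : H, h • o = o ∧ h • e • o = e' • o) (x : Y)
    (h3 : ∃ e ∈ E, ∀ h : H, h • o = o → h • x ≠ e • x) :
    ∃ e ∈ E, ∀ h : H, h • o = o → h • e • x = e • x := by
  classical
  have := Fintype.ofFinite Y
  have hinj : ∀ c ∈ P, ∀ c' ∈ P, c • o = c' • o → c = c' := fun c hc c' hc' h =>
    (inv_mul_eq_one.1 (hreg _ (mul_mem (inv_mem hc') hc) (by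
      rw [mul_smul, inv_smul_eq_iff]; exact h))).symm
  let e : P ≃ Y := Equiv.ofBijective (fun c => c • o) ⟨fun c c' h =>
    Subtype.ext (hinj _ c.2 _ c'.2 h), fun x => by
      obtain ⟨y, hy, h⟩ := htr x; exact ⟨⟨y, hy⟩, h⟩⟩
  let _ : CommGroup P := { mul_comm := mul_comm' }
  let _ : CommGroup Y := e.symm.commGroup
  let f : Y ≃* P := e.symm.mulEquiv
  have hf : ∀ a, (f a : H) • o = a := fun a => e.apply_symm_apply a
  have hf1 : (1 : Y) = o := by rw [← hf 1, map_one]; simp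
  have hf3 : ∀ a b : Y, a * b = (f a : H) • b := fun a b => by
    rw [← hf (a * b), map_mul, Subgroup.coe_mul, mul_smul, hf]
  have hf2 : ∀ a b : Y, a⁻¹ * b = (f a : H)⁻¹ • b := fun a b => by
    rw [hf3, map_inv, Subgroup.coe_inv]
  have hf4 : ∀ c ∈ P, (f (c • o) : H) = c := fun c hc => hinj _ (f _).2 _ hc (hf _)
  obtain ⟨T, hT0⟩ : ∃ T : Finset Y, ∀ z, z ∈ T ↔ ∃ g : H, g • o = o ∧ g • x = z :=
    ⟨univ.filter fun z => ∃ g : H, g • o = o ∧ g • x = z, by simp⟩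
  have hT : ∀ a b : Y, a⁻¹ * b ∈ T ↔ ∃ g : H, g • o = a ∧ g • x = b := fun a b => by
    rw [hf2, hT0]
    constructor
    · rintro ⟨g, h1, h2⟩
      exact ⟨f a * g, by rw [mul_smul, h1, hf], by rw [mul_smul, h2, smul_inv_smul]⟩
    · rintro ⟨g, h1, h2⟩
      exact ⟨(f a : H)⁻¹ * g, by rw [mul_smul, h1, inv_smul_eq_iff, hf], by rw [mul_smul, h2]⟩
  have hI : CA.SRing2.Inv H (S T) := fun g a b => by
    rw [coeff_S, coeff_S]
    refine if_congr ?_ rfl rfl
    rw [hT, hT]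
    constructor
    · rintro ⟨k, h1, h2⟩
      exact ⟨g⁻¹ * k, by rw [mul_smul, h1, inv_smul_smul], by rw [mul_smul, h2, inv_smul_smul]⟩
    · rintro ⟨k, h1, h2⟩
      exact ⟨g * k, by rw [mul_smul, h1], by rw [mul_smul, h2]⟩
  let E' : Subgroup Y := (E.subgroupOf P).comap f.toMonoidHom
  have hE' : ∀ z, z ∈ E' ↔ (f z : H) ∈ E := fun z => Iff.rfl
  have hEx : ∀ c ∈ E, c • o ∈ E' ∧ ∀ z, z * c • o = c • z := fun c hc =>
    ⟨by rw [hE', hf4 _ (hEP hc)]; exact hc, fun z => by rw [mul_comm, hf3, hf4 _ (hEP hc)]⟩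
  obtain ⟨i, hi, hi'⟩ := ring_lemma hp hp2 E' (by
    rw [← hE, ← Nat.card_congr (Subgroup.subgroupOfEquivOfLe hEP).toEquiv]
    exact Nat.card_congr (f.toEquiv.subtypeEquiv fun _ => Iff.rfl)) (y := x)
    (by rw [hE', map_pow]; exact hPE _ (f x).2) T (fun d hd => by
      obtain ⟨g, hg, rfl⟩ := (hT0 d).1 hd
      obtain ⟨c, hc, hc'⟩ := h1 g hg x
      rw [hc', ← (hEx c hc).2, inv_mul_cancel_left]
      exact (hEx c hc).1) (fun s hs t ht hs1 ht1 => by
      obtain ⟨g, hg, hg'⟩ := h2 (f s) hs (f t) ht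
        (fun h => hs1 (f.injective (Subtype.ext (by simpa using h))))
        (fun h => ht1 (f.injective (Subtype.ext (by simpa using h))))
      have := (hI.pow p) g 1 s
      rw [hf, hf] at hg'
      rw [hg', hf1, hg, ← hf1] at this
      simpa using this.symm)
  refine ⟨f i, hi, fun g hg => ?_⟩
  obtain ⟨c, hc, hc'⟩ := h3
  obtain ⟨d, hd, hd'⟩ := h1 g hg (i * x)
  rw [← hf3]
  by_contra hne
  have hne' : i * d • o ≠ i := fun h => hne (by rw [hd', ← (hEx d hd).2, mul_right_comm, h])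
  have hx1 : x * 1 ∈ T := (hT0 _).2 ⟨1, one_smul _ _, by simp⟩
  have hx2 : x * c • o ∉ T := fun h => by
    obtain ⟨k, hk, hk'⟩ := (hT0 _).1 h
    exact hc' k hk (hk'.trans ((hEx c hc).2 x))
  have hx3 : x * (i * d • o) ∈ T ↔ x * i ∈ T := by
    rw [← mul_assoc, (hEx d hd).2, mul_comm x, ← hd', hT0, hT0]
    constructor
    · rintro ⟨k, h1, h2⟩
      exact ⟨g⁻¹ * k, by rw [mul_smul, h1, inv_smul_eq_iff, hg], by rw [mul_smul, h2, inv_smul_smul]⟩
    · rintro ⟨k, h1, h2⟩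
      exact ⟨g * k, by rw [mul_smul, h1, hg], by rw [mul_smul, h2]⟩
  have hall : ∀ s ∈ E', (x * s ∈ T ↔ x * i ∈ T) := fun s hs => by
    by_cases h : s = i
    · rw [h]
    · rw [← hx3]; exact hi' s hs _ (mul_mem hi (hEx d hd).1) h hne'
  exact hx2 ((hall _ (hEx c hc).1).2 ((hall 1 (one_mem _)).1 hx1))

theorem pd {N Y : Type*} [Group N] [MulAction N Y] [IsPretransitive N Y] {p : ℕ} [Fact p.Prime]
    (hY : Nat.card Y = p) (M : Set N) {u v : Y} (huv : u ≠ v)
    (hM : ∀ m ∈ M, ∀ n : N, n • u = u → n⁻¹ * m * n ∈ M) (hu : ∀ m ∈ M, m • u = u)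
    (hv : ∀ m ∈ M, m • v = v) {m : N} (hm : m ∈ M) (w : Y) : m • w = w := by
  have := CA.PrimeDeg.finite_of_card hY
  have : IsPretransitive (toPermHom N Y).range Y := ⟨fun x y => by
    obtain ⟨g, hg⟩ := exists_smul_eq N x y
    exact ⟨⟨_, g, rfl⟩, hg⟩⟩
  by_cases hs : Group.IsSolvable (toPermHom N Y).range
  · obtain ⟨P⟩ : Nonempty (Sylow p (toPermHom N Y).range) := inferInstance
    have := (CA.PrimeDeg.isSolvable_iff hY P).1 hs
    have h1 := CA.PrimeDeg.eq_one_of_mem_normalizer hY P (t := ⟨_, m, rfl⟩)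
      (by rw [Subgroup.normalizer_eq_top]; trivial) huv (hu m hm) (hv m hm)
    exact Equiv.congr_fun (congrArg Subtype.val h1) w
  · by_cases hw : u = w
    · exact hw ▸ hu m hm
    obtain ⟨n, h1, h2⟩ := two_iff.1 (CA.Neumann.mpt_of_range (CA.Neumann.two_of_insol hY hs))
      u v u w huv hw
    have := hv _ (hM m hm n h1)
    rwa [mul_smul, mul_smul, inv_smul_eq_iff, h2] at this

end CA.Atk
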