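import Mathlib
import Cfsg.Agent.Lib.Perm.Atk

/-! Atkinson's theorem on doubly transitive groups of degree `p ^ 2 + 1`. -/

set_option autoImplicit false
open MulAction CA.PermBasic CA.PermMulti CA.Zass CA.SplitOne
open CA.SylIn hiding IsSylowIn exists_isSylowIn exists_isSylowIn_ge isSylowIn_map
open scoped Pointwise

namespace CA.Atk

variable {G X : Type*} [Group G] [MulAction G X]

theorem card_eq_orbit (J : Subgroup G) (x : X) :
    Nat.card J = (orbit J x).ncard * Nat.card ↥(J ⊓ stabilizer G x) := by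
  rw [← card_orbit_mul_card_stabilizer (G := J) x, Nat.card_coe_set_eq]
  congr 1
  exact Nat.card_congr ⟨fun g => ⟨g.1.1, g.1.2, g.2⟩, fun g => ⟨⟨g.1, g.2.1⟩, g.2.2⟩,
    fun _ => rfl, fun _ => rfl⟩

theorem mem_orbit' {J : Subgroup G} {x y : X} : y ∈ orbit J x ↔ ∃ g ∈ J, g • x = y :=
  ⟨fun ⟨g, hg⟩ => ⟨g, g.2, hg⟩, fun ⟨g, h, hg⟩ => ⟨⟨g, h⟩, hg⟩⟩

theorem mem_zpowers_of_cyclic {C : Type*} [Group C] [Finite C] [IsCyclic C] {g x : C}
    (h : x ^ orderOf g = 1) : x ∈ Subgroup.zpowers g := by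
  classical
  have := Fintype.ofFinite C
  have h4 : (Subgroup.zpowers g : Set C) = {x | x ^ orderOf g = 1} :=
    Set.eq_of_subset_of_ncard_le (by
      rintro _ ⟨n, rfl⟩
      rw [Set.mem_setOf_eq, ← zpow_natCast, ← zpow_mul, mul_comm, zpow_mul, zpow_natCast,
        pow_orderOf_eq_one, one_zpow]) (by
      rw [← Nat.card_coe_set_eq (Subgroup.zpowers g : Set C), SetLike.coe_sort_coe, Nat.card_zpowers,
        Set.ncard_eq_toFinset_card', Set.toFinset_setOf]
      exact IsCyclic.card_pow_eq_one_le (orderOf_pos g))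
  exact h4.ge h

variable (G) in
/-- An equivariant family of equivalence relations on the complements of points. -/
structure Sys (R : X → X → X → Prop) : Prop where
  ne : ∀ {a x y}, R a x y → x ≠ a
  refl : ∀ {a x}, x ≠ a → R a x x
  symm : ∀ {a x y}, R a x y → R a y x
  trans : ∀ {a x y z}, R a x y → R a y z → R a x z
  smul : ∀ (g : G) {a x y}, R a x y → R (g • a) (g • x) (g • y)

theorem sys_fix [Finite G] (h2 : IsMultiplyPretransitive G X 2) (V : X → Set G)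
    (hV : ∀ (k : G) a, ∀ g ∈ V a, k * g * k⁻¹ ∈ V (k • a)) :
    Sys G fun a x y => x ≠ a ∧ y ≠ a ∧ ∀ g ∈ V a, g • x = x → g • y = y where
  ne h := h.1
  refl h := ⟨h, h, fun _ _ h => h⟩
  trans h h' := ⟨h.1, h'.2.1, fun g hg hx => h'.2.2 g hg (h.2.2 g hg hx)⟩
  smul k a x y h := ⟨(MulAction.injective k).ne h.1, (MulAction.injective k).ne h.2.1,
    fun g hg hx => by
      have := h.2.2 _ (by simpa using hV k⁻¹ _ g hg) (by simp [mul_smul, hx])
      rwa [mul_smul, mul_smul, inv_smul_eq_iff] at this⟩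
  symm {a x y} h := ⟨h.2.1, h.1, fun g hg hy => by
    obtain ⟨k, h1, h3⟩ := two_iff.1 h2 a y a x h.2.1.symm h.1.symm
    have : {g ∈ V a | g • x = x} = {g ∈ V a | g • y = y} :=
      Set.eq_of_subset_of_ncard_le (fun g hg => ⟨hg.1, h.2.2 g hg.1 hg.2⟩)
        (Set.ncard_le_ncard_of_injOn (fun g => k * g * k⁻¹) (fun g hg => ⟨h1 ▸ hV k a g hg.1, by
          rw [← h3]; simp [mul_smul, hg.2]⟩) (fun _ _ _ _ e => by simpa using e))
    exact (this.ge ⟨hg, hy⟩).2⟩

namespace Sys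
variable {R : X → X → X → Prop} (h : Sys G R)
include h

theorem ne' {a x y : X} (e : R a x y) : y ≠ a := h.ne (h.symm e)

theorem smul_fix {g : G} {a x y : X} (ha : g • a = a) (e : R a x y) : R a (g • x) (g • y) :=
  ha ▸ h.smul g e

theorem smul_iff (g : G) {a x y : X} : R (g • a) (g • x) (g • y) ↔ R a x y :=
  ⟨fun e => by simpa using h.smul g⁻¹ e, h.smul g⟩

theorem smul_cl (g : G) (a x : X) : g • {y | R a x y} = {y | R (g • a) (g • x) y} := by
  ext y
  rw [Set.mem_smul_set_iff_inv_smul_mem, Set.mem_setOf_eq, ← h.smul_iff g, smul_inv_smul]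
  rfl

theorem cl_eq {a x y : X} (e : R a x y) : {z | R a x z} = {z | R a y z} :=
  Set.ext fun _ => ⟨h.trans (h.symm e), h.trans e⟩

/-- stabiliser of a block -/
def J (a : X) {x : X} (hx : x ≠ a) : Subgroup G where
  carrier := {g | g • a = a ∧ R a x (g • x)}
  one_mem' := by simpa using h.refl hx
  mul_mem' := fun {g k} hg hk => ⟨by rw [mul_smul, hk.1, hg.1],
    mul_smul g k x ▸ h.trans hg.2 (h.smul_fix hg.1 hk.2)⟩
  inv_mem' := fun {g} hg => ⟨inv_smul_eq_iff.2 hg.1.symm, h.symm (by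
    simpa using h.smul_fix (inv_smul_eq_iff.2 hg.1.symm) hg.2)⟩

/-- kernel on the blocks -/
def K (a : X) : Subgroup G where
  carrier := {g | g • a = a ∧ ∀ x, x ≠ a → R a x (g • x)}
  one_mem' := ⟨one_smul _ _, fun x hx => (h.J a hx).one_mem.2⟩
  mul_mem' := fun hg hk => ⟨by rw [mul_smul, hk.1, hg.1],
    fun x hx => ((h.J a hx).mul_mem ⟨hg.1, hg.2 x hx⟩ ⟨hk.1, hk.2 x hx⟩).2⟩
  inv_mem' := fun hg => ⟨inv_smul_eq_iff.2 hg.1.symm,
    fun x hx => ((h.J a hx).inv_mem ⟨hg.1, hg.2 x hx⟩).2⟩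

theorem conj_K (k : G) (a : X) (g : G) (hg : g ∈ h.K a) : k * g * k⁻¹ ∈ h.K (k • a) :=
  ⟨by simp [mul_smul, hg.1], fun x hx => by
    simpa [mul_smul] using h.smul k (hg.2 (k⁻¹ • x) fun e => hx (inv_smul_eq_iff.1 e))⟩

theorem K_rel {a x y : X} {g : G} (hg : g ∈ h.K a) (e : R a x y) : R a x (g • y) :=
  h.trans e (hg.2 y (h.ne' e))

variable [Finite X] {p : ℕ} (hX : Nat.card X = p ^ 2 + 1)
include hX

theorem st (hp : 1 < p) (hc : ∀ a x, x ≠ a → {y | R a x y}.ncard = p) :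
    ¬ ∀ a x y, x ≠ y → R a x y → R x a y := by
  intro H
  have : Nontrivial X := Finite.one_lt_card_iff_nontrivial.1 (by nlinarith)
  obtain ⟨x, a, hx⟩ := exists_pair_ne X
  have hL : (insert a {y | R a x y}).ncard = p + 1 := by
    rw [Set.ncard_insert_of_notMem (s := {y | R a x y}) (fun e => h.ne' e rfl), hc a x hx]
  obtain ⟨z, hz⟩ : ∃ z, z ∉ insert a {y | R a x y} := by
    by_contra hcon
    push Not at hcon
    rw [Set.eq_univ_of_forall hcon, Set.ncard_univ] at hL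
    nlinarith
  rw [Set.mem_insert_iff, not_or] at hz
  have hA : ∀ v, R a x v → ¬ R z a v := fun v hv e =>
    hz.2 (h.trans hv (h.symm (H _ _ _ (h.ne' hv).symm e)))
  have hinj : Function.Injective
      (fun w : Σ u : (insert a {y | R a x y} : Set X), {y | R z u y} => (⟨w.2, h.ne' w.2.2⟩ :
        ({z}ᶜ : Set X))) := by
    rintro ⟨⟨u, hu⟩, w, hw⟩ ⟨⟨v, hv⟩, w', hw'⟩ e
    obtain rfl : w = w' := Subtype.mk.inj e
    obtain rfl : u = v := by
      by_contra huv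
      have h1 := h.trans hw (h.symm hw')
      rcases hu with rfl | hu
      · exact hA v (hv.resolve_left (Ne.symm huv)) h1
      rcases hv with rfl | hv
      · exact hA u hu (h.symm h1)
      have h3 := h.trans (H _ _ _ huv (h.trans (h.symm hu) hv)) (h.symm (H _ _ _ huv h1))
      exact hz.2 (h.trans hu (H _ _ _ (Ne.symm hz.1) h3))
    rfl
  have h1 := Nat.card_le_card_of_injective _ hinj
  have := Fintype.ofFinite (insert a {y | R a x y} : Set X)
  rw [Nat.card_sigma, Finset.sum_congr rfl (g := fun _ => p) (fun u _ => by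
    rw [Nat.card_coe_set_eq, hc z u (by
      rintro rfl
      exact (not_or.2 hz) u.2)]), Finset.sum_const, Finset.card_univ, ← Nat.card_eq_fintype_card,
    Nat.card_coe_set_eq, Nat.card_coe_set_eq, hL, Set.ncard_compl, Set.ncard_singleton, hX] at h1
  simp only [smul_eq_mul, add_tsub_cancel_right] at h1
  nlinarith

theorem st' (hp : 1 < p) (hc : ∀ a x, x ≠ a → {y | R a x y}.ncard = p) :
    ¬ ∀ a x y, x ≠ y → R a x y → R y x a := fun H =>
  h.st hX hp hc fun a x y hxy e => h.symm (H _ _ _ hxy.symm (h.symm e))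

end Sys

variable [Finite X] [FaithfulSMul G X] (h2 : IsMultiplyPretransitive G X 2) {p : ℕ}
  [hp : Fact p.Prime] (hX : Nat.card X = p ^ 2 + 1)
include h2 hX

theorem orbit_stab {a x : X} (hx : x ≠ a) : orbit (stabilizer G a) x = {a}ᶜ :=
  Set.ext fun y => mem_orbit'.trans ⟨fun ⟨g, hg, e⟩ e' => hx (MulAction.injective g
    (e.trans (e'.trans hg.symm))), fun hy => two_iff.1 h2 a x a y hx.symm (Ne.symm hy)⟩

theorem ncard_compl (a : X) : ({a}ᶜ : Set X).ncard = p ^ 2 := by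
  rw [Set.ncard_compl, Set.ncard_singleton, hX]; rfl

theorem card_stab {a x : X} (hx : x ≠ a) :
    Nat.card (stabilizer G a) = p ^ 2 * Nat.card (St G a x) := by
  rw [card_eq_orbit _ x, orbit_stab h2 hX hx, ncard_compl h2 hX]

theorem Sys.size {R : X → X → X → Prop} (h : Sys G R) (h1 : ∃ a x y, x ≠ y ∧ R a x y)
    (h3 : ∃ a x y, x ≠ a ∧ y ≠ a ∧ ¬ R a x y) (a x : X) (hx : x ≠ a) : {y | R a x y}.ncard = p := by
  have : Finite G := finite_of_faithful (X := X)
  have h4 : ∀ b z, z ≠ b → {y | R b z y}.ncard = {y | R a x y}.ncard := fun b z hz => by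
    obtain ⟨g, rfl, rfl⟩ := two_iff.1 h2 a x b z hx.symm hz.symm
    rw [← h.smul_cl, Set.ncard_smul_set]
  have h5 : orbit (h.J a hx) x = {y | R a x y} := Set.ext fun y => mem_orbit'.trans
    ⟨fun ⟨g, hg, e⟩ => e ▸ hg.2, fun hy => by
      obtain ⟨g, h1, rfl⟩ := two_iff.1 h2 a x a y hx.symm (h.ne' hy).symm
      exact ⟨g, ⟨h1, hy⟩, rfl⟩⟩
  have h6 : h.J a hx ⊓ stabilizer G x = St G a x :=
    le_antisymm (fun g hg => ⟨hg.1.1, hg.2⟩) fun g hg => ⟨⟨hg.1, hg.2.symm ▸ h.refl hx⟩, hg.2⟩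
  have h7 := Subgroup.card_dvd_of_le (H := h.J a hx) (K := stabilizer G a) fun g hg => hg.1
  rw [card_eq_orbit _ x, h5, h6, card_stab h2 hX hx] at h7
  obtain ⟨i, hi, hi'⟩ := (Nat.dvd_prime_pow hp.1).1 (Nat.dvd_of_mul_dvd_mul_right Nat.card_pos h7)
  interval_cases i
  · obtain ⟨b, z, y, hzy, e⟩ := h1
    rw [← h4 b z (h.ne e), pow_zero] at hi'
    exact absurd ((Set.ncard_le_one_iff).1 hi'.le (h.refl (h.ne e)) e) hzy
  · simpa using hi'
  · obtain ⟨b, z, y, hz, hy, e⟩ := h3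
    rw [← h4 b z hz, ← ncard_compl h2 hX b] at hi'
    exact absurd ((Set.eq_of_subset_of_ncard_le (fun _ => h.ne') hi'.ge).ge hy) e

theorem fix_third (Z : Set G) (hZ : ∀ (k : G), ∀ g ∈ Z, k * g * k⁻¹ ∈ Z) {a x y : X} (hx : x ≠ a)
    {g : G} (hg : g ∈ Z) (h1 : g ≠ 1) (ha : g • a = a) (hx' : g • x = x)
    (hy : ∀ g ∈ Z, g • a = a → g • x = x → g • y = y) : y = a ∨ y = x := by
  have : Finite G := finite_of_faithful (X := X)
  by_contra hcon
  push Not at hcon
  have h := sys_fix h2 (fun a => {g ∈ Z | g • a = a}) fun k a g hg =>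
    ⟨hZ k g hg.1, by simp [mul_smul, hg.2]⟩
  obtain ⟨z, hz⟩ : ∃ z : X, g • z ≠ z := by
    by_contra h
    push Not at h
    exact h1 (eq_one_of_forall_smul h)
  exact h.st hX hp.1.one_lt (h.size h2 hX ⟨a, x, y, hcon.2.symm, hx, hcon.1, fun g hg =>
    hy g hg.1 hg.2⟩ ⟨a, x, z, hx, by rintro rfl; exact hz ha, fun e => hz (e.2.2 g ⟨hg, ha⟩ hx')⟩)
    fun a x y hxy e => ⟨e.1.symm, hxy.symm, fun g hg ha => e.2.2 g ⟨hg.1, ha⟩ hg.2⟩

theorem sylow_trans {a : X} {P : Subgroup G} (hP : IsSylowIn p P (stabilizer G a)) {x : X}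
    (hx : x ≠ a) : orbit P x = {a}ᶜ := by
  have : Finite G := finite_of_faithful (X := X)
  have h1 := pow_dvd_card_orbit hP x (k := 2) (by
    rw [orbit_stab h2 hX hx, Nat.card_coe_set_eq, ncard_compl h2 hX])
  refine Set.eq_of_subset_of_ncard_le (fun y hy => ?_) ?_
  · obtain ⟨g, hg, rfl⟩ := mem_orbit'.1 hy
    exact orbit_stab h2 hX hx ▸ mem_orbit'.2 ⟨g, hP.1 hg, rfl⟩
  · rw [ncard_compl h2 hX]
    exact Nat.le_of_dvd ((Set.ncard_pos).2 ⟨x, mem_orbit_self x⟩) h1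

variable {R : X → X → X → Prop} (h : Sys G R) (hc : ∀ a x, x ≠ a → {y | R a x y}.ncard = p)
include h hc

theorem fix_sylow {a b : X} (hb : b ≠ a) {Q : Subgroup G} (hQ : IsSylowIn p Q (St G a b))
    (h0 : Q ≠ ⊥) {y : X} (hy : y ≠ a) : (∀ g ∈ Q, g • y = y) ↔ R a b y := by
  have : Finite G := finite_of_faithful (X := X)
  have h1 : ∀ y, R a b y → ∀ g ∈ Q, g • y = y := by
    have h1 := ncard_modEq_fixed Q hQ.isPGroup {y | R a b y} (Set.toFinite _) fun g hg x hx =>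
      (hQ.1 hg).2 ▸ h.smul_fix (hQ.1 hg).1 hx
    rw [hc a b hb] at h1
    have h3 := Set.eq_of_subset_of_ncard_le (Set.sep_subset {y | R a b y} _) ((hc a b hb).trans_le
      (Nat.le_of_dvd ((Set.ncard_pos).2 ⟨b, h.refl hb, fun g hg => (hQ.1 hg).2⟩)
        ((Nat.modEq_zero_iff_dvd).1 (h1.symm.trans (Nat.modEq_zero_iff_dvd.2 dvd_rfl)))))
    exact fun y hy => (h3.ge hy).2
  refine ⟨fun H => ?_, h1 y⟩
  by_contra hcon
  obtain ⟨P, hP, hQP⟩ := exists_isSylowIn_ge hQ.isPGroup (hQ.1.trans inf_le_left)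
  have h3 : P ⊓ stabilizer G b = Q := hQ.eq_of_le (hP.isPGroup.to_inf_left)
    (inf_le_inf_right _ hP.1) (le_inf hQP (hQ.1.trans inf_le_right))
  have h4 : orbit ↥(P ⊓ Subgroup.normalizer (Q : Set G)) b = {y | y ≠ a ∧ ∀ g ∈ Q, g • y = y} := by
    ext z
    rw [mem_orbit']
    constructor
    · rintro ⟨k, hk, rfl⟩
      refine ⟨(sylow_trans h2 hX hP hb).le (mem_orbit'.2 ⟨k, hk.1, rfl⟩), fun g hg => ?_⟩
      have : (k⁻¹ * g * k) • b = b := (hQ.1 (inv_conj_mem_of_mem_normalizer hk.2 hg)).2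
      rwa [mul_smul, mul_smul, inv_smul_eq_iff] at this
    · intro hz
      obtain ⟨k, hk, rfl⟩ := mem_orbit'.1 ((sylow_trans h2 hX hP hb).ge hz.1)
      refine ⟨k, ⟨hk, (Subgroup.inv_mem_iff _).1 ?_⟩, rfl⟩
      refine mem_normalizer_of_forall fun g hg => h3 ▸ ⟨P.mul_mem (P.mul_mem (inv_mem hk) (hQP hg))
        (inv_mem (inv_mem hk)), ?_⟩
      simp [mul_smul, hz.2 g hg]
  have h5 := Subgroup.card_dvd_of_le (inf_le_left : P ⊓ Subgroup.normalizer (Q : Set G) ≤ P)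
  rw [card_eq_orbit _ b, card_eq_orbit P b, h4, h3, inf_right_comm, h3,
    inf_eq_left.2 Subgroup.le_normalizer, sylow_trans h2 hX hP hb, ncard_compl h2 hX] at h5
  obtain ⟨i, hi, hi'⟩ := (Nat.dvd_prime_pow hp.1).1 (Nat.dvd_of_mul_dvd_mul_right Nat.card_pos h5)
  have h6 : p < {y | y ≠ a ∧ ∀ g ∈ Q, g • y = y}.ncard := hc a b hb ▸ Set.ncard_lt_ncard
    ⟨fun z hz => ⟨h.ne' hz, h1 z hz⟩, fun e => hcon (e ⟨hy, H⟩)⟩
  have h7 : i = 2 := by
    have := hp.1.one_lt
    interval_cases i <;> simp_all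
  rw [h7, ← ncard_compl h2 hX a] at hi'
  have h8 := Set.eq_of_subset_of_ncard_le (fun _ hz => hz.1) hi'.ge
  refine h0 (eq_bot_iff.2 fun g hg => eq_one_of_forall_smul (X := X) fun z => ?_)
  by_cases hz : z = a
  · exact hz ▸ (hQ.1 hg).1
  · exact (h8.ge hz).2 g hg

theorem not_dvd {a b : X} (hb : b ≠ a) : ¬ p ∣ Nat.card (St G a b) := by
  have : Finite G := finite_of_faithful (X := X)
  refine fun hd => h.st hX hp.1.one_lt hc fun c x y hxy e => ?_
  obtain ⟨Q, hQ⟩ := exists_isSylowIn p (St G c x)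
  have h0 : Q ≠ ⊥ := fun e' => hQ.not_dvd_relIndex (by
    rwa [e', Subgroup.relIndex_bot_left, card_St_eq h2 (h.ne e).symm hb.symm])
  exact (fix_sylow h2 hX h hc (h.ne e).symm (St_comm (G := G) c x ▸ hQ) h0 hxy.symm).1
    ((fix_sylow h2 hX h hc (h.ne e) hQ h0 (h.ne' e)).2 e)

variable (p) in
omit [Finite X] [FaithfulSMul G X] h2 hp hX h hc in
/-- A regular abelian subgroup of the point stabiliser. -/
structure Good (a : X) (P : Subgroup G) : Prop where
  le : P ≤ stabilizer G a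
  card : Nat.card P = p ^ 2
  comm : ∀ x ∈ P, ∀ y ∈ P, x * y = y * x
  trans : ∀ x y, x ≠ a → y ≠ a → ∃ g ∈ P, g • x = y
  reg : ∀ g ∈ P, ∀ x, x ≠ a → g • x = x → g = 1

theorem exists_good (a : X) : ∃ P : Subgroup G, Good p a P := by
  have : Finite G := finite_of_faithful (X := X)
  have : Nontrivial X := Finite.one_lt_card_iff_nontrivial.1 (by nlinarith [hp.1.pos])
  obtain ⟨P, hP⟩ := exists_isSylowIn p (stabilizer G a)
  have h1 : ∀ x, x ≠ a → P ⊓ stabilizer G x = ⊥ := fun x hx => by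
    obtain ⟨k, hk⟩ := (hP.isPGroup.to_inf_left (K := stabilizer G x)).exists_card_eq
    have := Subgroup.card_dvd_of_le (inf_le_inf_right (stabilizer G x) hP.1)
    rcases k with _ | k
    · exact Subgroup.card_eq_one.1 hk
    · exact absurd ((hk ▸ dvd_pow_self p k.succ_ne_zero).trans this) (not_dvd h2 hX h hc hx)
  obtain ⟨b, hb⟩ := exists_ne a
  have h3 : Nat.card P = p ^ 2 := by
    rw [card_eq_orbit P b, h1 b hb, sylow_trans h2 hX hP hb, ncard_compl h2 hX]; simp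
  exact ⟨P, hP.1, h3, fun x hx y hy => congrArg Subtype.val
    ((IsPGroup.isMulCommutative_of_card_eq_prime_sq h3).1.1 ⟨x, hx⟩ ⟨y, hy⟩),
    fun x y hx hy => mem_orbit'.1 ((sylow_trans h2 hX hP hx).ge hy),
    fun g hg x hx e => (h1 x hx).le ⟨hg, e⟩⟩

section Good
variable {a : X} {P : Subgroup G} (hP : Good p a P)
include hP

omit h2 hX h hc in
theorem Good.eq {g k : G} (hg : g ∈ P) (hk : k ∈ P) {x : X} (hx : x ≠ a) (e : g • x = k • x) :
    g = k :=
  (inv_mul_eq_one.1 (hP.reg _ (mul_mem (inv_mem hk) hg) x hx (by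
    rw [mul_smul, inv_smul_eq_iff, e]))).symm

omit h2 hX hc in
theorem Good.memK {g : G} (hg : g ∈ P) {x : X} (e : R a x (g • x)) : g ∈ h.K a :=
  ⟨hP.le hg, fun z hz => by
    obtain ⟨k, hk, rfl⟩ := hP.trans x z (h.ne e) hz
    rw [← mul_smul, hP.comm g hg k hk, mul_smul]
    exact h.smul_fix (hP.le hk) e⟩

omit h2 hX hc in
theorem Good.exE {x y : X} (e : R a x y) : ∃ g ∈ P ⊓ h.K a, g • x = y := by
  obtain ⟨g, hg, rfl⟩ := hP.trans x y (h.ne e) (h.ne' e)
  exact ⟨g, ⟨hg, hP.memK h hg e⟩, rfl⟩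

omit h2 hX hc in
theorem Good.orbit_eq {J : Subgroup G} (h1 : P ⊓ h.K a ≤ J) {x : X} (hx : x ≠ a)
    (h3 : ∀ g ∈ J, R a x (g • x)) : orbit J x = {y | R a x y} :=
  Set.ext fun _ => mem_orbit'.trans ⟨fun ⟨g, hg, e⟩ => e ▸ h3 g hg, fun e => by
    obtain ⟨g, hg, e⟩ := hP.exE h e
    exact ⟨g, h1 hg, e⟩⟩

theorem Good.cardE : Nat.card ↥(P ⊓ h.K a) = p := by
  have : Nontrivial X := Finite.one_lt_card_iff_nontrivial.1 (by nlinarith [hp.1.pos])
  obtain ⟨b, hb⟩ := exists_ne a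
  rw [card_eq_orbit _ b, hP.orbit_eq h le_rfl hb fun g hg => hg.2.2 b hb, hc a b hb,
    (eq_bot_iff.2 fun g hg => hP.reg g hg.1.1 b hb hg.2 : P ⊓ h.K a ⊓ stabilizer G b = ⊥)]
  simp

theorem Good.powE {g : G} (hg : g ∈ P) : g ^ p ∈ P ⊓ h.K a := by
  have : ((P ⊓ h.K a).subgroupOf P).Normal := ⟨fun x hx k => by
    have : k * x * k⁻¹ = x := Subtype.ext (by simp [hP.comm k k.2 x x.2])
    rwa [this]⟩
  have h1 := ((P ⊓ h.K a).subgroupOf P).card_mul_index
  rw [Nat.card_congr (Subgroup.subgroupOfEquivOfLe inf_le_left).toEquiv, hP.cardE h2 hX h hc,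
    hP.card, sq] at h1
  have := ((P ⊓ h.K a).subgroupOf P).pow_index_mem ⟨g, hg⟩
  rwa [Nat.eq_of_mul_eq_mul_left hp.1.pos h1] at this

omit h2 hX in
theorem Good.eq_bot {N : Subgroup G} (hN : N ≤ h.K a)
    (h1 : P ⊓ h.K a ≤ Subgroup.normalizer (N : Set G)) (h3 : ¬ p ∣ Nat.card N) : N = ⊥ := by
  refine eq_bot_iff.2 fun g hg => eq_one_of_forall_smul (X := X) fun x => ?_
  by_cases hx : x = a
  · exact hx ▸ (hN hg).1
  have h4 := CA.Derange.dvd_ncard_of_orbits N (d := Nat.card (MulAction.orbit N x)) {y | R a x y}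
    (Set.toFinite _) (fun k hk y hy => h.K_rel (hN hk) hy) fun y hy => by
      obtain ⟨e, he, rfl⟩ := hP.exE h hy
      rw [CA.Burn2.card_orbit_smul N (h1 he)]
  rw [hc a x hx] at h4
  have h5 := ((Nat.dvd_prime hp.1).1 h4).resolve_right fun e => h3 (e ▸ card_orbit_dvd x)
  have := (Nat.card_eq_one_iff_unique.1 h5).1
  exact congrArg Subtype.val (Subsingleton.elim
    (⟨_, ⟨⟨g, hg⟩, rfl⟩⟩ : MulAction.orbit N x) ⟨x, mem_orbit_self x⟩)

theorem Good.normE {b : X} (hb : b ≠ a) (H : ¬ ∀ x y, R a b x → R a b y → x ≠ b → y ≠ b →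
    ∃ k ∈ h.K a, k • b = b ∧ k • x = y) {g : G} (hg : g • a = a) {e : G} (he : e ∈ P ⊓ h.K a) :
    g * e * g⁻¹ ∈ P ⊓ h.K a := by
  have : Finite G := finite_of_faithful (X := X)
  let B : SubMulAction (h.K a) X := ⟨{y | R a b y}, fun k y hy => h.K_rel k.2 hy⟩
  have hB : Nat.card B = p := hc a b hb
  have : IsPretransitive (h.K a) B := ⟨fun x y => by
    obtain ⟨e, he, e'⟩ := hP.exE h (h.trans (h.symm x.2) y.2)
    exact ⟨⟨e, he.2⟩, Subtype.ext e'⟩⟩
  have h1 : h.K a ⊓ fixingSubgroup G {y | R a b y} = ⊥ := hP.eq_bot h hc inf_le_left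
    (fun e he => mem_normalizer_of_forall fun k hk => ⟨(h.K a).mul_mem ((h.K a).mul_mem he.2 hk.1)
      ((h.K a).inv_mem he.2), (mem_fixingSubgroup_iff G).2 fun y hy => by
        rw [mul_smul, mul_smul, (mem_fixingSubgroup_iff G).1 hk.2 _
          (h.K_rel ((h.K a).inv_mem he.2) hy), smul_inv_smul]⟩)
    fun hd => not_dvd h2 hX h hc hb (hd.trans (Subgroup.card_dvd_of_le fun k hk =>
      ⟨hk.1.1, (mem_fixingSubgroup_iff G).1 hk.2 b (h.refl hb)⟩))
  have : FaithfulSMul (h.K a) B := ⟨fun {k l} hkl => (inv_mul_eq_one.1 (Subtype.ext (h1.le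
    ⟨(l⁻¹ * k).2, (mem_fixingSubgroup_iff G).2 fun y hy => by
      rw [Subgroup.coe_mul, mul_smul, Subgroup.coe_inv, inv_smul_eq_iff]
      exact congrArg Subtype.val (hkl ⟨y, hy⟩)⟩))).symm⟩
  have hs : Group.IsSolvable (h.K a) := by
    by_contra hs
    refine H fun x y hx hy hx' hy' => ?_
    obtain ⟨k, h3, h4⟩ := two_iff.1 (CA.Neumann.two_of_insol hB hs) ⟨b, h.refl hb⟩ ⟨x, hx⟩
      ⟨b, h.refl hb⟩ ⟨y, hy⟩ (fun e => hx' (Subtype.mk.inj e).symm)
      fun e => hy' (Subtype.mk.inj e).symm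
    exact ⟨k, k.2, congrArg Subtype.val h3, congrArg Subtype.val h4⟩
  have hE := hP.cardE h2 hX h hc
  have hS : ∀ T : Subgroup G, T ≤ h.K a → Nat.card T = p → ∃ S : Sylow p (h.K a),
      (S : Subgroup (h.K a)) = T.subgroupOf (h.K a) := fun T hT hT' => by
    have h3 : Nat.card (T.subgroupOf (h.K a)) = p :=
      (Nat.card_congr (Subgroup.subgroupOfEquivOfLe hT).toEquiv).trans hT'
    obtain ⟨S, hS⟩ := (IsPGroup.of_card (h3.trans (pow_one p).symm)).exists_le_sylow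
    exact ⟨S, (Subgroup.eq_of_le_of_card_ge hS (by rw [h3, CA.PrimeDeg.card_sylow hB])).symm⟩
  obtain ⟨S, hS1⟩ := hS _ inf_le_right hE
  have h3 : g •ᶜ (P ⊓ h.K a) ≤ h.K a := conj_le_iff.2 fun x hx => hg ▸ h.conj_K g a x hx.2
  obtain ⟨S', hS2⟩ := hS _ h3 ((card_conj _ _).trans hE)
  have := S.unique_of_normal ((CA.PrimeDeg.isSolvable_iff hB S).1 hs)
  rw [Subsingleton.elim S S', hS2] at hS1
  exact hS1.le (x := ⟨_, h3 (conj_mem_conj.2 he)⟩) (conj_mem_conj.2 he)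

theorem Good.fix_block (hp2 : p ≠ 2) {b : X} (hb : b ≠ a) (H : ∀ x y, R a b x → R a b y → x ≠ b →
    y ≠ b → ∃ k ∈ h.K a, k • b = b ∧ k • x = y) {x : X} (hx : x ≠ a) :
    ∃ c, R a x c ∧ ∀ k ∈ h.K a, k • b = b → k • c = c := by
  have : Finite G := finite_of_faithful (X := X)
  have hle : h.K a ⊔ P ≤ stabilizer G a := sup_le (fun g hg => hg.1) hP.le
  have hK : ∀ g ∈ h.K a ⊔ P, g • b = b → g ∈ h.K a := fun g hg e => by
    rw [← SetLike.mem_coe, Subgroup.coe_mul_of_right_le_normalizer_left _ _ fun y hy =>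
      mem_normalizer_of_forall fun k hk => hP.le hy ▸ h.conj_K y a k hk] at hg
    obtain ⟨k, hk, y, hy, rfl⟩ := hg
    refine mul_mem hk (hP.memK h hy (x := b) ?_)
    rw [mul_smul, smul_eq_iff_eq_inv_smul] at e
    exact e ▸ (inv_mem hk : k⁻¹ ∈ h.K a).2 b hb
  let Y : SubMulAction ↥(h.K a ⊔ P) X := ⟨{a}ᶜ, fun k y hy e =>
    hy (MulAction.injective (k : G) (Eq.trans e (hle k.2).symm))⟩
  have : IsMulCommutative (P.subgroupOf (h.K a ⊔ P)) :=
    ⟨⟨fun x y => Subtype.ext (Subtype.ext (hP.comm _ x.2 _ y.2))⟩⟩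
  obtain ⟨e, he, he'⟩ := link (Y := Y) hp.1 hp2 (P.subgroupOf (h.K a ⊔ P))
    ((P ⊓ h.K a).subgroupOf _) (Subgroup.subgroupOf_mono _ inf_le_left)
    ((Nat.card_congr (Subgroup.subgroupOfEquivOfLe (inf_le_left.trans le_sup_right)).toEquiv).trans
      (hP.cardE h2 hX h hc)) (fun y hy => hP.powE h2 hX h hc hy) ⟨b, hb⟩
    (fun y => by
      obtain ⟨g, hg, e⟩ := hP.trans b y hb y.2
      exact ⟨⟨g, Subgroup.mem_sup_right hg⟩, hg, Subtype.ext e⟩)
    (fun y hy e => Subtype.ext (hP.reg _ hy b hb (congrArg Subtype.val e)))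
    (fun g hg y => by
      obtain ⟨e, he, e'⟩ := hP.exE h ((hK g g.2 (congrArg Subtype.val hg)).2 y y.2)
      exact ⟨⟨e, Subgroup.mem_sup_left he.2⟩, he, Subtype.ext e'.symm⟩)
    (fun e he e' he' h1 h1' => by
      obtain ⟨k, hk, h3, h4⟩ := H _ _ (he.2.2 b hb) (he'.2.2 b hb)
        (fun r => h1 (Subtype.ext (hP.reg _ he.1 b hb r)))
        fun r => h1' (Subtype.ext (hP.reg _ he'.1 b hb r))
      exact ⟨⟨k, Subgroup.mem_sup_left hk⟩, Subtype.ext h3, Subtype.ext h4⟩) ⟨x, hx⟩ (by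
      by_contra hcon
      push Not at hcon
      have h1 : orbit ↥(h.K a ⊓ stabilizer G b) x = {y | R a x y} := Set.ext fun y =>
        mem_orbit'.trans ⟨fun ⟨g, hg, e⟩ => e ▸ hg.1.2 x hx, fun hy => by
          obtain ⟨e, he, rfl⟩ := hP.exE h hy
          obtain ⟨g, h1, h3⟩ := hcon ⟨e, Subgroup.mem_sup_left he.2⟩ he
          exact ⟨g, ⟨hK g g.2 (congrArg Subtype.val h1), congrArg Subtype.val h1⟩,
            congrArg Subtype.val h3⟩⟩
      refine not_dvd h2 hX h hc hb (Dvd.dvd.trans ?_ (Subgroup.card_dvd_of_le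
        (H := h.K a ⊓ stabilizer G b) fun g hg => ⟨hg.1.1, hg.2⟩))
      rw [card_eq_orbit _ x, h1, hc a x hx]
      exact dvd_mul_right _ _)
  exact ⟨_, he.2.2 x hx, fun k hk e => congrArg Subtype.val
    (he' ⟨k, Subgroup.mem_sup_left hk⟩ (Subtype.ext e))⟩

end Good

theorem exists_not_rel {a b : X} (hb : b ≠ a) : ∃ x, x ≠ a ∧ ¬ R a b x := by
  by_contra hcon
  push Not at hcon
  have := Set.ncard_le_ncard (s := {a}ᶜ) (t := {y | R a b y}) fun x hx => hcon x hx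
  rw [ncard_compl h2 hX, hc a b hb] at this
  nlinarith [hp.1.one_lt]

theorem case_one (hp2 : p ≠ 2) (H : ∀ a b x y, R a b x → R a b y → x ≠ b → y ≠ b →
    ∃ k ∈ h.K a, k • b = b ∧ k • x = y) : False := by
  have : Finite G := finite_of_faithful (X := X)
  have : Nontrivial X := Finite.one_lt_card_iff_nontrivial.1 (by nlinarith [hp.1.pos])
  have hfix : ∀ a b x, b ≠ a → x ≠ a → ∃ c, R a x c ∧ ∀ k ∈ h.K a, k • b = b → k • c = c :=
    fun a b x hb hx => (exists_good h2 hX h hc a).elim fun P hP =>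
      hP.fix_block h2 hX h hc hp2 hb (H a b) hx
  have h' := sys_fix h2 (fun a => (h.K a : Set G)) h.conj_K
  set R' := fun a x y : X => x ≠ a ∧ y ≠ a ∧ ∀ g ∈ (h.K a : Set G), g • x = x → g • y = y with hR'
  have hc' : ∀ a x, x ≠ a → {y | R' a x y}.ncard = p := by
    obtain ⟨b, a, hb⟩ := exists_pair_ne X
    obtain ⟨x, hx, hx'⟩ := exists_not_rel h2 hX h hc hb
    obtain ⟨c, h1, h3⟩ := hfix a b x hb hx
    refine h'.size h2 hX ⟨a, b, c, by rintro rfl; exact hx' (h.symm h1), hb, h.ne' h1, h3⟩ ?_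
    obtain ⟨x, y, hx, hy, hxy⟩ := (Set.one_lt_ncard_iff (s := {y | R a b y} \ {b})).1 (by
      rw [Set.ncard_diff_singleton_of_mem (s := {y | R a b y}) (h.refl hb), hc a b hb]
      have := hp.1.two_le
      omega)
    obtain ⟨k, hk, h1, h3⟩ := H a b x y hx.1 hy.1 hx.2 hy.2
    exact ⟨a, b, x, hb, h.ne' hx.1, fun e => hxy ((e.2.2 k hk h1).symm.trans h3)⟩
  have h1 := h'.st hX hp.1.one_lt hc'
  push Not at h1
  obtain ⟨b, a, y, hay, h1, h3⟩ := h1
  have hb := (h'.ne h1).symm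
  obtain ⟨c, h4, h5⟩ := hfix a b y hb hay.symm
  have h6 : insert a ({z | R a y z} \ {c}) = {z | R' b a z} := by
    refine Set.eq_of_subset_of_ncard_le ?_ ?_
    · rintro z (rfl | hz)
      · exact h'.refl hb.symm
      obtain ⟨k, hk, h6, rfl⟩ := H a c y z (h.symm h4) (h.trans (h.symm h4) hz.1)
        (by rintro rfl; exact h3 ⟨hb, hay.symm, h5⟩) hz.2
      have := h'.smul_fix ((h'.symm ⟨hb, h.ne' h4, h5⟩).2.2 k hk h6) h1
      rwa [hk.1] at this
    · rw [Set.ncard_insert_of_notMem (fun e => h.ne' e.1 rfl),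
        Set.ncard_diff_singleton_of_mem (s := {z | R a y z}) h4, hc a y hay.symm, hc' b a hb.symm]
      have := hp.1.pos
      omega
  have hcb : c ∉ {z | R' b a z} := h6 ▸ fun e => e.elim (h.ne' h4) fun e => e.2 rfl
  by_cases h7 : R a y b
  · obtain rfl : b = c := by
      by_contra e
      exact h'.ne' (h6.le (Or.inr ⟨h7, e⟩)) rfl
    have h8 : ∀ u v z, u ≠ v → z ≠ u → z ≠ v → (R' v u z ↔ R u v z) := fun u v z huv hu hv => by
      obtain ⟨g, rfl, rfl⟩ := two_iff.1 h2 a b u v hb.symm huv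
      obtain ⟨z, rfl⟩ := MulAction.surjective g z
      rw [h'.smul_iff, h.smul_iff]
      exact ⟨fun e => h.trans (h.symm h7) ((h6.ge e).resolve_left fun e => hu (congrArg _ e)).1,
        fun e => h6.le (Or.inr ⟨h.trans h7 e, fun e => hv (congrArg _ e)⟩)⟩
    exact h.st' hX hp.1.one_lt hc fun u v z hvz e => (h8 z v u hvz.symm (h.ne' e).symm
      (h.ne e).symm).1 (h'.symm ((h8 u v z (h.ne e).symm (h.ne' e) hvz.symm).2 e))
  · obtain ⟨k, hk, h8, h9⟩ : ∃ k ∈ h.K a, k • b = b ∧ k • y ≠ y := by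
      by_contra hcon
      push Not at hcon
      exact h3 ⟨hb, hay.symm, hcon⟩
    refine (fix_third h2 hX Set.univ (fun _ _ _ => trivial) hb (Set.mem_univ k)
      (by rintro rfl; exact h9 (one_smul _ _)) hk.1 h8 (y := c) fun g _ ga gb => ?_).elim (h.ne' h4)
      (by rintro rfl; exact h7 h4)
    have h10 : ∀ z, R' b a (g • z) ↔ R' b a z := fun z => by
      have := h'.smul_iff g (a := b) (x := a) (y := z)
      rwa [ga, gb] at this
    by_contra hne
    have h11 : R a y (g • y) := ((h6.ge ((h10 y).2 h1)).resolve_left fun e =>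
      hay (MulAction.injective g (ga.trans e.symm))).1
    exact hcb ((h10 c).1 (h6.le (Or.inr ⟨h.trans h11 (h.smul_fix ga h4), hne⟩)))

theorem case_two (hp2 : p ≠ 2) (H : ∀ a, ∃ P : Subgroup G, Good p a P ∧ ∀ g : G, g • a = a →
    ∀ e ∈ P ⊓ h.K a, g * e * g⁻¹ ∈ P ⊓ h.K a) : False := by
  have : Finite G := finite_of_faithful (X := X)
  have : Nontrivial X := Finite.one_lt_card_iff_nontrivial.1 (by nlinarith [hp.1.pos])
  choose P hP hE using H
  have hc1 : ∀ a b (g : G), b ≠ a → g • a = a → g • b = b → ∀ e ∈ P a ⊓ h.K a,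
      g • e • b = e • b → g * e * g⁻¹ = e := fun a b g hb ga gb e he e' =>
    (hP a).eq (hE a g ga e he).1 he.1 hb (by rw [mul_smul, mul_smul, inv_smul_eq_iff.2 gb.symm, e'])
  obtain ⟨L, hL⟩ : ∃ L : X → X → Subgroup G, ∀ a b g, g ∈ L a b ↔
      g • a = a ∧ ∀ y, R a b y → g • y = y := ⟨fun a b => stabilizer G a ⊓
        fixingSubgroup G {y | R a b y}, fun a b g => and_congr_right' (mem_fixingSubgroup_iff G)⟩
  have hLS : ∀ a b, b ≠ a → L a b ≤ St G a b := fun a b hb g hg =>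
    ⟨((hL _ _ _).1 hg).1, ((hL _ _ _).1 hg).2 b (h.refl hb)⟩
  have hLc : ∀ a b, b ≠ a → ∀ g ∈ St G a b, g ∈ L a b ↔
      g ∈ Subgroup.centralizer (P a ⊓ h.K a : Subgroup G) := fun a b hb g hg => by
    rw [hL, Subgroup.mem_centralizer_iff]
    refine ⟨fun H e he => (mul_inv_eq_iff_eq_mul.1
      (hc1 a b g hb hg.1 hg.2 e he (H.2 _ (he.2.2 b hb)))).symm, fun H => ⟨hg.1, fun y hy => ?_⟩⟩
    obtain ⟨e, he, rfl⟩ := (hP a).exE h hy
    rw [← mul_smul, ← H e he, mul_smul, hg.2]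
  have hL1 : ∀ a b c, R a b c → c ≠ b → ∀ g ∈ St G a b, g • c = c → g ∈ L a b := by
    intro a b c hbc hcb g hg gc
    obtain ⟨e, he, rfl⟩ := (hP a).exE h hbc
    refine (hLc a b (h.ne hbc) g hg).2 (Subgroup.mem_centralizer_iff.2 fun e' he' => ?_)
    obtain ⟨n, hn⟩ := mem_zpowers_of_prime_card ((hP a).cardE h2 hX h hc) (g := ⟨e, he⟩)
      (g' := ⟨e', he'⟩) fun r => hcb (by rw [Subtype.mk.inj r, one_smul])
    rw [← Subtype.mk.inj hn]
    exact (Commute.zpow_right (mul_inv_eq_iff_eq_mul.1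
      (hc1 a b g (h.ne hbc) hg.1 hg.2 e he gc)) n).symm
  have hLn : ∀ a b, ∀ g ∈ St G a b, ∀ m ∈ L a b, g⁻¹ * m * g ∈ L a b := fun a b g hg m hm =>
    (hL _ _ _).2 ⟨by rw [mul_smul, mul_smul, hg.1, ((hL _ _ _).1 hm).1, inv_smul_eq_iff, hg.1],
      fun y hy => by
        rw [mul_smul, mul_smul, ((hL _ _ _).1 hm).2 _ (hg.2 ▸ h.smul_fix hg.1 hy), inv_smul_smul]⟩
  obtain ⟨N, hN⟩ : ∃ N : X → Subgroup G, ∀ a, N a = stabilizer G a ⊓
    Subgroup.centralizer (P a ⊓ h.K a : Subgroup G) := ⟨_, fun _ => rfl⟩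
  have hPN : ∀ a, P a ≤ N a := fun a g hg => hN a ▸ ⟨(hP a).le hg,
    Subgroup.mem_centralizer_iff.2 fun e he => (hP a).comm e he.1 g hg⟩
  have hNa : ∀ a, ∀ g ∈ N a, g • a = a := fun a g hg => (hN a ▸ hg).1
  have hNL : ∀ a b, b ≠ a → N a ⊓ stabilizer G b = L a b := fun a b hb => by
    ext g
    rw [hN]
    exact ⟨fun hg => (hLc a b hb g ⟨hg.1.1, hg.2⟩).2 hg.1.2, fun hg =>
      ⟨⟨(hLS a b hb hg).1, (hLc a b hb g (hLS a b hb hg)).1 hg⟩, (hLS a b hb hg).2⟩⟩
  have hNc : ∀ a b, b ≠ a → Nat.card (N a) = p ^ 2 * Nat.card (L a b) := fun a b hb => by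
    rw [card_eq_orbit _ b, hNL a b hb, ← ncard_compl h2 hX a]
    congr 2
    exact Set.ext fun y => mem_orbit'.trans ⟨fun ⟨g, hg, e⟩ e' => hb (MulAction.injective g
      (e.trans (e'.trans (hNa a g hg).symm))), fun hy =>
        ((hP a).trans b y hb hy).imp fun g hg => ⟨hPN a hg.1, hg.2⟩⟩
  have hM : ∀ a b, b ≠ a → L a b ⊓ L b a = ⊥ := by
    intro a b hb
    obtain ⟨c, hca, h1, h3⟩ : ∃ c, c ≠ a ∧ R b a c ∧ ¬ R a b c := by
      have h1 := h.st hX hp.1.one_lt hc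
      push Not at h1
      obtain ⟨u, v, z, hvz, h1, h3⟩ := h1
      obtain ⟨g, rfl, rfl⟩ := two_iff.1 h2 v u a b (h.ne h1) hb.symm
      exact ⟨g • z, (MulAction.injective g).ne hvz.symm, h.smul g h1, mt (h.smul_iff g).1 h3⟩
    have hcl : ∀ g ∈ N a, ∀ x, g • {y | R a x y} = {y | R a (g • x) y} := fun g hg x => by
      rw [h.smul_cl, hNa a g hg]
    have hst : ∀ g ∈ N a, ∀ x, x ≠ a → (g • {y | R a x y} = {y | R a x y} ↔ R a x (g • x)) :=
      fun g hg x hx => by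
        rw [hcl g hg]
        exact ⟨fun e => h.symm (e.ge (h.refl hx)), fun e => (h.cl_eq e).symm⟩
    have hmem : ∀ x, x ≠ a → {y | R a x y} ∈ orbit (N a) {y | R a b y} := fun x hx => by
      obtain ⟨g, hg, rfl⟩ := (hP a).trans b x hb hx
      exact ⟨⟨g, hPN a hg⟩, hcl g (hPN a hg) b⟩
    have hY : Nat.card (orbit (N a) {y | R a b y}) = p := by
      have h4 := card_eq_orbit (N a) {y | R a b y}
      rw [hNc a b hb, card_eq_orbit (N a ⊓ _) b, inf_right_comm, hNL a b hb, (hP a).orbit_eq h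
        (J := N a ⊓ stabilizer G {y | R a b y})
        (fun g hg => ⟨hPN a hg.1, (hst g (hPN a hg.1) b hb).2 (hg.2.2 b hb)⟩) hb
        fun g hg => (hst g hg.1 b hb).1 hg.2, hc a b hb, inf_eq_left.2 fun g hg =>
          (hst g ((hNL a b hb).ge hg).1 b hb).2 ((hLS a b hb hg).2.symm ▸ h.refl hb),
        ← mul_assoc, sq] at h4
      exact (Nat.eq_of_mul_eq_mul_right hp.1.pos (Nat.eq_of_mul_eq_mul_right Nat.card_pos h4)).symm
    refine (hP a).eq_bot h hc (fun m hm => ⟨(hLS a b hb hm.1).1, fun x hx => ?_⟩)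
      (fun e he => mem_normalizer_of_forall fun m hm => ?_) fun hd => not_dvd h2 hX h hc hb
        (hd.trans (Subgroup.card_dvd_of_le (inf_le_left.trans (hLS a b hb))))
    · have hm' := ((hNL a b hb).ge hm.1).1
      refine (hst m hm' x hx).1 (congrArg Subtype.val (pd hY {n : N a | (n : G) ∈ L a b ⊓ L b a}
        (u := ⟨_, hmem b hb⟩) (v := ⟨_, hmem c hca⟩)
        (fun e => h3 ((Subtype.mk.inj e).ge (h.refl hca))) (fun k hk n hn => ?_)
        (fun k hk => Subtype.ext ((hst k k.2 b hb).2 ((hLS a b hb hk.1).2.symm ▸ h.refl hb)))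
        (fun k hk => Subtype.ext ((hst k k.2 c hca).2
          ((((hL _ _ _).1 hk.2).2 c h1).symm ▸ h.refl hca))) (m := ⟨m, hm'⟩) hm ⟨_, hmem x hx⟩))
      obtain ⟨e, he, e'⟩ := (hP a).exE h ((hst n n.2 b hb).1 (congrArg Subtype.val hn))
      have h4 : e⁻¹ * n ∈ St G a b := mem_St.2 ⟨by
        rw [mul_smul, hNa a n n.2, inv_smul_eq_iff, he.2.1], by rw [mul_smul, ← e', inv_smul_smul]⟩
      have h5 : (n : G)⁻¹ * k * n = (e⁻¹ * n)⁻¹ * k * (e⁻¹ * n) := by
        have := Subgroup.mem_centralizer_iff.1 ((hLc a b hb k (hLS a b hb hk.1)).1 hk.1) e he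
        rw [mul_inv_rev, inv_inv, mul_assoc (n : G)⁻¹ e, this]
        group
      change (n : G)⁻¹ * k * n ∈ L a b ⊓ L b a
      rw [h5]
      exact ⟨hLn a b _ h4 k hk.1, hLn b a _ (St_comm (G := G) a b ▸ h4) k hk.2⟩
    · rwa [Subgroup.mem_centralizer_iff.1 ((hLc a b hb m (hLS a b hb hm.1)).1 hm.1) e he,
        mul_inv_cancel_right]
  have hsr : ∀ a b, b ≠ a → ∀ J ≤ St G a b, J ⊓ L a b = ⊥ → Nat.card J ∣ p - 1 := by
    intro a b hb J hJ hJ'
    have := card_dvd_of_semiregular_on J ({y | R a b y} \ {b}) (Set.toFinite _)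
      (fun g hg x hx => ⟨(hJ hg).2 ▸ h.smul_fix (hJ hg).1 hx.1, fun e => hx.2
        (MulAction.injective g (Eq.trans e (hJ hg).2.symm))⟩)
      fun g hg x hx e => hJ'.le ⟨hg, hL1 a b x hx.1 hx.2 g (hJ hg) e⟩
    rwa [Set.ncard_diff_singleton_of_mem (s := {y | R a b y}) (h.refl hb), hc a b hb] at this
  have hPn : ∀ a (g : G), g • a = a → ∀ y ∈ P a, g * y * g⁻¹ ∈ P a := by
    intro a g ga y hy
    obtain ⟨b, hb⟩ := exists_ne a
    have h1 := hsr b a hb.symm (L a b) (St_comm (G := G) a b ▸ hLS a b hb) (hM a b hb)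
    have h3 := Nat.le_of_dvd (by have := hp.1.two_le; omega) h1
    have h4 : ∀ T : Subgroup G, T ≤ N a → Nat.card T = p ^ 2 → ∃ S : Sylow p (N a),
        (S : Subgroup (N a)).map (N a).subtype = T ∧ S.index = Nat.card (L a b) := by
      intro T hT hT'
      have h5 := (T.subgroupOf (N a)).card_mul_index
      rw [Nat.card_congr (Subgroup.subgroupOfEquivOfLe hT).toEquiv, hT', hNc a b hb] at h5
      have h6 := Nat.eq_of_mul_eq_mul_left (pow_pos hp.1.pos 2) h5
      obtain ⟨S, hS⟩ := (isSylowIn_of_not_dvd (IsPGroup.of_card hT') hT (by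
        rw [Subgroup.relIndex, h6]
        exact Nat.not_dvd_of_pos_of_lt Nat.card_pos (by have := hp.1.two_le; omega))).exists_sylow
      exact ⟨S, hS, by 
        rw [← h6, ← hS, Subgroup.subgroupOf,
          Subgroup.comap_map_eq_self_of_injective (N a).subtype_injective]⟩
    obtain ⟨S, hS, hS'⟩ := h4 _ (hPN a) (hP a).card
    obtain ⟨S', hS1, -⟩ := h4 (g •ᶜ P a) (conj_le_iff.2 fun x hx => hN a ▸
      ⟨by simp [mul_smul, inv_smul_eq_iff.2 ga.symm, hNa a x (hPN a hx), ga],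
        Subgroup.mem_centralizer_iff.2 fun e he => by
          have := (hP a).comm _ (hE a g⁻¹ (inv_smul_eq_iff.2 ga.symm) e he).1 x hx
          rw [← mul_left_inj g, ← mul_right_inj g⁻¹]
          simpa [mul_assoc] using this⟩) ((card_conj _ _).trans (hP a).card)
    have h5 := Nat.le_of_dvd Nat.card_pos (hS' ▸ S.card_dvd_index)
    have h6 := card_sylow_modEq_one p (N a)
    have := (Nat.card_eq_one_iff_unique.1 (Nat.ModEq.eq_of_lt_of_lt h6
      (by have := hp.1.two_le; omega) hp.1.one_lt)).1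
    rw [← hS, Subsingleton.elim S S', hS1]
    exact conj_mem_conj.2 hy
  obtain ⟨b, a, hb⟩ := exists_pair_ne X
  by_cases h0 : L a b = ⊥
  swap
  · refine h.st' hX hp.1.one_lt hc fun v u c huc e => ?_
    obtain ⟨g, hg, g1⟩ : ∃ g ∈ L v u, g ≠ 1 := by
      obtain ⟨k, rfl, rfl⟩ := two_iff.1 h2 a b v u hb.symm (h.ne e).symm
      obtain ⟨⟨g, hg⟩, g1⟩ := Subgroup.ne_bot_iff_exists_ne_one.1 h0
      refine ⟨k * g * k⁻¹, (hL _ _ _).2 ⟨by simp [mul_smul, ((hL _ _ _).1 hg).1], fun y hy => ?_⟩,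
        fun r => g1 (Subtype.ext (by simpa using r))⟩
      obtain ⟨y, rfl⟩ := MulAction.surjective k y
      simp [mul_smul, ((hL _ _ _).1 hg).2 y ((h.smul_iff k).1 hy)]
    have hv := (h.ne e).symm
    have gu := (hLS v u hv.symm hg).2
    have gv := (hLS v u hv.symm hg).1
    have h1 : orbit ↥(P u ⊓ Subgroup.centralizer {g}) v = {y | y ≠ u ∧ g • y = y} := by
      ext y
      rw [mem_orbit']
      constructor
      · rintro ⟨k, hk, rfl⟩
        exact ⟨fun r => hv (MulAction.injective k (r.trans ((hP u).le hk.1).symm)), by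
          rw [← mul_smul, ← Subgroup.mem_centralizer_singleton_iff.1 hk.2, mul_smul, gv]⟩
      · intro hy
        obtain ⟨k, hk, rfl⟩ := (hP u).trans v y hv hy.1
        exact ⟨k, ⟨hk, Subgroup.mem_centralizer_singleton_iff.2 (mul_inv_eq_iff_eq_mul.1
          ((hP u).eq (hPn u g gu k hk) hk hv (by
            rw [mul_smul, mul_smul, inv_smul_eq_iff.2 gv.symm, hy.2]))).symm⟩, rfl⟩
    have h3 : insert v ({y | R v u y} \ {u}) ⊆ {y | y ≠ u ∧ g • y = y} := by
      rintro y (rfl | hy)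
      · exact ⟨hv, gv⟩
      · exact ⟨hy.2, ((hL _ _ _).1 hg).2 y hy.1⟩
    have h4 : (insert v ({y | R v u y} \ {u})).ncard = p := by
      rw [Set.ncard_insert_of_notMem (fun e => h.ne' e.1 rfl),
        Set.ncard_diff_singleton_of_mem (s := {z | R v u z}) (h.refl hv.symm), hc v u hv.symm]
      have := hp.1.pos
      omega
    have h5 := (Dvd.intro _ (card_eq_orbit (P u ⊓ Subgroup.centralizer {g}) v).symm).trans
      (Subgroup.card_dvd_of_le inf_le_left)
    rw [h1, (hP u).card] at h5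
    obtain ⟨i, hi, hi'⟩ := (Nat.dvd_prime_pow hp.1).1 h5
    have h6 : insert v ({y | R v u y} \ {u}) = {y | y ≠ u ∧ g • y = y} := by
      refine Set.eq_of_subset_of_ncard_le h3 ?_
      interval_cases i
      · rw [hi', h4, pow_zero]; exact hp.1.one_le
      · rw [hi', h4, pow_one]
      · rw [← ncard_compl h2 hX u] at hi'
        have h8 := Set.eq_of_subset_of_ncard_le (fun _ hz => hz.1) hi'.ge
        refine absurd (eq_one_of_forall_smul (X := X) fun z => ?_) g1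
        by_cases hz : z = u
        · exact hz ▸ gu
        · exact (h8.ge hz).2
    obtain ⟨k, hk, rfl⟩ := mem_orbit'.1 (h1.ge (h3 (Or.inr ⟨e, huc.symm⟩)))
    have h7 := (h6.ge (h1.le (mem_orbit'.2 ⟨k⁻¹, inv_mem hk, rfl⟩))).resolve_left
      fun r => h.ne' e (inv_smul_eq_iff.1 r).symm
    have := h.smul k h7.1
    rwa [smul_inv_smul, (hP u).le hk.1] at this
  have hcyc : IsCyclic (St G a b) := by
    have hE' := (hP a).cardE h2 hX h hc
    have := isCyclic_of_prime_card hE'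
    have : IsCyclic (MulAut ↥(P a ⊓ h.K a)) := by
      have e := IsCyclic.mulAutMulEquiv ↥(P a ⊓ h.K a)
      rw [hE'] at e
      exact isCyclic_of_surjective e.symm e.symm.surjective
    refine isCyclic_of_injective (((P a ⊓ h.K a).normalizerMonoidHom).comp (Subgroup.inclusion
      fun g hg => mem_normalizer_of_forall (hE a g hg.1))) ((injective_iff_map_eq_one _).2
        fun g hg => Subtype.ext (h0.le ((hLc a b hb g g.2).2 ?_)))
    exact ((P a ⊓ h.K a).normalizerMonoidHom_ker.le hg : _)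
  have h3 : ∀ (g : G) (a b c : X), a ≠ b → b ≠ c → a ≠ c → g • a = a → g • b = b → g • c = c →
      g = 1 := by
    classical
    intro g u v c huv hvc huc gu gv gc
    obtain ⟨k, rfl, rfl⟩ := two_iff.1 h2 a b u v hb.symm huv
    obtain ⟨c, rfl⟩ := MulAction.surjective k c
    obtain ⟨g, rfl⟩ := (MulAut.conj k).surjective g
    simp only [MulAut.conj_apply, mul_smul, inv_smul_smul, smul_left_cancel_iff] at gu gv gc
    by_contra g1
    refine (fix_third h2 hX {x | x ^ orderOf g = 1} (fun k x hx => by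
      rw [Set.mem_setOf_eq, conj_pow, hx, mul_one, mul_inv_cancel]) hb (pow_orderOf_eq_one g)
      (by rintro rfl; simp at g1) gu gv (y := c) fun x hx xa xb => ?_).elim
      (fun r => huc (r ▸ rfl)) fun r => hvc (r ▸ rfl)
    obtain ⟨n, hn⟩ := mem_zpowers_of_cyclic (g := (⟨g, gu, gv⟩ : St G a b)) (x := ⟨x, xa, xb⟩)
      (Subtype.ext (by rw [← Subgroup.orderOf_coe]; exact hx))
    rw [← Subtype.mk.inj hn]
    exact zpow_mem (show g ∈ stabilizer G c from gc) n
  have h4 : Nat.card X % 4 = 2 := by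
    obtain ⟨k, hk⟩ := hp.1.odd_of_ne_two hp2
    have : p ^ 2 + 1 = 4 * (k ^ 2 + k) + 2 := by rw [hk]; ring
    omega
  have h5 : ∀ M : Subgroup G, M.Normal → IsPretransitive M X → ∃ a : X, stabilizer M a ≠ ⊥ := by
    intro M hM htr
    by_contra hcon
    push Not at hcon
    have := CA.Burn2.solvable_of_not_four_dvd M (by rw [card_eq_of_regular a (hcon a)]; omega)
    have := CA.Burn2.card_eq_two_of_solvable h2 h4 M (by
      rintro rfl
      obtain ⟨⟨_, rfl⟩, hg⟩ := exists_smul_eq (⊥ : Subgroup G) a b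
      exact hb (hg.symm.trans (one_smul _ _)))
    nlinarith [hp.1.two_le]
  have h6 : St G a b ≠ ⊥ := fun e => by
    have := isPretransitive_of_is_two_pretransitive (h2 := h2)
    have := CA.Burn2.solvable_of_not_four_dvd (⊤ : Subgroup G) (by
      rw [Subgroup.card_top, card_eq_card_mul_card_stabilizer (G := G) a, card_stab h2 hX hb, e,
        Subgroup.card_bot, mul_one]
      intro h
      have := (Nat.Coprime.pow_left 2 (Nat.Coprime.pow_right 2 ((Nat.coprime_primes Nat.prime_two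
        hp.1).2 hp2.symm))).dvd_of_dvd_mul_right h
      omega)
    have := CA.Burn2.card_eq_two_of_solvable h2 h4 ⊤ fun e => (hP a).card.symm.trans
      (Subgroup.card_eq_one.2 (eq_bot_iff.2 (e ▸ le_top))) |> fun e => by nlinarith [hp.1.two_le]
    nlinarith [hp.1.two_le]
  obtain ⟨⟨g, hg⟩, g1⟩ := Subgroup.ne_bot_iff_exists_ne_one.1 h6
  have h7 := Nat.le_of_dvd (by have := hp.1.two_le; omega) (hsr a b hb _ le_rfl (by simp [h0]))
  rcases large_or_two ⟨inferInstance, h2, h3, ⟨g, fun e => g1 (Subtype.ext e), a, b, hb.symm,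
    hg.1, hg.2⟩, h5⟩ ⟨h2, (hP a).le, hPn a, (hP a).trans, (hP a).reg⟩ hb with h8 | h8
  · rw [(hP a).card] at h8
    have := hp.1.two_le
    have : p ^ 2 + 1 ≤ 2 * p := by omega
    nlinarith
  · exact h8.2 ⟨⟨fun x y => Subtype.ext ((hP a).comm _ x.2 _ y.2)⟩⟩

theorem eq_two : p = 2 ∧ Nat.card G = 20 := by
  have : Finite G := finite_of_faithful (X := X)
  have : Nontrivial X := Finite.one_lt_card_iff_nontrivial.1 (by nlinarith [hp.1.pos])
  obtain ⟨b, a, hb⟩ := exists_pair_ne X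
  by_cases hp2 : p = 2
  · subst hp2
    have := isPretransitive_of_is_two_pretransitive (h2 := h2)
    have h1 : Nat.card (St G a b) = 1 := by
      by_contra h1
      obtain ⟨r, hr, hrd⟩ := Nat.exists_prime_and_dvd h1
      have := Fact.mk hr
      obtain ⟨g, hg⟩ := exists_prime_orderOf_dvd_card' r hrd
      have h3 := ncard_modEq_fixedBy (p := r) (g := g.1) (k := 1) (by
        rw [pow_one, ← hg, ← Subgroup.coe_pow, pow_orderOf_eq_one]; rfl) (Set.univ : Set X)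
        (Set.toFinite _) (by simp)
      have h4 : insert a {y | R a b y} ⊆ {x ∈ (Set.univ : Set X) | g.1 • x = x} := by
        rintro y (rfl | hy)
        · exact ⟨trivial, g.2.1⟩
        by_contra hne
        have h5 : y ≠ b := by rintro rfl; exact hne ⟨trivial, g.2.2⟩
        have := (Set.two_lt_ncard_iff (s := {y | R a b y})).2 ⟨b, y, g.1 • y, h.refl hb, hy,
          by simpa [(mem_St.1 g.2).2] using h.smul_fix g.2.1 hy, h5.symm,
          fun e => h5 (MulAction.injective g.1 (e.symm.trans g.2.2.symm)),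
          fun e => hne ⟨trivial, e.symm⟩⟩
        rw [hc a b hb] at this
        omega
      have h5 := Set.ncard_le_ncard h4
      rw [Set.ncard_insert_of_notMem (s := {y | R a b y}) (fun e => h.ne' e rfl), hc a b hb] at h5
      have h6 := Set.ncard_lt_ncard (s := {x ∈ (Set.univ : Set X) | g.1 • x = x}) (t := Set.univ)
        ⟨Set.subset_univ _, fun e => hr.one_lt.ne (by
          rw [← hg, show g = 1 from Subtype.ext (eq_one_of_forall_smul (X := X)
            fun x => (e trivial).2), orderOf_one])⟩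
      rw [Set.ncard_univ, hX] at h3 h6
      have h7 := Nat.le_of_dvd (by omega) ((Nat.modEq_iff_dvd' h6.le).1 h3.symm)
      have := hr.two_le
      obtain rfl : r = 2 := by omega
      exact not_dvd h2 hX h hc hb hrd
    exact ⟨rfl, by rw [card_eq_card_mul_card_stabilizer (G := G) a, card_stab h2 hX hb, h1, hX]; rfl⟩
  exfalso
  by_cases H : ∀ x y, R a b x → R a b y → x ≠ b → y ≠ b → ∃ k ∈ h.K a, k • b = b ∧ k • x = y
  · refine case_one h2 hX h hc hp2 fun u v x y hx hy hx' hy' => ?_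
    obtain ⟨g, rfl, rfl⟩ := two_iff.1 h2 a b u v hb.symm (h.ne hx).symm
    obtain ⟨x, rfl⟩ := MulAction.surjective g x
    obtain ⟨y, rfl⟩ := MulAction.surjective g y
    obtain ⟨k, hk, h1, h3⟩ := H x y ((h.smul_iff g).1 hx) ((h.smul_iff g).1 hy)
      (fun e => hx' (congrArg _ e)) fun e => hy' (congrArg _ e)
    exact ⟨_, h.conj_K g a k hk, by simp [mul_smul, h1], by simp [mul_smul, h3]⟩
  · refine case_two h2 hX h hc hp2 fun u => ?_
    obtain ⟨P, hP⟩ := exists_good h2 hX h hc u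
    obtain ⟨v, hv⟩ := exists_ne u
    refine ⟨P, hP, fun g hg e he => hP.normE h2 hX h hc hv (fun H' => H fun x y hx hy hx' hy' => ?_)
      hg he⟩
    obtain ⟨g, rfl, rfl⟩ := two_iff.1 h2 u v a b hv.symm hb.symm
    obtain ⟨x, rfl⟩ := MulAction.surjective g x
    obtain ⟨y, rfl⟩ := MulAction.surjective g y
    obtain ⟨k, hk, h1, h3⟩ := H' x y ((h.smul_iff g).1 hx) ((h.smul_iff g).1 hy)
      (fun e => hx' (congrArg _ e)) fun e => hy' (congrArg _ e)
    exact ⟨_, h.conj_K g u k hk, by simp [mul_smul, h1], by simp [mul_smul, h3]⟩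

omit h hc in
theorem atkinson (a : X) :
    IsPreprimitive (stabilizer G a) (SubMulAction.ofStabilizer G a) ∨ (p = 2 ∧ Nat.card G = 20) := by
  refine or_iff_not_imp_left.2 fun hcon => ?_
  have := isPretransitive_of_is_two_pretransitive (h2 := h2)
  have := pretransitive_stab_iff.2 ((two_iff_stab a).1 h2)
  have h1 := mt prim_of_rel hcon
  push Not at h1
  obtain ⟨r, hr, hinv, ⟨x, y, hxy, hxy'⟩, x', y', hxy''⟩ := h1
  have key : ∀ {g k : G} {b u v : X} (hg : g • b = a) (hk : k • b = a) {h1 h2 h3 h4},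
      r ⟨g • u, h1⟩ ⟨g • v, h2⟩ → r ⟨k • u, h3⟩ ⟨k • v, h4⟩ := fun {g k b u v} hg hk _ _ _ _ e => by
    convert hinv ⟨k * g⁻¹, by rw [mem_stabilizer_iff, mul_smul, ← hg, inv_smul_smul, hk, hg]⟩ _ _ e
      using 1 <;> exact Subtype.ext (by simp [mul_smul])
  have h : Sys G fun b u v : X => ∃ (g : G) (_ : g • b = a) (h1 : _) (h2 : _),
      r ⟨g • u, h1⟩ ⟨g • v, h2⟩ :=
    { ne := by
        rintro b u v ⟨g, hg, h1, -⟩ rfl
        exact h1 hg
      refl := fun {b u} hu => by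
        obtain ⟨g, hg⟩ := exists_smul_eq G b a
        have : g • u ≠ a := hg ▸ (MulAction.injective g).ne hu
        exact ⟨g, hg, this, this, hr.refl _⟩
      symm := fun ⟨g, hg, h1, h2, e⟩ => ⟨g, hg, h2, h1, hr.symm e⟩
      trans := fun ⟨g, hg, h1, h2, e⟩ ⟨k, hk, h3, h4, e'⟩ =>
        ⟨k, hk, fun r => h1 (by rw [MulAction.injective k (Eq.trans r hk.symm)]; exact hg), h4,
          hr.trans (key hg hk e) e'⟩
      smul := fun k b u v ⟨g, hg, h1, h2, e⟩ => ⟨g * k⁻¹, by simpa [mul_smul] using hg,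
        by simpa [mul_smul] using h1, by simpa [mul_smul] using h2, by simpa [mul_smul] using e⟩ }
  exact eq_two h2 hX h (h.size h2 hX ⟨a, x, y, Subtype.val_injective.ne hxy', 1, one_smul _ _,
    by simp [x.2], by simp [y.2], by simpa using hxy⟩ ⟨a, x', y', x'.2, y'.2, fun ⟨g, hg, _, _, e⟩ =>
      hxy'' (by simpa using key hg (one_smul G a) (h3 := by simp [x'.2]) (h4 := by simp [y'.2]) e)⟩)

end CA.Atk
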