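import Cfsg.Agent.Lib.Perm.H2Ons
import Cfsg.Agent.Lib.Char.CharBurn
import Cfsg.Agent.Lib.Grp.Act
import Cfsg.Agent.Lib.Odd.BG4x1
import Cfsg.Agent.S0205

/-! Point stabilizers of extremely primitive affine groups. -/

set_option autoImplicit false

namespace CA.H2Ext
open Subgroup MulAction CA.BG CA.H2Ons

/-- the linear form of extreme primitivity -/
structure EP (X V : Type*) [Group X] [CommGroup V] [MulDistribMulAction X V] : Prop where
  mx : ∀ (v : V) (K : Subgroup X), stabilizer X v ≤ K → K ≤ stabilizer X v ∨ K = ⊤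
  fa : ∀ v : V, v ≠ 1 → ∀ x : X, (∀ y : X, x • y • v = y • v) → x = 1
  irr : ∀ W : Subgroup V, (∀ x : X, ∀ w ∈ W, x • w ∈ W) → W = ⊥ ∨ W = ⊤

variable {X V : Type*} [Group X] [CommGroup V] [MulDistribMulAction X V]

theorem fx {x y : X} {v : V} : (y⁻¹ * x * y) • v = v ↔ x • y • v = y • v := by
  rw [mul_smul, mul_smul, inv_smul_eq_iff]

theorem EP.tr (h : EP X V) {N : Subgroup X} [hn : N.Normal] (hN : N ≠ ⊥) {v : V} (hv : v ≠ 1) (x : X) :
    ∃ n ∈ N, n • v = x • v := by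
  rcases h.mx v (N ⊔ stabilizer X v) le_sup_right with e | e
  · exact absurd (eq_bot_iff.2 fun n h1 => mem_bot.2 (h.fa v hv n fun y =>
      fx.1 (e (mem_sup_left (hn.conj_mem' n h1 y))))) hN
  · obtain ⟨n, h1, s, hs, rfl⟩ := (mem_sup_norm' (by rw [normalizer_eq_top]; exact le_top)).1 (e.ge (mem_top x))
    exact ⟨n, h1, by rw [mul_smul, show s • v = v from hs]⟩

theorem EP.mv (h : EP X V) {N : Subgroup X} [N.Normal] (hN : N ≠ ⊥) {v : V} (hv : v ≠ 1) {x : X} (hx : x ≠ 1) :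
    ∃ n ∈ N, (n⁻¹ * x * n) • v ≠ v := by
  by_contra! e
  refine hx (h.fa v hv x fun y => ?_)
  obtain ⟨n, h1, h2⟩ := h.tr hN hv y
  rw [← h2]; exact fx.1 (e n h1)

theorem EP.sr (h : EP X V) {N : Subgroup X} [N.Normal] (hN : N ≠ ⊥) {v : V} (hv : v ≠ 1) {x : X} (hx : x ∈ 𝓒(N))
    (e : x • v = v) : x = 1 := by
  by_contra h1
  obtain ⟨n, h2, h3⟩ := h.mv hN hv h1
  rw [mul_assoc, ← mem_cent.1 hx n h2, inv_mul_cancel_left] at h3
  exact h3 e

theorem inv_fix [Nontrivial V] (h2 : ∀ v : V, v * v = 1) {t : X} (ht : t * t = 1) : ∃ v : V, v ≠ 1 ∧ t • v = v := by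
  obtain ⟨u, hu⟩ := exists_ne (1 : V)
  by_cases e : t • u = u
  · exact ⟨u, hu, e⟩
  · exact ⟨u * t • u, fun e1 => e (mul_left_cancel (e1.trans (h2 u).symm)), by
      rw [smul_mul', smul_smul, ht, one_smul, mul_comm]⟩

variable [Finite X]

theorem exists_inv {T : Subgroup X} (h : ¬ Group.IsSolvable T) : ∃ t ∈ T, t ≠ 1 ∧ t * t = 1 := by
  obtain ⟨a, h1, ha⟩ := exists_orderOf_eq (H := T) Nat.prime_two (by
    by_contra e
    exact h (Cfsg.Agent.S0205.result (G := T) (Nat.odd_iff.2 (by omega))))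
  exact ⟨a, h1, fun e => by simp [e] at ha, by rw [← pow_two, ← ha, pow_orderOf_eq_one]⟩

theorem EP.two [Nontrivial V] (h : EP X V) (hs : ¬ Group.IsSolvable X) (v : V) : v * v = 1 := by
  obtain ⟨t, -, t1, t2⟩ := exists_inv (T := (⊤ : Subgroup X)) fun e => hs (Group.isSolvable_of_surjective
    (f := (⊤ : Subgroup X).subtype) fun x => ⟨⟨x, trivial⟩, rfl⟩)
  obtain ⟨u, hu⟩ : ∃ u : V, t • u ≠ u := by
    obtain ⟨u, hu⟩ := exists_ne (1 : V)
    by_contra! e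
    exact t1 (h.fa u hu t fun y => e _)
  have w1 : u * (t • u)⁻¹ ≠ 1 := fun e => hu (mul_inv_eq_one.1 e).symm
  have w2 : t • (u * (t • u)⁻¹) = (u * (t • u)⁻¹)⁻¹ := by
    rw [smul_mul', smul_inv', smul_smul, t2, one_smul, mul_inv_rev, inv_inv]
  generalize u * (t • u)⁻¹ = w at w1 w2
  have w3 : w * w = 1 := by
    by_contra e
    have h1 : t ∉ stabilizer X w := fun e1 => e (by rw [mul_eq_one_iff_eq_inv, ← w2]; exact Eq.symm e1)
    have h2 := (h.mx w 𝓝(stabilizer X w) (le_norm_self _)).resolve_left fun e1 => h1 (e1 (mem_norm_of_cj_le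
      fun s hs => by
        have h3 := fx.1 (mem_cj.1 hs)
        rwa [w2, smul_inv', inv_inj] at h3))
    have h3 := (h.mx w (zpowers t) fun s hs => by
      rw [h.fa w w1 s fun y => fx.1 (conj_mem_of_mem_norm' (h2.ge (mem_top y)) hs)]; exact one_mem _).resolve_left
      fun e1 => h1 (e1 (mem_zpowers t))
    refine hs (Group.isSolvable_of_comm fun a b => ?_)
    obtain ⟨m, rfl⟩ := h3.ge (mem_top a)
    obtain ⟨n, rfl⟩ := h3.ge (mem_top b)
    exact zpow_mul_comm t m n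
  have := (h.irr (powMonoidHom 2 : V →* V).ker fun x y hy => by
    simp only [MonoidHom.mem_ker, powMonoidHom_apply] at hy ⊢
    rw [← smul_pow', hy, smul_one]).resolve_left (ne_bot_of_mem (x := w) (by simpa [pow_two] using w3) w1)
  simpa [pow_two] using this.ge (mem_top v)

theorem EP.ab [Finite V] [Nontrivial V] (h : EP X V) (hs : ¬ Group.IsSolvable X) {A : Subgroup X} [A.Normal]
    (h0 : A ≠ ⊥) (hA : IsMulCommutative A) : False := by
  have h1 : IsCyclic A := CA.Act.isCyclic_of_fpf_of_comm (V := V) fun a ha v hv => by_contra fun e =>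
    ha (Subtype.ext (h.sr h0 e (comm_iff_le_cent.1 hA a.2) hv))
  have h2 := der_cent_cyclic (A := ⊤) h1 (by rw [normalizer_eq_top])
  obtain ⟨t, ht, t1, t2⟩ := exists_inv (T := commutator X) fun e => hs
    (Group.isSolvable_of_ker_le_range (commutator X).subtype (Abelianization.of) (by simp))
  obtain ⟨v, v1, hv⟩ := inv_fix (h.two hs) t2
  exact t1 (h.sr h0 v1 (h2 ht) hv)

theorem EP.dich (h : EP X V) {N T : Subgroup X} (hF : Fac N T) (v : V) :
    (∀ t ∈ T, ∀ c ∈ 𝓒(T), (t * c) • v = v → t • v = v) ∨ ∀ t ∈ T, ∃ c ∈ 𝓒(T), (t * c) • v = v := by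
  set M := 𝓒(T) ⊔ (stabilizer X v ⊓ 𝓝(T)) with hM
  set Q := closure {x | ∃ a ∈ stabilizer X v, ∃ t ∈ T ⊓ M, x = a * t * a⁻¹} with hQ
  have h1 : stabilizer X v ≤ 𝓝(Q) := CA.BG4.norm_closure (by
    rintro g hg _ ⟨a, ha, t, ht, rfl⟩; exact ⟨g * a, mul_mem hg ha, t, ht, by group⟩)
  have h2 : Q ≤ M ⊓ N := (closure_le _).2 (by
    rintro _ ⟨a, ha, t, ht, rfl⟩
    refine ⟨(hF.alt a).elim (fun e => ?_) fun e => mem_sup_left (e (conj_mem_cj.2 ht.1)),
      hF.nrm.conj_mem _ (hF.le ht.1) a⟩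
    have : a ∈ M := mem_sup_right ⟨ha, e⟩
    exact M.mul_mem (M.mul_mem this ht.2) (M.inv_mem this))
  refine (h.mx v (Q ⊔ stabilizer X v) le_sup_right).imp (fun e t ht c hc e1 => ?_) fun e t ht => ?_
  · refine e (mem_sup_left (subset_closure ⟨1, one_mem _, t, ⟨ht, ?_⟩, by simp⟩))
    exact (mul_mem_cancel_right (mem_sup_left hc)).1 (mem_sup_right ⟨e1, mul_mem (le_normalizer ht) (cent_le_norm T hc)⟩)
  · obtain ⟨q, hq, s, hs, e1⟩ := (mem_sup_norm' h1).1 (e.ge (mem_top t))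
    have h3 : t ∈ M := e1 ▸ mul_mem (h2 hq).1 (mem_sup_right ⟨hs, hF.norm
      ((N.mul_mem_cancel_left (h2 hq).2).1 (e1 ▸ hF.le ht))⟩)
    obtain ⟨u, hu, a, ha, e2⟩ := (mem_sup_norm' (inf_le_right.trans (norm_cent le_rfl))).1 h3
    refine ⟨u⁻¹, inv_mem hu, ?_⟩
    rw [mem_cent.1 (inv_mem hu) t ht, ← e2, inv_mul_cancel_left]; exact ha.1

omit [Finite X] in
theorem EP.semi (h : EP X V) {N T : Subgroup X} (hF : Fac N T) {v : V} (hv : v ≠ 1)
    (hs : ∀ t ∈ T, ∃ c ∈ 𝓒(T), (t * c) • v = v) {t : X} (ht : t ∈ T) (e : t • v = v) : t = 1 := by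
  haveI := hF.simple
  haveI := hF.nrm
  have h1 : ((stabilizer X v).subgroupOf T).Normal := ⟨fun x hx s => by
    obtain ⟨u, hu, e⟩ := hs s s.2
    show (s : X) * x * (s : X)⁻¹ ∈ stabilizer X v
    rw [show (s : X) * x * (s : X)⁻¹ = s * u * x * (s * u)⁻¹ by rw [mul_assoc _ u, ← mem_cent.1 hu x x.2]; group]
    exact mul_mem (mul_mem e hx) (inv_mem e)⟩
  rcases h1.eq_bot_or_eq_top with h2 | h2
  · exact congrArg Subtype.val (mem_bot.1 (h2.le (x := ⟨t, ht⟩) e))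
  · by_contra t1
    obtain ⟨n, hn, h3⟩ := h.mv (ne_bot_of_mem (hF.le ht) t1) hv t1
    exact h3 (h2.ge (mem_top (⟨_, conj_mem_of_mem_norm' (hF.norm hn) ht⟩ : T)))

theorem EP.fac [Finite V] [Nontrivial V] (h : EP X V) (h2 : ∀ v : V, v * v = 1) {N T : Subgroup X} (hF : Fac N T)
    (hC : 𝓒(T) ≠ ⊥) : False := by
  haveI := hF.nrm
  haveI := hF.simple
  obtain ⟨i, iT, i1, i2⟩ := exists_inv (T := T) fun e => hF.nc ⟨⟨IsSimpleGroup.comm_iff_isSolvable.2 e⟩⟩
  have N0 : N ≠ ⊥ := ne_bot_of_mem (hF.le iT) i1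
  obtain ⟨u, u1, hu⟩ := inv_fix h2 i2
  by_cases h4 : ∃ a, cj a T ≤ 𝓒(T)
  swap
  · haveI : T.Normal := normalizer_eq_top_iff.1 (top_le_iff.1 fun g _ => (hF.alt g).resolve_right fun e => h4 ⟨g, e⟩)
    exact i1 (h.sr hC u1 (cent_symm le_rfl iT) hu)
  obtain ⟨a, ha⟩ := h4
  obtain ⟨v, v1, hmax⟩ := Set.exists_max_image {v : V | v ≠ 1} (fun v => ♯(T ⊓ stabilizer X v)) (Set.toFinite _) ⟨u, u1⟩
  set R := T ⊓ stabilizer X v with hR
  have K : ∀ y : V, y ≠ 1 → (∀ s ∈ R, s • y = y) → R = T ⊓ stabilizer X y := fun y y1 hy =>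
    eq_of_le_of_card_le (le_inf inf_le_left hy) (hmax y y1)
  obtain ⟨r, hr, r1⟩ : ∃ r ∈ R, r ≠ 1 := R.bot_or_exists_ne_one.resolve_left fun e => by
    have := hmax u u1
    simp only [e, card_bot] at this
    exact ne_bot_of_mem (mem_inf.2 ⟨iT, hu⟩) i1 (eq_bot_of_card_le _ this)
  have P := (h.dich hF v).resolve_right fun e => r1 (h.semi hF v1 e hr.1 hr.2)
  obtain ⟨g, gT, g2, gv⟩ : ∃ g ∈ T, g * g = 1 ∧ g • v ≠ v := by
    obtain ⟨n, hn, e⟩ := h.mv N0 v1 i1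
    exact ⟨_, conj_mem_of_mem_norm' (hF.norm hn) iT, by simpa [mul_assoc] using congrArg (n⁻¹ * · * n) i2, e⟩
  obtain ⟨k, kC, k2, kv⟩ : ∃ k ∈ 𝓒(T), k * k = 1 ∧ k • v ≠ v := by
    obtain ⟨n, hn, e⟩ := h.mv N0 v1 (x := a * i * a⁻¹) (by simpa using i1)
    exact ⟨_, conj_mem_of_mem_norm' (norm_cent hF.norm hn) (ha (conj_mem_cj.2 iT)),
      by simpa [mul_assoc] using congrArg (n⁻¹ * a * · * a⁻¹ * n) i2, e⟩
  have cm : ∀ s ∈ T, ∀ d ∈ 𝓒(T), ∀ y : V, s • d • y = d • s • y := fun s hs d hd y => by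
    rw [smul_smul, smul_smul, mem_cent.1 hd s hs]
  have fC : ∀ d ∈ 𝓒(T), ∀ s ∈ R, s • d • v = d • v := fun d hd s hs => by rw [cm s hs.1 d hd, show s • v = v from hs.2]
  have w1 : v * g • k • v ≠ 1 := fun e => gv (P g gT k kC (by rw [mul_smul]; exact mul_left_cancel (e.trans (h2 v).symm)))
  have D := (h.dich hF (v * g • k • v)).resolve_left fun e => by
    have e1 := e g gT k kC (by
      rw [smul_mul', mul_smul, mul_smul, ← cm g gT k kC, smul_smul k, k2, one_smul, smul_smul g g, g2, one_smul, mul_comm])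
    rw [smul_mul', smul_smul g g, g2, one_smul] at e1
    refine gv ((K (v * k • v) (fun e => kv (mul_left_cancel (e.trans (h2 v).symm))) fun s hs => by
      rw [smul_mul', fC k kC s hs, show s • v = v from hs.2]).ge (x := g) ⟨gT, ?_⟩).2
    show g • _ = _
    rw [smul_mul']
    have e2 := h2 (k • v)
    have e3 := h2 (g • k • v)
    generalize g • k • v = x at *
    calc g • v * x = g • v * k • v * (k • v * x) := by rw [mul_assoc, ← mul_assoc (k • v), e2, one_mul]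
      _ = v * k • v := by rw [e1, mul_comm (k • v), mul_assoc, ← mul_assoc x, e3, one_mul]
  have sg : ∀ s ∈ R, s • g • v = g • v → s = 1 := fun s hs e => h.semi hF w1 D hs.1 (by
    rw [smul_mul', cm g gT k kC, cm s hs.1 k kC, e, show s • v = v from hs.2])
  let W : Subgroup V :=
    { carrier := {y | ∀ x : X, ∃ p q : V, (∀ s ∈ R, s • p = p) ∧ (∀ s ∈ R, s • q = q) ∧ x • y = p * g • q}
      one_mem' := fun x => ⟨1, 1, by simp, by simp, by simp⟩
      mul_mem' := fun h1 h2 x => by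
        obtain ⟨p, q, a1, a2, a3⟩ := h1 x
        obtain ⟨p', q', b1, b2, b3⟩ := h2 x
        exact ⟨p * p', q * q', fun s hs => by rw [smul_mul', a1 s hs, b1 s hs],
          fun s hs => by rw [smul_mul', a2 s hs, b2 s hs], by rw [smul_mul', a3, b3, smul_mul', mul_mul_mul_comm]⟩
      inv_mem' := fun {y} h1 => by rwa [inv_eq_of_mul_eq_one_left (h2 y)] }
  have hW := (h.irr W fun x y hy z => by rw [smul_smul]; exact hy _).resolve_left (ne_bot_of_mem (fun x => by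
    obtain ⟨n, hn, e⟩ := h.tr N0 w1 x
    obtain ⟨t, ht, c, hc, rfl⟩ := hF.dec' hn
    obtain ⟨d, hd, e1⟩ := D t ht
    rw [mem_cent.1 hd t ht, mul_smul, ← eq_inv_smul_iff] at e1
    rw [mem_cent.1 hc t ht, mul_smul, e1, smul_smul] at e
    have h5 := mul_mem hc (inv_mem hd)
    refine ⟨_, (c * d⁻¹ * k) • v, fC _ h5, fC _ (mul_mem h5 kC), ?_⟩
    rw [← e, smul_mul', mul_smul _ k, cm g gT _ h5]) w1)
  have TI : ∀ t ∈ T, ∀ s ∈ R, s • t • v = t • v → t • v ≠ v → s = 1 := fun t ht s hs e tv => by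
    obtain ⟨p, q, a1, a2, a3⟩ := hW.ge (mem_top v) t
    by_cases q1 : q = 1
    · rw [q1, smul_one, mul_one] at a3
      have h5 := K (t • v) (fun e => v1 (by rw [← inv_smul_smul t v, e, smul_one])) (a3 ▸ a1)
      have h6 := (h.mx v (normalizer {x | ∃ b ∈ stabilizer X v, ∃ r ∈ R, x = b * r * b⁻¹}) fun c hc =>
        mem_normalizer_fintype (by
          rintro _ ⟨b, hb, r, hr, rfl⟩; exact ⟨c * b, mul_mem hc hb, r, hr, by group⟩)).resolve_left fun e =>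
        tv (by
          have := inv_mem (e (x := t⁻¹) (mem_normalizer_fintype ?_))
          · rwa [inv_inv] at this
          rintro _ ⟨b, hb, r, hr, rfl⟩
          rcases hF.alt b with e | e
          · have h7 : b * r * b⁻¹ ∈ R := mem_inf.2 ⟨conj_mem_of_mem_norm e hr.1, mul_mem (mul_mem hb hr.2) (inv_mem hb)⟩
            exact ⟨1, one_mem _, t⁻¹ * (b * r * b⁻¹) * t, mem_inf.2 ⟨mul_mem (mul_mem (inv_mem ht) h7.1) ht,
              fx.2 (h5.le h7).2⟩, by group⟩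
          · exact ⟨b, hb, r, hr, by rw [mem_cent.1 (e (conj_mem_cj.2 hr.1)) _ (inv_mem ht), mul_inv_cancel_right]⟩)
      refine h.fa v v1 s fun y => fx.1 ?_
      obtain ⟨b, hb, r, hr, e⟩ := (mem_set_normalizer_iff.1 (h6.ge (mem_top y⁻¹)) s).1 ⟨1, one_mem _, s, hs, by simp⟩
      rw [inv_inv] at e
      rw [e]; exact mul_mem (mul_mem hb hr.2) (inv_mem hb)
    · rw [a3, smul_mul', a1 s hs, mul_right_inj] at e
      exact sg s hs (fx.1 ((K q q1 a2).ge (mem_inf.2 ⟨mul_mem (mul_mem (inv_mem gT) hs.1) gT, fx.2 e⟩)).2)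
  obtain ⟨L, hL, -, l1, l2⟩ := CChar.CharBurn.exists_normal_of_frobenius_wielandt (G := T) (H := R.subgroupOf T)
    (H₀ := ⊥) fun x t hx hn => mem_bot.2 (Subtype.ext (Subtype.ext (TI x x.2 _ hx (by
      show ((x : X) * (t : T) * (x : X)⁻¹) • _ = _
      rw [mul_smul, inv_smul_smul, mul_smul, show ((t : T) : X) • v = v from t.2.2]) fun e => hn ⟨x.2, e⟩)))
  rcases hL.eq_bot_or_eq_top with rfl | rfl
  · rw [bot_sup_eq] at l2
    exact gv (l2.ge (mem_top (⟨g, gT⟩ : T))).2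
  · exact r1 (congrArg (fun x : R.subgroupOf T => ((x : T) : X)) (mem_bot.1 (l1.le (x := ⟨⟨r, hr.1⟩, hr⟩) trivial)))

theorem EP.main [Finite V] [Nontrivial V] (h : EP X V) (hs : ¬ Group.IsSolvable X) :
    ∃ T : Subgroup X, T.Normal ∧ IsSimpleGroup T ∧ ¬ IsMulCommutative T ∧ 𝓒(T) = ⊥ := by
  haveI : Nontrivial X := not_subsingleton_iff_nontrivial.1 fun _ => hs inferInstance
  obtain ⟨N, -, h1, h2, h3⟩ := CA.Subn.exists_minimal_normal (G := X) top_ne_bot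
  obtain ⟨T, hF⟩ := exists_fac h3 (h.ab hs h1)
  have hC : 𝓒(T) = ⊥ := by_contra (h.fac (h.two hs) hF)
  obtain ⟨t, ht, t1⟩ := hF.exists_ne
  exact ⟨T, normalizer_eq_top_iff.1 (top_le_iff.1 fun g _ => (hF.alt g).resolve_right fun e =>
    t1 (by simpa using mem_bot.1 (hC.le (e (conj_mem_cj.2 ht))))), hF.simple, hF.nc, hC⟩

end CA.H2Ext
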