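import Cfsg.Agent.Lib.Perm.ONS
import Cfsg.Agent.Lib.Perm.PrimFit
import Cfsg.Agent.Lib.Odd.BGCore
import Cfsg.Agent.Lib.Grp.Subn

/-! Simple factors of minimal normal subgroups of primitive groups. -/

set_option autoImplicit false

namespace CA.H2Ons
open Subgroup MulAction CA.BG CA.PermBasic CA.PermMulti

variable {G : Type*} [Group G] [Finite G]

/-- `T` is a simple factor of the non-abelian minimal normal subgroup `N` -/
structure Fac (N T : Subgroup G) : Prop where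
  nrm : N.Normal
  le : T ≤ N
  simple : IsSimpleGroup T
  nc : ¬ IsMulCommutative T
  norm : N ≤ 𝓝(T)
  dec : N ≤ T ⊔ 𝓒(T)
  alt : ∀ g, g ∈ 𝓝(T) ∨ cj g T ≤ 𝓒(T)
  min : ∀ M : Subgroup G, M.Normal → M ≤ N → M = ⊥ ∨ M = N

theorem exists_fac {N : Subgroup G} [hN : N.Normal] (hmin : ∀ M : Subgroup G, M.Normal → M ≤ N → M = ⊥ ∨ M = N)
    (hc : ¬ IsMulCommutative N) : ∃ T, Fac N T := by
  obtain ⟨T, h1, h2, h3, h4⟩ := exists_minNormal (H := N) (N := N) (le_norm_self N) (by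
    rintro rfl; exact hc inferInstance)
  have hg : ∀ g, cj g N = N := fun g => cj_of_mem_norm (by rw [normalizer_eq_top]; trivial)
  have alt : ∀ g, g ∈ 𝓝(T) ∨ cj g T ≤ 𝓒(T) := fun g => by
    have h5 : N ≤ 𝓝(cj g T) := (hg g).ge.trans (norm_cj g h3)
    by_cases h : cj g T ⊓ T = ⊥
    · exact .inr (cent_of_norm_disjoint (((cj_mono g h1).trans (hg g).le).trans h3) (h1.trans h5) h)
    · exact .inl (mem_norm_iff_cj.2 (eq_of_le_of_card_ge (inf_eq_right.1 (h4 _ inf_le_right h (norm_inf h5 h3)))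
        (card_cj g T).le).symm)
  have ncl : ∀ K : Subgroup G, (∀ g, cj g T ≤ K) → N ≤ K := fun K hK => by
    rw [← (hmin (normalClosure T) inferInstance (normalClosure_le_normal h1)).resolve_left fun e =>
      h2 (le_bot_iff.1 (e ▸ le_normalClosure))]
    refine (closure_le _).2 fun x hx => ?_
    obtain ⟨t, ht, e⟩ := Group.mem_conjugatesOfSet_iff.1 hx
    obtain ⟨g, rfl⟩ := isConj_iff.1 e
    exact hK g (mem_cj'.2 ⟨t, ht, rfl⟩)
  have dec : N ≤ T ⊔ 𝓒(T) := ncl _ fun g => (alt g).elim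
    (fun h => (cj_of_mem_norm h).le.trans le_sup_left) (·.trans le_sup_right)
  refine ⟨T, hN, h1, ?_, fun h => hc ?_, h3, dec, alt, hmin⟩
  · haveI := (nontrivial_iff_ne_bot T).2 h2
    refine ⟨fun M hM => or_iff_not_imp_left.2 fun h => ?_⟩
    have := h4 (M.map T.subtype) (map_subtype_le M) (mt (map_eq_bot_iff_of_injective _ T.subtype_injective).1 h)
      (dec.trans (sup_le ?_ (norm_of_cent (cent_anti (map_subtype_le M)))))
    · exact map_injective T.subtype_injective (by rw [this, ← MonoidHom.range_eq_map, T.range_subtype])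
    · simpa only [normalizer_eq_top, ← MonoidHom.range_eq_map, T.range_subtype] using
        le_normalizer_map (H := M) T.subtype
  · have h5 : N ≤ 𝓒(T) := dec.trans (sup_le (le_centralizer_iff_isMulCommutative.2 h) le_rfl)
    haveI : (𝓒(N)).Normal := inferInstance
    exact le_centralizer_iff_isMulCommutative.1 (inf_eq_left.1 ((hmin (N ⊓ 𝓒(N)) inferInstance inf_le_left).resolve_left
      fun e => h2 (le_bot_iff.1 (e ▸ le_inf h1 (cent_symm h5)))))

omit [Finite G] in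
theorem Fac.cen {N T : Subgroup G} (h : Fac N T) {t : G} (ht : t ∈ T) (hc : t ∈ 𝓒(T)) : t = 1 :=
  haveI := h.simple
  congrArg Subtype.val (CA.ONS.cen h.nc (a := ⟨t, ht⟩) fun b => Subtype.ext (mem_cent.1 hc b b.2).symm)

omit [Finite G] in
theorem Fac.conj {N T : Subgroup G} (h : Fac N T) {t : G} (ht : t ∈ T) (h1 : t ≠ 1) :
    ∃ s ∈ T, t * (s * t * s⁻¹) ≠ s * t * s⁻¹ * t := by
  haveI := h.simple
  obtain ⟨c, hc⟩ := CA.ONS.exists_conj h.nc (a := ⟨t, ht⟩) (b := ⟨t, ht⟩) (fun e => h1 (congrArg Subtype.val e))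
    fun e => h1 (congrArg Subtype.val e)
  exact ⟨c, c.2, fun e => hc (Subtype.ext e)⟩

omit [Finite G] in
theorem Fac.exists_ne {N T : Subgroup G} (h : Fac N T) : ∃ t ∈ T, t ≠ 1 :=
  T.bot_or_exists_ne_one.resolve_left (by rintro rfl; exact h.nc inferInstance)

theorem Fac.not_pgroup {N T : Subgroup G} (h : Fac N T) {p : ℕ} (hp : p.Prime) : ¬ IsPGroup p T := fun h1 => by
  haveI := h.simple
  haveI := Fact.mk hp
  haveI := h1.center_nontrivial
  obtain ⟨z, hz⟩ := _root_.exists_ne (1 : center T)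
  exact hz (Subtype.ext (CA.ONS.cen h.nc fun b => (mem_center_iff.1 z.2 b).symm))

omit [Finite G] in
theorem Fac.dec' {N T : Subgroup G} (h : Fac N T) {n : G} (hn : n ∈ N) : ∃ t ∈ T, ∃ c ∈ 𝓒(T), t * c = n :=
  (mem_sup_norm' (cent_le_norm T)).1 (h.dec hn)

variable {Ω : Type*} [MulAction G Ω] [FaithfulSMul G Ω]

omit [Finite G] in
/-- if the stabilizer projects onto `T` then `T` is semiregular -/
theorem Fac.semireg {N T : Subgroup G} (h : Fac N T) (hN : IsPretransitive N Ω) {α : Ω}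
    (hs : ∀ t ∈ T, ∃ u ∈ 𝓒(T), (t * u) • α = α) {t : G} (ht : t ∈ T) {ω : Ω} (hω : t • ω = ω) : t = 1 := by
  haveI := h.simple
  have cj1 : ∀ t ∈ T, ∀ ω : Ω, ∃ n ∈ N, n⁻¹ * t * n ∈ T ∧ (t • ω = ω ↔ (n⁻¹ * t * n) • α = α) := fun t ht ω => by
    obtain ⟨n, rfl⟩ := hN.exists_smul_eq α ω
    refine ⟨n, n.2, conj_mem_of_mem_norm' (h.norm n.2) ht, ?_⟩
    rw [mul_smul, mul_smul, inv_smul_eq_iff]; rfl
  have h1 : ((stabilizer G α).subgroupOf T).Normal := ⟨fun x hx s => by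
    obtain ⟨u, hu, e⟩ := hs s s.2
    show (s : G) * x * (s : G)⁻¹ ∈ stabilizer G α
    rw [show (s : G) * x * (s : G)⁻¹ = s * u * x * (s * u)⁻¹ by rw [mul_assoc _ u, ← mem_cent.1 hu x x.2]; group]
    exact mul_mem (mul_mem e hx) (inv_mem e)⟩
  rcases h1.eq_bot_or_eq_top with h2 | h2
  · obtain ⟨n, -, h3, h4⟩ := cj1 t ht ω
    have : n⁻¹ * t * n = 1 := congrArg Subtype.val (mem_bot.1 (h2.le (x := ⟨_, h3⟩) (h4.1 hω)))
    simpa [mul_assoc] using congrArg (fun x => n * x * n⁻¹) this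
  · refine eq_one_of_forall_smul (X := Ω) fun ω => ?_
    obtain ⟨n, -, h3, h4⟩ := cj1 t ht ω
    exact h4.2 (h2.ge (mem_top (⟨_, h3⟩ : T)))

omit [Finite G] in
theorem star_of_trans {T : Subgroup G} (hC : IsPretransitive (𝓒(T) : Subgroup G) Ω) (α : Ω) (t : G) :
    ∃ u ∈ 𝓒(T), (t * u) • α = α := by
  obtain ⟨u, hu⟩ := hC.exists_smul_eq α (t⁻¹ • α)
  exact ⟨u, u.2, by rw [mul_smul, show (u : G) • α = _ from hu, smul_inv_smul]⟩

/-- Jordan's lemma -/
theorem jordan {X : Type*} [Group X] [Finite X] {P : Subgroup X} (h : P ≠ ⊤) : ∃ x, ∀ g, g⁻¹ * x * g ∉ P := by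
  classical
  by_contra! H
  letI := Fintype.ofFinite X
  have h1 := sum_card_fixedBy_of_pretransitive (G := X) (X := X ⧸ P)
  have h2 : ∑ g : X, 1 < ∑ g : X, Nat.card (fixedBy (X ⧸ P) g) := Finset.sum_lt_sum (fun x _ => by
    obtain ⟨g, hg⟩ := H x
    haveI : Nonempty (fixedBy (X ⧸ P) x) := ⟨⟨g, (QuotientGroup.eq.2 (by simpa [mul_assoc] using hg)).symm⟩⟩
    exact Nat.card_pos) ⟨1, Finset.mem_univ _, by
      rw [fixedBy_one_eq_univ, Nat.card_coe_set_eq, Set.ncard_univ]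
      exact one_lt_index_of_ne_top h⟩
  rw [h1] at h2
  simp at h2

/-- the basic trichotomy -/
theorem cases [Nontrivial Ω] [IsPreprimitive G Ω] :
    (∃ N : Subgroup G, N.Normal ∧ N ≠ ⊥ ∧ IsMulCommutative N ∧ (∃ p : ℕ, p.Prime ∧ ∀ n ∈ N, n ^ p = 1) ∧
      IsPretransitive N Ω ∧ ∀ a : Ω, stabilizer N a = ⊥) ∨
    (∃ T : Subgroup G, T.Normal ∧ IsSimpleGroup T ∧ ¬ IsMulCommutative T ∧ 𝓒(T) = ⊥) ∨
    ∃ N T : Subgroup G, Fac N T ∧ IsPretransitive N Ω ∧
      (IsPretransitive (𝓒(T) : Subgroup G) Ω ∨ ∃ g, cj g T ≤ 𝓒(T)) := by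
  haveI : Nontrivial G := by
    obtain ⟨a, b, hab⟩ := exists_pair_ne Ω
    obtain ⟨g, rfl⟩ := exists_smul_eq G a b
    exact ⟨1, g, fun e => hab (by rw [← e, one_smul])⟩
  obtain ⟨N, -, h1, h2, h3⟩ := CA.Subn.exists_minimal_normal (G := G) top_ne_bot
  have ht := normal_pretransitive (X := Ω) N h1
  by_cases hc : IsMulCommutative N
  · exact .inl ⟨N, h2, h1, hc, (CA.PrimFit.nilpotent_normal (X := Ω) N h1
      (CA.PrimFit.isNilpotent_of_comm hc)).2.1, ht, regular_of_comm N ht hc⟩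
  obtain ⟨T, h⟩ := exists_fac h3 hc
  by_cases h4 : ∃ g, cj g T ≤ 𝓒(T)
  · exact .inr (.inr ⟨N, T, h, ht, .inr h4⟩)
  haveI : T.Normal := normalizer_eq_top_iff.1 (top_le_iff.1 fun g _ => (h.alt g).resolve_right fun e => h4 ⟨g, e⟩)
  by_cases h5 : 𝓒(T) = ⊥
  · exact .inr (.inl ⟨T, inferInstance, h.simple, h.nc, h5⟩)
  · exact .inr (.inr ⟨N, T, h, ht, .inl (normal_pretransitive _ h5)⟩)

end CA.H2Ons
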