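import Cfsg.Agent.Lib.Perm.RegLin
import Cfsg.Agent.Lib.Lie.Huppert

/-! Half-transitive linear `p`-groups (Isaacs-Passman). -/

set_option autoImplicit false

namespace CA.Half2

open Subgroup MulAction CA.MC2 CA.TrLin CA.RegLin

theorem geom_odd {x : ℤ} (hx : Odd x) {k : ℕ} (hk : Odd k) : Odd (∑ i ∈ Finset.range k, x ^ i) := by
  obtain ⟨j, rfl⟩ := hk
  induction j with
  | zero => simp
  | succ j ih =>
    rw [show 2 * (j + 1) + 1 = 2 * j + 1 + 1 + 1 by ring, Finset.sum_range_succ, Finset.sum_range_succ, add_assoc]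
    exact ih.add_even (hx.pow.add_odd hx.pow)

theorem geom_eq_one {x : ℤ} (hx : Odd x) {k m : ℕ} (hk : Odd k) (h : x ^ k - 1 ∣ 2 ^ m) :
    x ^ k - 1 = x - 1 ∨ x ^ k - 1 = -(x - 1) := by
  have h1 := geom_sum_mul x k
  have h2 : IsUnit (∑ i ∈ Finset.range k, x ^ i) :=
    (Int.isCoprime_two_left.2 (geom_odd hx hk)).pow_left.isUnit_of_dvd' ((Dvd.intro _ h1).trans h) dvd_rfl
  rcases Int.isUnit_iff.1 h2 with e | e <;> rw [e] at h1
  · exact .inl (by linarith)
  · exact .inr (by linarith)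

theorem nt_add {q k m : ℕ} (hq : 1 < q) (hk : k ≠ 0) (h : q ^ k + 1 = 2 ^ m) : k = 1 := by
  have h1 : q ≤ q ^ k := Nat.le_self_pow hk q
  rcases m with _ | _ | m
  · omega
  · omega
  rcases Nat.even_or_odd k with ⟨j, rfl⟩ | ho
  · rw [pow_add, pow_succ, pow_succ] at h
    rcases Nat.even_or_odd' (q ^ j) with ⟨c, e | e⟩ <;> rw [e] at h <;> ring_nf at h <;> omega
  · have h2 : Odd (q : ℤ) := by
      rw [Int.odd_coe_nat, ← Nat.odd_pow_iff hk, Nat.odd_iff]
      rw [pow_succ] at h; omega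
    have h3 : ((q : ℤ)) ^ k + 1 = 2 ^ (m + 1 + 1) := by exact_mod_cast h
    have := geom_eq_one h2.neg ho (m := m + 1 + 1) ⟨-1, by rw [ho.neg_pow, ← h3]; ring⟩
    rw [ho.neg_pow] at this
    have h4 : (q : ℤ) ≤ q ^ k := by exact_mod_cast h1
    have h5 : q ^ k = q ^ 1 := by
      zify
      rcases this with e | e <;> linarith
    exact Nat.pow_right_injective hq h5

theorem nt_sub {q k m : ℕ} (h : q ^ k = 2 ^ m + 1) : k = 1 ∨ (q = 3 ∧ k = 2) := by
  have h0 : 0 < 2 ^ m := by positivity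
  have hk : k ≠ 0 := fun e => by rw [e, pow_zero] at h; omega
  have hq : 1 < q := by
    rcases q with _ | _ | q
    · rw [zero_pow hk] at h; omega
    · rw [zero_add, one_pow] at h; omega
    · omega
  rcases m with _ | m
  · exact .inl (Nat.prime_two.pow_eq_iff.1 h).2
  rcases Nat.even_or_odd k with ⟨j, rfl⟩ | ho
  · obtain ⟨x, hx⟩ : ∃ x, q ^ j = x + 1 := ⟨q ^ j - 1, by have := Nat.pos_of_ne_zero (pow_ne_zero j (by omega : q ≠ 0)); omega⟩
    rw [pow_add, hx] at h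
    have h1 : x * (x + 2) = 2 ^ (m + 1) := by linarith
    obtain ⟨a, -, ha⟩ := (Nat.dvd_prime_pow Nat.prime_two).1 (Dvd.intro _ h1)
    obtain ⟨b, -, hb⟩ := (Nat.dvd_prime_pow Nat.prime_two).1 (Dvd.intro_left _ h1)
    have : x = 2 := by
      rcases a with _ | _ | a
      · rcases b with _ | b <;> simp only [pow_succ] at * <;> omega
      · simpa using ha
      · have := Nat.two_pow_pos a
        rcases b with _ | _ | b <;> simp only [pow_succ, pow_zero] at ha hb <;> omega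
    rw [this] at hx
    obtain ⟨rfl, rfl⟩ := Nat.prime_three.pow_eq_iff.1 hx
    exact .inr ⟨rfl, rfl⟩
  · have h2 : Odd (q : ℤ) := by
      rw [Int.odd_coe_nat, ← Nat.odd_pow_iff hk, Nat.odd_iff]
      rw [pow_succ] at h; omega
    have h3 : ((q : ℤ)) ^ k = 2 ^ (m + 1) + 1 := by exact_mod_cast h
    have := geom_eq_one h2 ho (m := m + 1) ⟨1, by rw [h3]; ring⟩
    have h4 : (q : ℤ) ≤ q ^ k := by exact_mod_cast Nat.le_self_pow hk q
    have h5 : q ^ k = q ^ 1 := by
      zify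
      rcases this with e | e <;> linarith
    exact .inl (Nat.pow_right_injective hq h5)

variable {P V : Type*} [Group P] [AddCommGroup V] [DistribMulAction P V]

theorem tri [Finite P] {p : ℕ} [Fact p.Prime] (hP : IsPGroup p P) : IsCyclic P ∨
    (∃ E : Subgroup P, E.Normal ∧ Cfsg.IsElementaryAbelian p E ∧ Nat.card E = p ^ 2) ∨
    (p = 2 ∧ ∃ (m : ℕ) (a y : P), zpowers a ⊔ zpowers y = ⊤ ∧
      ((1 ≤ m ∧ MC m 0 1 a y) ∨ (2 ≤ m ∧ ∃ k : ℕ, k ≤ 1 ∧ MC m k 0 a y))) := by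
  refine (CA.PGNormalCyclic.trichotomy hP).imp_right (Or.imp_right ?_)
  rintro ⟨rfl, n, a, y, ha, hgen, hd, h3⟩
  have hy := CA.PGNormalCyclic.dqs_notMem ha hd
  obtain ⟨m, rfl⟩ : ∃ m, n = m + 1 := ⟨n - 1, by have := hd.1; omega⟩
  refine ⟨rfl, m, a, y, hgen, ?_⟩
  obtain ⟨h1, h | h | h⟩ := hd
  · exact .inr ⟨by have := h3 h.1; omega, 0, by omega, ha, hy, by simp [h.2], by simp [h.1], by simp⟩
  · exact .inl ⟨by omega, ha, hy, by simp [h.2], by rw [h.1, ← zpow_natCast]; simp, by simp⟩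
  · refine .inr ⟨by omega, 1, le_rfl, ha, hy, ?_, by simp [h.2.1], ?_⟩
    · rw [h.2.2, ← zpow_natCast, Nat.cast_sub (Nat.one_le_two_pow)]; simp
    · obtain ⟨j, rfl⟩ : ∃ j, m = j + 2 := ⟨m - 2, by omega⟩
      exact ⟨2 ^ j, by simp; ring⟩

theorem exists_xz [Finite P] [Finite V] [Nontrivial V] {p : ℕ} [hp : Fact p.Prime] (hP : IsPGroup p P)
    (hcen : ∀ x ∈ center P, x ≠ 1 → ∀ a : V, x • a = a → a = 0) {R : Subgroup P} [R.Normal]
    (hRe : Cfsg.IsElementaryAbelian p R) (hRc : Nat.card R = p ^ 2) :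
    ∃ x z : P, z ∈ center P ∧ orderOf z = p ∧ x ^ p = 1 ∧ x ∉ center P ∧ (∃ a : V, a ≠ 0 ∧ x • a = a) ∧
      ∀ g : P, ∃ i : ℤ, g * x * g⁻¹ = x * z ^ i := by
  have hp1 := hp.out.one_lt
  have hRb : R ≠ ⊥ := fun e => by
    rw [e, card_bot] at hRc
    exact (Nat.one_lt_pow two_ne_zero hp1).ne hRc
  obtain ⟨z, hzR, hzc, hzo⟩ := CA.PGBasic.exists_mem_center_orderOf hP hRb
  have := hRe.1
  have hnc : ¬ IsCyclic R := CA.PGNormalCyclic.not_isCyclic_of_elementary hp.out.pos hRe.2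
    (by rw [hRc]; nlinarith)
  obtain ⟨x, hxR, hx1, a, hxa, ha0⟩ : ∃ x ∈ R, x ≠ 1 ∧ ∃ a : V, x • a = a ∧ a ≠ 0 := by
    by_contra h
    push Not at h
    exact hnc (CA.Huppert.isCyclic_of_fpf R h)
  refine ⟨x, z, hzc, hzo, hRe.2 x hxR, fun h => ha0 (hcen x h hx1 a hxa), ⟨a, ha0, hxa⟩, fun g => ?_⟩
  have hZn : (zpowers z).Normal := ⟨fun n hn g => by
    rw [mem_center_iff.1 ((zpowers_le.2 hzc) hn) g, mul_inv_cancel_right]; exact hn⟩
  have h1 : ⁅R, (⊤ : Subgroup P)⁆ ≤ zpowers z := by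
    apply CA.PGBasic.commutator_le_of_relIndex hP (zpowers_le.2 hzR)
    have := CA.PGBasic.card_mul_relIndex (zpowers_le.2 hzR)
    rw [Nat.card_zpowers, hzo, hRc, pow_two] at this
    exact Nat.eq_of_mul_eq_mul_left hp.out.pos this
  obtain ⟨i, hi⟩ := h1 (commutator_mem_commutator (inv_mem hxR) (mem_top g))
  have hi' : z ^ i = x⁻¹ * g * x⁻¹⁻¹ * g⁻¹ := hi
  exact ⟨i, by rw [hi']; group⟩

/-- fixed points of an element -/
def fix (V : Type*) [AddCommGroup V] [DistribMulAction P V] (t : P) : AddSubgroup V where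
  carrier := {v | t • v = v}
  zero_mem' := smul_zero t
  add_mem' := fun {a b} (ha : t • a = a) (hb : t • b = b) => show t • (a + b) = a + b by rw [smul_add, ha, hb]
  neg_mem' := fun {a} (ha : t • a = a) => show t • (-a) = -a by rw [smul_neg, ha]

theorem mem_fix {t : P} {v : V} : v ∈ fix V t ↔ t • v = v := Iff.rfl

theorem card_fix_conj (g t : P) : Nat.card (fix V (g * t * g⁻¹)) = Nat.card (fix V t) :=
  Nat.card_congr ((MulAction.toPerm g⁻¹).subtypeEquiv fun v => by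
    rw [mem_fix, mem_fix, mul_smul, mul_smul, smul_eq_iff_eq_inv_smul]; rfl)

theorem card_ne {α : Type*} [Finite α] (a : α) : Nat.card {w // w ≠ a} = Nat.card α - 1 := by
  rw [← Set.ncard_univ α, ← Set.ncard_diff_singleton_of_mem (Set.mem_univ a), ← Nat.card_coe_set_eq]
  exact Nat.card_congr (Equiv.subtypeEquivRight fun x => by simp)

/-- constant stabiliser orders -/
def Half (P V : Type*) [Group P] [AddCommGroup V] [DistribMulAction P V] : Prop :=
  ∀ a b : V, a ≠ 0 → b ≠ 0 → Nat.card (stabilizer P a) = Nat.card (stabilizer P b)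

theorem half_of_tr (h : Tr P V) (N : Subgroup P) [N.Normal] : Half N V := fun a b ha hb => by
  obtain ⟨d, rfl⟩ := h a b ha hb
  exact (CA.Huppert.card_stabilizer_smul _ d a).symm

section odd

variable (h2 : ∀ v : V, v + v = 0 → v = 0)
include h2

theorem eq_zero_of_fix {t z : P} (hz : ∀ v : V, z • v = -v) {v : V} (h1 : t • v = v) (h3 : (t * z) • v = v) :
    v = 0 := by
  rw [mul_smul, hz, smul_neg, h1] at h3
  exact h2 v (by nth_rewrite 1 [← h3]; exact neg_add_cancel v)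

theorem exists_add [Finite V] {t z : P} (hz : ∀ v : V, z • v = -v) (ht : t * t = 1) (v : V) :
    ∃ a b : V, t • a = a ∧ (t * z) • b = b ∧ a + b = v := by
  obtain ⟨w, rfl⟩ : ∃ w, w + w = v := Finite.surjective_of_injective (f := fun w : V => w + w)
    (fun a b (e : a + a = b + b) => sub_eq_zero.1 (h2 _ (by linear_combination (norm := abel) e))) v
  exact ⟨w + t • w, w - t • w, by rw [smul_add, smul_smul, ht, one_smul, add_comm],
    by rw [mul_smul, hz, smul_neg, smul_sub, smul_smul, ht, one_smul, neg_sub], by abel⟩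

theorem card_fix_mul [Finite V] {t z : P} (hz : ∀ v : V, z • v = -v) (ht : t * t = 1) :
    Nat.card (fix V t) * Nat.card (fix V (t * z)) = Nat.card V := by
  rw [← Nat.card_prod]
  refine Nat.card_eq_of_bijective (fun x => x.1.1 + x.2.1) ⟨?_, fun v => ?_⟩
  · rintro ⟨⟨a, ha⟩, b, hb⟩ ⟨⟨c, hc⟩, d, hd⟩ (e : a + b = c + d)
    have := eq_zero_of_fix h2 hz ((fix V t).sub_mem ha hc) (by
      rw [show a - c = d - b by linear_combination (norm := abel) e]; exact (fix V (t * z)).sub_mem hd hb)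
    rw [sub_eq_zero] at this
    subst this
    rw [add_right_inj] at e
    subst e
    rfl
  · obtain ⟨a, b, ha, hb, e⟩ := exists_add h2 hz ht v
    exact ⟨(⟨a, ha⟩, ⟨b, hb⟩), e⟩

end odd

theorem exists_fix [FaithfulSMul P V] {t z : P} (hz : ∀ v : V, z • v = -v) (ht : t * t = 1) (htz : t ≠ z) :
    ∃ v : V, v ≠ 0 ∧ t • v = v := by
  by_contra hn
  push Not at hn
  refine htz (eq_of_smul_eq_smul (α := V) fun v => ?_)
  by_contra e
  exact hn (t • v + v) (fun e' => e (by rw [hz, eq_neg_of_add_eq_zero_left e']))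
    (by rw [smul_add, smul_smul, ht, one_smul, add_comm])

theorem neg_of_fpf {z : P} (hz : z * z = 1) (h : ∀ a : V, z • a = a → a = 0) (v : V) : z • v = -v :=
  eq_neg_of_add_eq_zero_left (h _ (by rw [smul_add, smul_smul, hz, one_smul, add_comm]))

section mc

variable [Finite P] {m : ℕ} {ε δ : ℤ} {a y : P} (h : MC m ε δ a y)
  (hz : ∀ v : V, a ^ (2 ^ m : ℤ) • v = v → v = 0)
include h hz

theorem mc_free {g : P} (hg : g ∈ zpowers a) {v : V} (hv : v ≠ 0) (e : g • v = v) : g = 1 := by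
  by_contra g1
  obtain ⟨k, hk, e'⟩ := h.exists_eq_pow (zpowers_le.2 hg)
  rcases hk.lt_or_eq with hk | rfl
  · exact hv (hz v ((zpowers_le.2 e : zpowers g ≤ stabilizer P v)
      (e' ▸ zpow_mem_zpowers_of_dvd a (pow_dvd_pow 2 (by omega)))))
  · rw [h.zpow_one.2 dvd_rfl, zpowers_one_eq_bot, zpowers_eq_bot] at e'
    exact g1 e'

end mc

theorem quat_free [Finite P] {m : ℕ} {a y : P} (h : MC m 0 1 a y) (hgen : zpowers a ⊔ zpowers y = ⊤)
    (hz : ∀ v : V, a ^ (2 ^ m : ℤ) • v = v → v = 0) (g : P) (v : V) (hv : v ≠ 0) (e : g • v = v) : g = 1 := by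
  by_cases hg : g ∈ zpowers a
  · exact mc_free h hz hg hv e
  obtain ⟨i, rfl⟩ := h.eq_of_notMem (hgen ▸ mem_top g) hg
  exact (hv (hz v (by rw [← (h.shift i).sq_eq_z.2 (by simp), sq, mul_smul, e, e]))).elim

theorem mc_count [Finite P] [Finite V] [FaithfulSMul P V] (h2 : ∀ v : V, v + v = 0 → v = 0) (hc : Half P V)
    {m k j : ℕ} {a y : P} (hm : 1 ≤ m) (hk : k ≤ 1) (hj : k + j = m + 1) (h : MC m k 0 a y)
    (hgen : zpowers a ⊔ zpowers y = ⊤) (hz : ∀ v : V, a ^ (2 ^ m : ℤ) • v = v → v = 0) :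
    Nat.card (fix V y) + 1 = 2 ^ j ∧ Nat.card V = Nat.card (fix V y) ^ 2 ∧ fix V y ≠ ⊥ := by
  classical
  have hz' := neg_of_fpf (by rw [← sq, h.z_sq]) hz
  have y2 : y * y = 1 := by rw [← sq, h.sq_eq_one]; simp
  obtain ⟨v, v0, hv⟩ := exists_fix hz' y2 fun e => h.notMem (by rw [e]; exact zpow_mem_zpowers _ _)
  let I := zpowers (a ^ (2 ^ k : ℤ))
  have hI : ∀ i : ℤ, a ^ i ∈ I ↔ (a ^ i * y) ^ 2 = 1 := fun i => by
    rw [h.mem_pow_iff (by omega), (h.shift i).sq_eq_one]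
    interval_cases k <;> simp [even_iff_two_dvd]
  have c1 : ∀ i : ℤ, (a ^ i * y) ^ 2 = 1 → Nat.card (fix V (a ^ i * y)) ^ 2 = Nat.card V := fun i hi => by
    obtain ⟨l, hl⟩ := (h.shift i).exists_conj_even (2 ^ (m - 1))
    rw [← card_fix_mul h2 hz' (t := a ^ i * y) (by rw [← sq, hi]), h.z_central (hgen ▸ mem_top _),
      show (2 : ℤ) ^ m = 2 * 2 ^ (m - 1) by rw [← pow_succ', Nat.sub_add_cancel hm], ← hl, card_fix_conj, sq]
  have c2 := c1 0 (by rw [zpow_zero, one_mul, sq, y2])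
  rw [zpow_zero, one_mul] at c2
  have c3 : ∀ b : I, Nat.card {w : fix V (b * y) // w ≠ 0} = Nat.card (fix V y) - 1 := fun ⟨b, hb⟩ => by
    obtain ⟨i, rfl⟩ := zpowers_pow_le a _ hb
    rw [← Nat.pow_left_injective two_ne_zero ((c1 i ((hI i).1 hb)).trans c2.symm), card_ne]
  have c4 : Nat.card ((b : I) × {w : fix V (b * y) // w ≠ 0}) = Nat.card {w : V // w ≠ 0} := by
    refine Nat.card_eq_of_bijective (fun x => ⟨x.2.1.1, fun e => x.2.2 (Subtype.ext e)⟩) ⟨?_, fun ⟨w, hw⟩ => ?_⟩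
    · rintro ⟨⟨b, hb⟩, ⟨w, hw⟩, w0⟩ ⟨⟨c, hc⟩, ⟨w', hw'⟩, w0'⟩ e
      obtain rfl : w = w' := congrArg Subtype.val e
      have := mc_free h hz (zpowers_pow_le a _ (I.mul_mem hb (I.inv_mem hc))) (fun e => w0 (Subtype.ext e)) (by
        rw [show b * c⁻¹ = (b * y) * (c * y)⁻¹ by group, mul_smul, inv_smul_eq_iff.2 (mem_fix.1 hw').symm]
        exact hw)
      obtain rfl := mul_inv_eq_one.1 this
      rfl
    · obtain ⟨⟨g, hg⟩, g1⟩ := ne_bot_iff_exists_ne_one.1 ((one_lt_card_iff_ne_bot _).1 (hc v w v0 hw ▸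
        (one_lt_card_iff_ne_bot _).2 (ne_bot_iff_exists_ne_one.2 ⟨⟨y, hv⟩, fun e => h.y_ne_one (congrArg Subtype.val e)⟩)))
      obtain ⟨i, rfl⟩ := h.eq_of_notMem (hgen ▸ mem_top g) fun hga => g1 (Subtype.ext (mc_free h hz hga hw hg))
      exact ⟨⟨⟨_, (hI i).2 (mc_free h hz (h.shift i).sq_mem hw ((stabilizer P w).pow_mem hg 2))⟩, ⟨w, hg⟩,
        fun e => hw (congrArg Subtype.val e)⟩, rfl⟩
  have := Fintype.ofFinite I
  rw [Nat.card_sigma, Finset.sum_congr rfl fun b _ => c3 b, Finset.sum_const, Finset.card_univ,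
    ← Nat.card_eq_fintype_card, Nat.card_zpowers, h.ord_pow hj, card_ne, ← c2, smul_eq_mul] at c4
  have nb : fix V y ≠ ⊥ := fun e => v0 (AddSubgroup.mem_bot.1 (e ▸ hv))
  have := (AddSubgroup.one_lt_card_iff_ne_bot _).2 nb
  obtain ⟨s, hs⟩ : ∃ s, Nat.card (fix V y) = s + 1 := ⟨_, (Nat.sub_add_cancel this.le).symm⟩
  refine ⟨?_, c2.symm, nb⟩
  rw [hs] at c4 this ⊢
  refine Nat.eq_of_mul_eq_mul_right (by omega : 0 < s) ?_
  rw [Nat.add_sub_cancel, eq_comm, Nat.sub_eq_iff_eq_add (Nat.one_le_pow _ _ (by omega))] at c4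
  linarith

/-- the imprimitive configuration -/
structure IU (V : Type*) [AddCommGroup V] [DistribMulAction P V] (u z : P) : Prop where
  two : ∀ v : V, v + v = 0 → v = 0
  neg : ∀ v : V, z • v = -v
  cen : ∀ g, g * z = z * g
  uu : u * u = 1
  u1 : u ≠ 1
  uz : u ≠ z
  conj : ∀ g, g * u = u * g ∨ g * u = u * z * g
  ncen : ∃ g, g * u = u * z * g

namespace IU

variable [FaithfulSMul P V] {u z : P} (h : IU V u z)
include h

theorem zz : z * z = 1 := eq_of_smul_eq_smul (α := V) fun v => by rw [mul_smul, h.neg, h.neg, neg_neg, one_smul]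

theorem uzz : u * z * z = u := by rw [mul_assoc, h.zz, mul_one]

theorem symm : IU V (u * z) z where
  two := h.two
  neg := h.neg
  cen := h.cen
  uu := by rw [mul_assoc, ← mul_assoc z, ← h.cen, mul_assoc, h.zz, mul_one, h.uu]
  u1 := fun e => h.uz (by rw [← h.uzz, e, one_mul])
  uz := fun e => h.u1 (by simpa using e)
  conj := fun g => (h.conj g).imp (fun e => by rw [← mul_assoc, e, mul_assoc, h.cen, mul_assoc])
    fun e => by rw [← mul_assoc, e, mul_assoc, h.cen g, ← mul_assoc]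
  ncen := h.ncen.imp fun g e => by rw [← mul_assoc, e, mul_assoc, h.cen g, ← mul_assoc]

theorem ex : ∃ v : V, v ≠ 0 ∧ u • v = v := exists_fix h.neg h.uu h.uz

omit h [FaithfulSMul P V] in
theorem smul_of_comm {g : P} (e : g * u = u * g) {v : V} (hv : u • v = v) : u • g • v = g • v := by
  rw [← mul_smul, ← e, mul_smul, hv]

omit h [FaithfulSMul P V] in
theorem smul_of_swap {g : P} (e : g * u = u * z * g) {v : V} (hv : u • v = v) : (u * z) • g • v = g • v := by
  rw [← mul_smul, ← e, mul_smul, hv]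

theorem comm' {g : P} (e : g * u = u * g) : g * (u * z) = u * z * g := by
  rw [← mul_assoc, e, mul_assoc, h.cen, mul_assoc]

theorem swap' {g : P} (e : g * u = u * z * g) : g * (u * z) = u * g := by
  rw [← mul_assoc, e, mul_assoc, h.cen g, ← mul_assoc, h.uzz]

theorem comm_of_fix {g : P} {v : V} (v0 : v ≠ 0) (hv : u • v = v) (hv' : u • g • v = g • v) : g * u = u * g :=
  (h.conj g).resolve_right fun e =>
    v0 ((smul_eq_zero_iff_eq g).1 (eq_zero_of_fix h.two h.neg hv' (smul_of_swap e hv)))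

theorem index : (centralizer {u}).index = 2 := by
  obtain ⟨g, hg⟩ := h.ncen
  have k : ∀ g, g * u = u * z * g → g ∉ centralizer {u} := fun g e e' => h.uz (by
    rw [mem_centralizer_singleton_iff.1 e', mul_left_inj, left_eq_mul] at e
    obtain ⟨v, v0, -⟩ := h.ex
    exact (v0 (h.two v (by nth_rewrite 1 [← one_smul P v, ← e, h.neg]; exact neg_add_cancel v))).elim)
  refine index_eq_two_iff.2 ⟨g, fun b => ?_⟩
  rcases h.conj b with e | e
  · exact .inr ⟨mem_centralizer_singleton_iff.2 e, k _ (by rw [mul_assoc, hg, ← mul_assoc, h.comm' e, mul_assoc])⟩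
  · exact .inl ⟨mem_centralizer_singleton_iff.2 (by rw [mul_assoc, hg, ← mul_assoc, h.swap' e, mul_assoc]), k _ e⟩

variable [Finite P] (hc : Half P V)
include hc

theorem pair {v w : V} (v0 : v ≠ 0) (w0 : w ≠ 0) (hv : u • v = v) (hw : (u * z) • w = w) :
    (∃ g : P, g • v = w ∧ g • w = v) ∧ ∀ g : P, g • v = v → g • w = w ∨ g • w = -w := by
  have hw' : u • w = -w := by rw [mul_smul, h.neg, smul_neg, neg_eq_iff_eq_neg] at hw; exact hw
  have z0 := fun x => eq_zero_of_fix (t := u) (v := x) h.two h.neg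
  have vw : v + w ≠ 0 := fun e => v0 (z0 v hv (by rw [eq_neg_of_add_eq_zero_left e, smul_neg, hw]))
  have sp : ∀ a b c d : V, u • a = a → (u * z) • b = b → u • c = c → (u * z) • d = d → a + b = c + d →
      a = c ∧ b = d := fun a b c d ha hb hc hd e => by
    have := sub_eq_zero.1 (z0 _ ((fix V u).sub_mem ha hc) (by
      rw [show a - c = d - b by linear_combination (norm := abel) e]; exact (fix V (u * z)).sub_mem hd hb))
    exact ⟨this, by rwa [this, add_right_inj] at e⟩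
  have e1 : centralizer {u} ⊓ stabilizer P (v + w) = stabilizer P w ⊓ stabilizer P v := by
    refine le_antisymm (fun g hg => ?_) fun g hg => ⟨mem_centralizer_singleton_iff.2
      (h.comm_of_fix v0 hv (by rw [show g • v = v from hg.2, hv])), show g • (v + w) = v + w by
        rw [smul_add, show g • v = v from hg.2, show g • w = w from hg.1]⟩
    have e := mem_centralizer_singleton_iff.1 hg.1
    exact (sp _ _ _ _ (smul_of_comm e hv) (smul_of_comm (h.comm' e) hw) hv hw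
      (by rw [← smul_add]; exact hg.2)).symm
  have e2 := CA.H1Basic.card_mul_relIndex (inf_le_right : centralizer {u} ⊓ stabilizer P (v + w) ≤ _)
  have e3 := CA.H1Basic.card_mul_relIndex (inf_le_right : stabilizer P w ⊓ stabilizer P v ≤ _)
  rw [e1, hc _ _ vw v0, ← e3, ← e1, inf_relIndex_right, e1, inf_relIndex_right] at e2
  have e4 := Nat.eq_of_mul_eq_mul_left Nat.card_pos e2
  have := normal_of_index_eq_two h.index
  have e5 := relIndex_dvd_index_of_normal (centralizer {u}) (stabilizer P (v + w))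
  have uw : u ∉ stabilizer P w := fun e => w0 (z0 w e hw)
  have e6 : (stabilizer P w).relIndex (stabilizer P v) = 2 := by
    rw [h.index, e4, Nat.dvd_prime Nat.prime_two] at e5
    exact e5.resolve_left fun e => uw (relIndex_eq_one.1 e hv)
  refine ⟨?_, fun g hg => ?_⟩
  · obtain ⟨g, hg, hg'⟩ := SetLike.not_le_iff_exists.1 fun e => by
      rw [relIndex_eq_one.2 e, e6] at e4; omega
    have e := (h.conj g).resolve_left fun e => hg' (mem_centralizer_singleton_iff.2 e)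
    exact ⟨g, (sp _ _ _ _ (by rw [← mul_smul, ← h.swap' e, mul_smul, hw]) (smul_of_swap e hv) hv hw
      (by rw [add_comm, ← smul_add]; exact hg)).symm⟩
  · refine or_iff_not_imp_left.2 fun hn => ?_
    have : (g * u) • w = w := (mul_mem_iff_of_index_two e6 (a := ⟨g, hg⟩) (b := ⟨u, hv⟩)).2
      ⟨fun e => (hn e).elim, fun e => (uw e).elim⟩
    rw [mul_smul, hw', smul_neg, neg_eq_iff_eq_neg] at this
    exact this

theorem scalar {v : V} (v0 : v ≠ 0) (hv : u • v = v) {g : P} (hg : g • v = v) :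
    (∀ w : V, (u * z) • w = w → g • w = w) ∨ ∀ w : V, (u * z) • w = w → g • w = -w := by
  have k : ∀ w : V, (u * z) • w = w → g • w = w ∨ g • w = -w := fun w hw => by
    by_cases w0 : w = 0
    · simp [w0]
    · exact (h.pair hc v0 w0 hv hw).2 g hg
  by_contra hn
  push Not at hn
  obtain ⟨⟨a, ha, ha'⟩, b, hb, hb'⟩ := hn
  have e1 := (k a ha).resolve_left ha'
  have e2 := (k b hb).resolve_right hb'
  rcases k (a + b) ((fix V (u * z)).add_mem ha hb) with e | e <;> rw [smul_add, e1, e2] at e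
  · exact ha' (e1.trans (add_right_cancel e))
  · rw [neg_add] at e
    exact hb' (e2.trans (add_left_cancel e))

theorem stab [Finite V] {v : V} (v0 : v ≠ 0) (hv : u • v = v) {g : P} (hg : g • v = v) : g = 1 ∨ g = u := by
  obtain ⟨w, w0, hw⟩ := h.symm.ex
  have k : ∀ g : P, g • v = v → (∀ w : V, (u * z) • w = w → g • w = w) → g = 1 := fun g hg e => by
    rcases h.symm.scalar hc w0 hw (e w hw) with e' | e' <;> rw [h.uzz] at e'
    · refine eq_of_smul_eq_smul (α := V) fun x => ?_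
      obtain ⟨a, b, ha, hb, rfl⟩ := exists_add h.two h.neg h.uu x
      rw [smul_add, e' a ha, e b hb, one_smul]
    · exact (v0 (h.two v (by nth_rewrite 1 [← hg, e' v hv]; exact neg_add_cancel v))).elim
  refine (h.scalar hc v0 hv hg).imp (k g hg) fun e => ?_
  have := k (g * u) (by rw [mul_smul, hv, hg]) fun w hw => by
    have hw' := hw
    rw [mul_smul, h.neg, smul_neg, neg_eq_iff_eq_neg] at hw'
    rw [mul_smul, hw', smul_neg, e w hw, neg_neg]
  rw [← mul_inv_eq_one, inv_eq_of_mul_eq_one_right h.uu, this]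

theorem card [Finite V] : Nat.card V = Nat.card (fix V u) ^ 2 ∧ Nat.card P = 4 * (Nat.card (fix V u) - 1) := by
  classical
  obtain ⟨g, hg⟩ := h.ncen
  obtain ⟨v, v0, hv⟩ := h.ex
  obtain ⟨w, w0, hw⟩ := h.symm.ex
  refine ⟨by rw [← card_fix_mul h.two h.neg h.uu, ← mul_inv_eq_iff_eq_mul.2 hg, card_fix_conj, sq], ?_⟩
  have e1 : stabilizer (centralizer {u}) v = (zpowers u).subgroupOf _ := by
    ext x
    refine ⟨fun hx => ?_, fun hx => (zpowers_le.2 hv : zpowers u ≤ stabilizer P v) hx⟩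
    rcases h.stab hc v0 hv hx with e | e <;> simp [mem_subgroupOf, e]
  have e2 : orbit (centralizer {u}) v = (fix V u : Set V) \ {0} := by
    ext x
    constructor
    · rintro ⟨c, rfl⟩
      exact ⟨smul_of_comm (mem_centralizer_singleton_iff.1 c.2) hv, fun e => v0 ((smul_eq_zero_iff_eq c).1 e)⟩
    · rintro ⟨hx, x0⟩
      obtain ⟨a, a1, -⟩ := (h.pair hc v0 w0 hv hw).1
      obtain ⟨b, -, b1⟩ := (h.pair hc x0 w0 hx hw).1
      have e : (b * a) • v = x := by rw [mul_smul, a1, b1]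
      exact ⟨⟨b * a, mem_centralizer_singleton_iff.2 (h.comm_of_fix v0 hv (e ▸ hx))⟩, e⟩
  have e3 := (stabilizer (centralizer {u}) v).index_mul_card
  rw [index_stabilizer, e2, e1, CA.H1Basic.card_subgroupOf (zpowers_le.2 (mem_centralizer_singleton_iff.2 rfl)),
    Nat.card_zpowers, orderOf_eq_prime (p := 2) (by rw [sq, h.uu]) h.u1,
    Set.ncard_diff_singleton_of_mem (fix V u).zero_mem, ← Nat.card_coe_set_eq] at e3
  rw [← (centralizer {u}).index_mul_card, h.index, ← e3]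
  change 2 * ((Nat.card (fix V u) - 1) * 2) = _
  ring

end IU

/-- half-transitive 2-groups in odd characteristic -/
theorem half_two [Finite P] [Finite V] [Nontrivial V] [FaithfulSMul P V] (hP : IsPGroup 2 P) {q : ℕ}
    (hq : Odd q) (hE : ∀ v : V, q • v = 0) (hc : Half P V) :
    ((IsCyclic P ∨ ∃ (m : ℕ) (a y : P), zpowers a ⊔ zpowers y = ⊤ ∧ 1 ≤ m ∧ MC m 0 1 a y) ∧
      ∀ (g : P) (v : V), v ≠ 0 → g • v = v → g = 1) ∨
    (∃ (m k j : ℕ) (a y : P), zpowers a ⊔ zpowers y = ⊤ ∧ 2 ≤ m ∧ k ≤ 1 ∧ k + j = m + 1 ∧ MC m k 0 a y ∧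
      Nat.card (fix V y) + 1 = 2 ^ j ∧ Nat.card V = Nat.card (fix V y) ^ 2 ∧ fix V y ≠ ⊥) ∨
    ∃ u z : P, IU V u z := by
  have h2 : ∀ v : V, v + v = 0 → v = 0 := fun v e =>
    CA.Huppert.eq_zero_of_nsmul hE (Nat.coprime_two_left.2 hq) (by rwa [two_nsmul])
  have hcen : ∀ x ∈ center P, x ≠ 1 → ∀ a : V, x • a = a → a = 0 := fun x hx hx1 a ha =>
    CA.Huppert.central_fpf hE hc hx hx1 (by
      obtain ⟨k, hk⟩ := (IsPGroup.iff_orderOf.1 hP) x
      rw [hk]
      exact (Nat.coprime_two_left.2 hq).pow_left k) ha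
  rcases tri hP with h | ⟨R, _, hRe, hRc⟩ | ⟨-, m, a, y, hgen, h⟩
  · exact .inl ⟨.inl h, fun g v hv e => by_contra fun g1 => hv
      (hcen g (mem_center_iff.2 fun x => h.isMulCommutative.is_comm.comm x g) g1 v e)⟩
  · obtain ⟨u, z, hz, ho, hu, hu', ⟨a, a0, ha⟩, hconj⟩ := exists_xz hP hcen hRe hRc
    have zz : z * z = 1 := by rw [← sq, ← ho, pow_orderOf_eq_one]
    have k : ∀ g, g * u = u * g ∨ g * u = u * z * g := fun g => by
      obtain ⟨i, hi⟩ := hconj g
      rw [← zpow_mod_orderOf, ho, mul_inv_eq_iff_eq_mul] at hi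
      rcases Int.emod_two_eq_zero_or_one i with e | e <;> simp only [Nat.cast_ofNat, e] at hi
      · exact .inl (by simpa using hi)
      · exact .inr (by simpa using hi)
    refine .inr (.inr ⟨u, z, h2, neg_of_fpf zz (hcen z hz fun e => by simp [e] at ho), mem_center_iff.1 hz,
      by rw [← sq, hu], fun e => hu' (e ▸ one_mem _), fun e => hu' (e ▸ hz), k, ?_⟩)
    by_contra hn
    exact hu' (mem_center_iff.2 fun g => (k g).resolve_right fun e => hn ⟨g, e⟩)
  · have hz : ∀ {ε δ : ℤ}, MC m ε δ a y → ∀ v : V, a ^ (2 ^ m : ℤ) • v = v → v = 0 := fun h =>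
      hcen _ (mem_center_iff.2 fun g => h.z_central (hgen ▸ mem_top g)) h.z_ne
    rcases h with ⟨hm, h⟩ | ⟨hm, k, hk, h⟩
    · exact .inl ⟨.inr ⟨m, a, y, hgen, hm, h⟩, quat_free h hgen (hz h)⟩
    · exact .inr (.inl ⟨m, k, m + 1 - k, a, y, hgen, hm, hk, by omega, h,
        mc_count h2 hc (by omega) hk (by omega) h hgen (hz h)⟩)

end CA.Half2
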