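import Mathlib

/-! A binomial coefficient `C(a+m, m)` with `2 ≤ m ≤ a` has a prime factor `≤ a`, except `C(7,3)`. -/

set_option autoImplicit false

namespace CA.HallSn

open Nat Finset

theorem fac_dvd3 (x₁ x₂ x₃ y₁ y₂ y₃ : ℕ)
    (h : ∀ p i : ℕ, p.Prime → 1 ≤ i →
      x₁ / p ^ i + x₂ / p ^ i + x₃ / p ^ i ≤ y₁ / p ^ i + y₂ / p ^ i + y₃ / p ^ i) :
    x₁ ! * x₂ ! * x₃ ! ∣ y₁ ! * y₂ ! * y₃ ! := by
  rw [← Nat.factorization_prime_le_iff_dvd (by positivity) (by positivity)]
  intro p hp
  have key : ∀ x, x ≤ x₁ + x₂ + x₃ + y₁ + y₂ + y₃ →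
      (x !).factorization p = ∑ i ∈ Ico 1 (x₁ + x₂ + x₃ + y₁ + y₂ + y₃ + 1), x / p ^ i := by
    intro x hx
    exact Nat.factorization_factorial hp (lt_of_le_of_lt (Nat.log_le_self p x) (by omega))
  rw [Nat.factorization_mul (by positivity) (by positivity),
    Nat.factorization_mul (by positivity) (by positivity),
    Nat.factorization_mul (by positivity) (by positivity),
    Nat.factorization_mul (by positivity) (by positivity)]
  simp only [Finsupp.coe_add, Pi.add_apply]
  rw [key x₁ (by omega), key x₂ (by omega), key x₃ (by omega), key y₁ (by omega),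
    key y₂ (by omega), key y₃ (by omega), ← Finset.sum_add_distrib, ← Finset.sum_add_distrib,
    ← Finset.sum_add_distrib, ← Finset.sum_add_distrib]
  exact Finset.sum_le_sum fun i hi => h p i hp (Finset.mem_Ico.1 hi).1

theorem nocarry {a m p : ℕ} (hp : p.Prime) (h : ¬ p ∣ (a + m).choose m) {i : ℕ} (hi : 1 ≤ i) :
    m % p ^ i + a % p ^ i < p ^ i := by
  by_contra hc
  apply h
  rw [hp.dvd_iff_one_le_factorization (Nat.choose_pos (by omega)).ne',
    Nat.factorization_choose' hp (b := a + m + i + 1)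
      (lt_of_le_of_lt (Nat.log_le_self p _) (by omega))]
  exact Finset.card_pos.2 ⟨i, Finset.mem_filter.2 ⟨Finset.mem_Ico.2 ⟨hi, by omega⟩, by omega⟩⟩

theorem div_add {a m q : ℕ} (hq : 0 < q) (h : m % q + a % q < q) : (a + m) / q = a / q + m / q := by
  rw [Nat.add_div hq, if_neg (by omega)]; rfl

theorem div_div_comm' (x c q : ℕ) : x / c / q = x / q / c := by
  rw [Nat.div_div_eq_div_mul, Nat.div_div_eq_div_mul, mul_comm]

theorem ineq1 (h d : ℕ) (hh : 3 ≤ h) (hd : 1 ≤ d) :
    d * ((2 * h + 1)! * (h + 1 + d)!) < (2 * h + 1 + d)! * (h + 1)! := by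
  have base : ∀ d, 3 ≤ d → d * ((2 * h + 1)! * (h + 1 + d)!) < (2 * h + 1 + d)! * (h + 1)! := by
    intro d hd
    induction d, hd using Nat.le_induction with
    | base =>
      have e1 : (h + 1 + 3)! = (h + 4) * (h + 3) * (h + 2) * (h + 1)! := by
        simp only [Nat.factorial_succ]; ring
      have e2 : (2 * h + 1 + 3)! = (2 * h + 4) * (2 * h + 3) * (2 * h + 2) * (2 * h + 1)! := by
        simp only [Nat.factorial_succ]; ring
      rw [e1, e2]
      have hp : 0 < (2 * h + 1)! * (h + 1)! := by positivity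
      have : 3 * ((h + 4) * (h + 3) * (h + 2)) < (2 * h + 4) * (2 * h + 3) * (2 * h + 2) := by
        obtain ⟨k, rfl⟩ := Nat.exists_eq_add_of_le hh
        ring_nf; nlinarith [Nat.zero_le k, Nat.zero_le (k ^ 2), Nat.zero_le (k ^ 3)]
      nlinarith [Nat.mul_lt_mul_of_pos_right this hp]
    | succ d hd ih =>
      have e1 : (h + 1 + (d + 1))! = (h + 2 + d) * (h + 1 + d)! := by
        rw [show h + 1 + (d + 1) = (h + 1 + d) + 1 by ring, Nat.factorial_succ]; ring
      have e2 : (2 * h + 1 + (d + 1))! = (2 * h + 2 + d) * (2 * h + 1 + d)! := by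
        rw [show 2 * h + 1 + (d + 1) = (2 * h + 1 + d) + 1 by ring, Nat.factorial_succ]; ring
      rw [e1, e2]
      have h1 : (d + 1) * (h + 2 + d) ≤ (2 * h + 2 + d) * d := by
        obtain ⟨k, rfl⟩ := Nat.exists_eq_add_of_le hh
        obtain ⟨l, rfl⟩ := Nat.exists_eq_add_of_le hd
        nlinarith [Nat.zero_le k, Nat.zero_le l, Nat.zero_le (k * l)]
      calc (d + 1) * ((2 * h + 1)! * ((h + 2 + d) * (h + 1 + d)!))
          = ((d + 1) * (h + 2 + d)) * ((2 * h + 1)! * (h + 1 + d)!) := by ring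
        _ ≤ ((2 * h + 2 + d) * d) * ((2 * h + 1)! * (h + 1 + d)!) := Nat.mul_le_mul_right _ h1
        _ = (2 * h + 2 + d) * (d * ((2 * h + 1)! * (h + 1 + d)!)) := by ring
        _ < (2 * h + 2 + d) * ((2 * h + 1 + d)! * (h + 1)!) :=
          Nat.mul_lt_mul_of_pos_left ih (by omega)
        _ = _ := by ring
  have hp : 0 < (2 * h + 1)! * (h + 1)! := by positivity
  rcases (by omega : d = 1 ∨ d = 2 ∨ 3 ≤ d) with rfl | rfl | h3
  · have e1 : (h + 1 + 1)! = (h + 2) * (h + 1)! := by simp only [Nat.factorial_succ]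
    have e2 : (2 * h + 1 + 1)! = (2 * h + 2) * (2 * h + 1)! := by simp only [Nat.factorial_succ]
    rw [e1, e2]
    have : h + 2 < 2 * h + 2 := by omega
    nlinarith [Nat.mul_lt_mul_of_pos_right this hp]
  · have e1 : (h + 1 + 2)! = (h + 3) * (h + 2) * (h + 1)! := by
      simp only [Nat.factorial_succ]; ring
    have e2 : (2 * h + 1 + 2)! = (2 * h + 3) * (2 * h + 2) * (2 * h + 1)! := by
      simp only [Nat.factorial_succ]; ring
    rw [e1, e2]
    have : 2 * ((h + 3) * (h + 2)) < (2 * h + 3) * (2 * h + 2) := by nlinarith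
    nlinarith [Nat.mul_lt_mul_of_pos_right this hp]
  · exact base d h3

theorem step6 (A D B C : ℕ) (ih : B ! * C ! < A ! * D !)
    (h : (B + 1) * (B + 2) * (B + 3) * ((C + 1) * (C + 2)) ≤
      (A + 1) * (A + 2) * (A + 3) * (A + 4) * (D + 1)) :
    (B + 3)! * (C + 2)! < (A + 4)! * (D + 1)! := by
  have e1 : (B + 3)! * (C + 2)! = ((B + 1) * (B + 2) * (B + 3) * ((C + 1) * (C + 2))) * (B ! * C !) := by
    simp only [Nat.factorial_succ]; ring
  have e2 : (A + 4)! * (D + 1)! = ((A + 1) * (A + 2) * (A + 3) * (A + 4) * (D + 1)) * (A ! * D !) := by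
    simp only [Nat.factorial_succ]; ring
  rw [e1, e2]
  exact Nat.mul_lt_mul_of_le_of_lt h ih (by positivity)

theorem ineq2a (k : ℕ) : (3 * k + 4)! * (2 * k + 2)! < (4 * k + 5)! * (k + 1)! := by
  induction k with
  | zero => decide
  | succ k ih =>
    have := step6 _ _ _ _ ih (by
      have : (3 * k + 4 + 1) * (3 * k + 4 + 2) * (3 * k + 4 + 3) ≤
        (4 * k + 5 + 2) * (4 * k + 5 + 3) * (4 * k + 5 + 4) := by gcongr <;> omega
      calc _ ≤ (4 * k + 5 + 2) * (4 * k + 5 + 3) * (4 * k + 5 + 4) *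
            ((2 * k + 2 + 1) * (2 * k + 2 + 2)) := Nat.mul_le_mul_right _ this
        _ = _ := by ring)
    convert this using 3 <;> ring

theorem ineq2b (k : ℕ) : (3 * k + 8)! * (2 * k + 5)! < (4 * k + 10)! * (k + 2)! := by
  induction k with
  | zero => decide
  | succ k ih =>
    have := step6 _ _ _ _ ih (by
      have : (3 * k + 8 + 1) * (3 * k + 8 + 2) * (3 * k + 8 + 3) ≤
        (4 * k + 10 + 1) * (4 * k + 10 + 2) * (4 * k + 10 + 3) := by gcongr <;> omega
      calc _ ≤ (4 * k + 10 + 1) * (4 * k + 10 + 2) * (4 * k + 10 + 3) *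
            ((2 * k + 5 + 1) * (2 * k + 5 + 2)) := Nat.mul_le_mul_right _ this
        _ = _ := by ring)
    convert this using 3 <;> ring

theorem ineq2c (k : ℕ) : (3 * k + 6)! * (2 * k + 3)! < (4 * k + 7)! * (k + 1)! := by
  induction k with
  | zero => decide
  | succ k ih =>
    have := step6 _ _ _ _ ih (by
      have : (3 * k + 6 + 1) * (3 * k + 6 + 2) * (3 * k + 6 + 3) ≤
        (4 * k + 7 + 1) * (4 * k + 7 + 2) * (4 * k + 7 + 4) := by gcongr <;> omega
      calc _ ≤ (4 * k + 7 + 1) * (4 * k + 7 + 2) * (4 * k + 7 + 4) *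
            ((2 * k + 3 + 1) * (2 * k + 3 + 2)) := Nat.mul_le_mul_right _ this
        _ = _ := by ring)
    convert this using 3 <;> ring

/-- The number-theoretic core. -/
theorem choose_core {a m : ℕ} (hm : 2 ≤ m) (hma : m ≤ a)
    (h : ∀ p : ℕ, p.Prime → p ≤ a → ¬ p ∣ (a + m).choose m) : a = 4 ∧ m = 3 := by
  have nc : ∀ p i : ℕ, p.Prime → p ≤ a → 1 ≤ i → m % p ^ i + a % p ^ i < p ^ i :=
    fun p i hp hpa hi => nocarry hp (h p hp hpa) hi
  have big : ∀ p i x : ℕ, p.Prime → a < p → 1 ≤ i → x ≤ a → x / p ^ i = 0 := by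
    intro p i x hp hpa hi hx
    apply Nat.div_eq_of_lt
    calc x < p := by omega
      _ = p ^ 1 := (pow_one p).symm
      _ ≤ p ^ i := Nat.pow_le_pow_right hp.pos hi
  have h2 := nc 2 1 Nat.prime_two (by omega) le_rfl
  rw [pow_one] at h2
  rcases Nat.even_or_odd' m with ⟨k, rfl | rfl⟩
  · -- m even
    exfalso
    have hd : ((a + 2 * k) / 2)! * k ! * 0 ! ∣ (2 * k)! * (a / 2)! * 0 ! := by
      apply fac_dvd3
      intro p i hp hi
      rcases le_or_gt p a with hpa | hpa
      · have h1 := div_add (pow_pos hp.pos i) (nc p i hp hpa hi)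
        have h3 : k / p ^ i = (2 * k) / p ^ i / 2 := by
          rw [← div_div_comm']; congr 1; omega
        rw [div_div_comm' _ 2, div_div_comm' _ 2, h1, h3]
        omega
      · rw [big p i _ hp hpa hi (by omega), big p i k hp hpa hi (by omega)]
        simp
    have e : (a + 2 * k) / 2 = a / 2 + k := by omega
    have hodd : ¬ 2 ∣ (a / 2 + k).choose k := by
      intro h2
      apply h 2 Nat.prime_two (by omega)
      haveI := Fact.mk Nat.prime_two
      have h3 := Choose.choose_modEq_choose_mod_mul_choose_div_nat (n := a + 2 * k) (k := 2 * k)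
        (p := 2)
      rw [e, show 2 * k / 2 = k by omega] at h3
      exact (Nat.ModEq.dvd_iff h3 dvd_rfl).2 (Dvd.dvd.mul_left h2 _)
    rw [e] at hd
    have h1 : (a / 2 + k)! = (a / 2 + k).choose k * k ! * (a / 2)! := by
      rw [← Nat.add_choose_mul_factorial_mul_factorial (a / 2) k]; ring
    have h3 : (2 * k)! = (k + k).choose k * k ! * k ! := by
      rw [Nat.add_choose_mul_factorial_mul_factorial, two_mul]
    have h4 : (k + k).choose k ≤ (a / 2 + k).choose k := Nat.choose_le_choose _ (by omega)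
    rw [h1, h3] at hd
    have h5 : 0 < (k + k).choose k := Nat.choose_pos (by omega)
    have h6 : (a / 2 + k).choose k ∣ (k + k).choose k := by
      apply Nat.dvd_of_mul_dvd_mul_right (k := k ! * k ! * (a / 2)!) (by positivity)
      convert hd using 1 <;> simp only [Nat.factorial_zero] <;> ring
    have h7 : 2 ∣ (k + k).choose k := by
      rw [← two_mul, ← Nat.centralBinom_eq_two_mul_choose]
      exact Nat.two_dvd_centralBinom_of_one_le (by omega)
    have h8 := le_antisymm h4 (Nat.le_of_dvd h5 h6)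
    exact hodd (h8 ▸ h7)
  · obtain ⟨b, rfl⟩ : ∃ b, a = 2 * b := ⟨a / 2, by omega⟩
    have hdv : 2 * b + 2 ∣ (2 * k + 1)! := by
      rw [Nat.dvd_iff_prime_pow_dvd_dvd]
      intro p i hp hpi
      rcases Nat.eq_zero_or_pos i with rfl | hi
      · simp
      have hpa : p ≤ 2 * b := by
        have h1 : p ∣ 2 * (b + 1) := (dvd_pow_self p hi.ne').trans (by simpa [mul_add] using hpi)
        rcases (Nat.Prime.dvd_mul hp).1 h1 with h1 | h1
        · have := Nat.le_of_dvd two_pos h1; omega
        · have := Nat.le_of_dvd (by omega) h1; omega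
      have h1 := nc p i hp hpa hi
      apply Nat.dvd_factorial (pow_pos hp.pos i)
      by_contra hlt
      rw [Nat.mod_eq_of_lt (by omega : 2 * k + 1 < p ^ i)] at h1
      obtain ⟨c, hc⟩ := hpi
      have h3 : (2 * b + 2) % p ^ i = 0 := by rw [hc]; simp
      rw [Nat.add_mod, Nat.mod_eq_of_lt (by omega : 2 < p ^ i),
        Nat.mod_eq_of_lt (by omega : 2 * b % p ^ i + 2 < p ^ i)] at h3
      simp at h3
    rcases (by omega : k = 1 ∨ k = 2 ∨ 3 ≤ k) with rfl | rfl | hk
    · have := Nat.le_of_dvd (by positivity) hdv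
      simp only [Nat.factorial] at this
      omega
    · exfalso
      have h0 := Nat.le_of_dvd (by positivity) hdv
      have h3 := nc 3 1 Nat.prime_three (by omega) le_rfl
      have h8 := nc 2 3 Nat.prime_two (by omega) (by norm_num)
      have h9 := nc 3 2 Nat.prime_three (by omega) (by norm_num)
      have h7 := fun hh => nc 7 1 (by norm_num) hh le_rfl
      norm_num [Nat.factorial] at h0 h3 h8 h9 h7 hdv
      have hb : b ≤ 59 := by omega
      have hb' : 3 ≤ b := by omega
      interval_cases b <;> omega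
    exfalso
    obtain ⟨d, rfl⟩ : ∃ d, b = k + 1 + d := ⟨b - (k + 1), by omega⟩
    rcases Nat.eq_zero_or_pos d with rfl | hd
    · have hd : ((2 * (k + 1 + 0) + (2 * k + 1)) / 3)! * ((2 * k + 1) / 6)! * 0 ! ∣
          ((2 * (k + 1 + 0)) / 2)! * ((2 * k + 1) / 3)! * 0 ! := by
        apply fac_dvd3
        intro p i hp hi
        rcases le_or_gt p (2 * (k + 1 + 0)) with hpa | hpa
        · have h1 := div_add (pow_pos hp.pos i) (nc p i hp hpa hi)
          have h3 : (2 * k + 1) / p ^ i ≤ (2 * (k + 1 + 0)) / p ^ i :=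
            Nat.div_le_div_right (by omega)
          rw [div_div_comm' _ 3, div_div_comm' _ 6, div_div_comm' _ 2, div_div_comm' _ 3, h1]
          omega
        · rw [big p i _ hp hpa hi (by omega), big p i ((2 * k + 1) / 6) hp hpa hi (by omega)]
          simp
      have hle := Nat.le_of_dvd (by positivity) hd
      simp only [Nat.factorial_zero, mul_one] at hle
      rcases (by omega : k % 3 = 0 ∨ k % 3 = 1 ∨ k % 3 = 2) with h3 | h3 | h3
      · obtain ⟨j, rfl⟩ : ∃ j, k = 3 * j + 3 := ⟨k / 3 - 1, by omega⟩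
        have := ineq2a j
        rw [show (2 * (3 * j + 3 + 1 + 0) + (2 * (3 * j + 3) + 1)) / 3 = 4 * j + 5 by omega,
          show (2 * (3 * j + 3) + 1) / 6 = j + 1 by omega,
          show (2 * (3 * j + 3 + 1 + 0)) / 2 = 3 * j + 4 by omega,
          show (2 * (3 * j + 3) + 1) / 3 = 2 * j + 2 by omega] at hle
        omega
      · rcases (by omega : k = 4 ∨ 7 ≤ k) with rfl | h7
        · have h8 := nc 2 4 Nat.prime_two (by omega) (by norm_num)
          norm_num at h8
        obtain ⟨j, rfl⟩ : ∃ j, k = 3 * j + 7 := ⟨k / 3 - 2, by omega⟩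
        have := ineq2b j
        rw [show (2 * (3 * j + 7 + 1 + 0) + (2 * (3 * j + 7) + 1)) / 3 = 4 * j + 10 by omega,
          show (2 * (3 * j + 7) + 1) / 6 = j + 2 by omega,
          show (2 * (3 * j + 7 + 1 + 0)) / 2 = 3 * j + 8 by omega,
          show (2 * (3 * j + 7) + 1) / 3 = 2 * j + 5 by omega] at hle
        omega
      · obtain ⟨j, rfl⟩ : ∃ j, k = 3 * j + 5 := ⟨k / 3 - 1, by omega⟩
        have := ineq2c j
        rw [show (2 * (3 * j + 5 + 1 + 0) + (2 * (3 * j + 5) + 1)) / 3 = 4 * j + 7 by omega,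
          show (2 * (3 * j + 5) + 1) / 6 = j + 1 by omega,
          show (2 * (3 * j + 5 + 1 + 0)) / 2 = 3 * j + 6 by omega,
          show (2 * (3 * j + 5) + 1) / 3 = 2 * j + 3 by omega] at hle
        omega
    · obtain ⟨e, rfl⟩ : ∃ e, d = e + 1 := ⟨d - 1, by omega⟩
      have hdd : ((2 * (k + 1 + (e + 1)) + (2 * k + 1)) / 2)! * (k + 1)! * e ! ∣
          (2 * k + 1)! * ((2 * (k + 1 + (e + 1))) / 2)! * (e + 1)! := by
        apply fac_dvd3
        intro p i hp hi
        rcases le_or_gt p (2 * (k + 1 + (e + 1))) with hpa | hpa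
        · have hq := pow_pos hp.pos i
          have h0 := nc p i hp hpa hi
          have h1 := div_add hq h0
          have h3 : k / p ^ i = (2 * k + 1) / p ^ i / 2 := by
            rw [← div_div_comm']; congr 1; omega
          rw [div_div_comm' _ 2, div_div_comm' _ 2, h1, Nat.succ_div (a := k),
            Nat.succ_div (a := e), h3]
          by_cases hk1 : p ^ i ∣ k + 1
          · have h4 : p ^ i ∣ e + 1 := by
              have aux : ∀ q, 0 < q → q ∣ 2 * (k + 1) →
                  (2 * k + 1) % q + 2 * (k + 1 + (e + 1)) % q < q → q ∣ 2 * (e + 1) := by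
                intro q hq h5 h6
                have h7 : (2 * k + 1 + 1) % q = 0 := Nat.mod_eq_zero_of_dvd (by
                  rwa [show 2 * k + 1 + 1 = 2 * (k + 1) by ring])
                have h8 : 2 * (k + 1 + (e + 1)) % q = 0 := by
                  by_contra h9
                  rw [Nat.add_mod, Nat.mod_eq_of_lt (by omega : 1 < q),
                    Nat.mod_eq_of_lt (by omega : (2 * k + 1) % q + 1 < q)] at h7
                  omega
                have h9 := Nat.dvd_of_mod_eq_zero h8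
                rw [mul_add] at h9
                exact (Nat.dvd_add_right h5).1 h9
              rcases hp.eq_two_or_odd' with rfl | hodd
              · have := aux (2 ^ (i + 1)) (by positivity)
                  (by rw [_root_.pow_succ']; exact Nat.mul_dvd_mul_left 2 hk1)
                  (nc 2 (i + 1) hp hpa (by omega))
                rw [_root_.pow_succ'] at this
                exact Nat.dvd_of_mul_dvd_mul_left two_pos this
              · exact (Nat.Coprime.dvd_mul_left ((Nat.coprime_two_right.2 hodd).pow_left i)).1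
                  (aux _ hq (Dvd.dvd.mul_left hk1 2) h0)
            rw [if_pos hk1, if_pos h4]; omega
          · rw [if_neg hk1]; omega
        · rw [big p i _ hp hpa hi (by omega), big p i (k + 1) hp hpa hi (by omega),
            big p i e hp hpa hi (by omega)]
          simp
      have hle := Nat.le_of_dvd (by positivity) hdd
      rw [show (2 * (k + 1 + (e + 1)) + (2 * k + 1)) / 2 = 2 * k + 1 + (e + 1) by omega,
        show (2 * (k + 1 + (e + 1))) / 2 = k + 1 + (e + 1) by omega, Nat.factorial_succ e] at hle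
      have := Nat.mul_lt_mul_of_pos_right (ineq1 k (e + 1) hk (by omega)) (Nat.factorial_pos e)
      nlinarith

end CA.HallSn
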