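import Mathlib
import Cfsg.Agent.Lib.Perm.PermBasic

/-! Stabilizers of uniform partitions in symmetric and alternating groups. -/

open Equiv Equiv.Perm MulAction Pointwise

namespace CA.PartStab

variable {Ω ι : Type*}

/-- the stabilizer of the partition into the fibres of `f` -/
def P (f : Ω → ι) : Subgroup (Perm Ω) where
  carrier := {g | ∀ x y : Ω, f x = f y ↔ f (g x) = f (g y)}
  one_mem' := fun _ _ => Iff.rfl
  mul_mem' := fun {a b} ha hb x y => (hb x y).trans (ha _ _)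
  inv_mem' := fun {a} ha x y => by
    have := ha (a⁻¹ x) (a⁻¹ y)
    simpa using this.symm

theorem closure_eq (f : Ω → ι) :
    Subgroup.closure {g : Perm Ω | ∀ x y : Ω, f x = f y ↔ f (g x) = f (g y)} = P f :=
  Subgroup.closure_eq (P f)

theorem mem_P {f : Ω → ι} {g : Perm Ω} : g ∈ P f ↔ ∀ x y : Ω, f x = f y ↔ f (g x) = f (g y) :=
  Iff.rfl

theorem mem_of_fix {f : Ω → ι} {g : Perm Ω} (h : ∀ x, f (g x) = f x) : g ∈ P f := fun x y => by
  rw [h, h]

theorem swap_mem [DecidableEq Ω] {f : Ω → ι} {u v : Ω} (h : f u = f v) : swap u v ∈ P f :=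
  mem_of_fix fun x => by
    rw [swap_apply_def]
    split_ifs with h1 h2
    · rw [h1, h]
    · rw [h2, h]
    · rfl

theorem prim {f : Ω → ι} (K : Subgroup (Perm Ω)) (x : Ω)
    (T1 : ∀ x y y', f y ≠ f x → f y' ≠ f x → ∃ p ∈ K, p x = x ∧ p y = y')
    (T2 : ∀ x y y', f y = f x → f y' = f x → y ≠ x → y' ≠ x → ∃ p ∈ K, p x = x ∧ p y = y')
    (T3 : ∀ x x', ∃ p ∈ K, p ∈ P f ∧ p x = x') (hK : ¬ K ≤ P f) : IsPreprimitive K Ω := by
  have : IsPretransitive K Ω := (CA.PermBasic.subgroup_pretransitive_iff K).2 fun a b => by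
    obtain ⟨p, hp, -, h⟩ := T3 a b
    exact ⟨p, hp, h⟩
  refine IsPreprimitive.of_isTrivialBlock_base x fun {D} hx hD => ?_
  have key : ∀ p ∈ K, ∀ z ∈ D, p z ∈ D → ∀ y ∈ D, p y ∈ D := by
    intro p hp z hz hpz y hy
    have := hD.smul_eq_of_mem (g := ⟨p, hp⟩) hz hpz
    rw [← this]
    exact ⟨y, hy, rfl⟩
  have out : ∀ z ∈ D, ∀ y ∈ D, f y ≠ f z → ∀ y', f y' ≠ f z → y' ∈ D := by
    intro z hz y hy h y' h'
    obtain ⟨p, hp, h1, h2⟩ := T1 z y y' h h'
    exact h2 ▸ key p hp z hz (h1.symm ▸ hz) y hy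
  by_cases h1 : ∃ y ∈ D, f y ≠ f x
  · obtain ⟨y, hy, h⟩ := h1
    right
    rw [Set.eq_univ_iff_forall]
    intro z
    by_cases hz : f z = f x
    · exact out y hy x hx h.symm z (hz ▸ h.symm)
    · exact out x hx y hy h z hz
  push Not at h1
  by_cases h2 : ∃ y ∈ D, y ≠ x
  · obtain ⟨y, hy, h⟩ := h2
    have hin : ∀ z, f z = f x → z ∈ D := by
      intro z hz
      by_cases hzx : z = x
      · exact hzx ▸ hx
      obtain ⟨p, hp, e1, e2⟩ := T2 x y z (h1 y hy) hz h hzx
      exact e2 ▸ key p hp x hx (e1.symm ▸ hx) y hy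
    have fw : ∀ g ∈ K, ∀ u v, f u = f v → f (g u) = f (g v) := by
      intro g hg u v huv
      obtain ⟨p, hp, hp', e1⟩ := T3 x u
      obtain ⟨q, hq, hq', e2⟩ := T3 x (g u)
      have hk : q⁻¹ * g * p ∈ K := K.mul_mem (K.mul_mem (K.inv_mem hq) hg) hp
      have hv : p⁻¹ v ∈ D := hin _ ((hp' _ _).2 (by simp [e1, huv]))
      have := h1 _ (key _ hk x hx (by simpa [e1, ← e2] using hx) _ hv)
      have := (hq' _ _).1 this
      simp only [Perm.mul_apply, Perm.coe_inv, apply_symm_apply, e2] at this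
      exact this.symm
    refine absurd (fun g hg u v => ⟨fw g hg u v, fun h => ?_⟩) hK
    simpa using fw g⁻¹ (K.inv_mem hg) _ _ h
  · push Not at h2
    left
    intro u hu v hv
    rw [h2 u hu, h2 v hv]

section uniform
variable [Fintype Ω] {a b : ℕ} {f : Ω → Fin b}

theorem exists_coord (hf : ∀ i : Fin b, Nat.card {x : Ω // f x = i} = a) :
    ∃ e : Ω ≃ Fin b × Fin a, ∀ x, (e x).1 = f x := by
  have e : ∀ i, {x : Ω // f x = i} ≃ Fin a := fun i => Finite.equivFinOfCardEq (hf i)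
  exact ⟨(Equiv.sigmaFiberEquiv f).symm.trans ((Equiv.sigmaCongrRight e).trans
    (Equiv.sigmaEquivProd _ _)), fun x => rfl⟩

theorem card_eq (hf : ∀ i : Fin b, Nat.card {x : Ω // f x = i} = a) : Fintype.card Ω = b * a := by
  obtain ⟨e, -⟩ := exists_coord hf
  simpa using Fintype.card_congr e

theorem cross (hf : ∀ i : Fin b, Nat.card {x : Ω // f x = i} = a) {u v u' v' : Ω}
    (h : f u ≠ f v) (h' : f u' ≠ f v') : ∃ p ∈ P f, p u = u' ∧ p v = v' := by
  classical
  obtain ⟨e, he⟩ := exists_coord hf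
  let σ : Perm (Fin b) := swap (swap (f u) (f u') (f v)) (f v') * swap (f u) (f u')
  have s1 : σ (f u) = f u' := by
    simp only [σ, Perm.mul_apply, swap_apply_left]
    refine swap_apply_of_ne_of_ne (fun e => h ?_) h'
    exact (swap (f u) (f u')).injective (by rw [swap_apply_left]; exact e)
  have s2 : σ (f v) = f v' := by simp [σ]
  let τ : Fin b → Perm (Fin a) := fun k =>
    if k = f u then swap (e u).2 (e u').2 else swap (e v).2 (e v').2
  let q : Perm (Fin b × Fin a) := (Equiv.prodCongrRight τ).trans (Equiv.prodCongr σ (Equiv.refl _))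
  have hq : ∀ x, e (e.symm.permCongr q x) = (σ (f x), τ (f x) (e x).2) := by
    intro x
    rw [← he]
    simp [q, Equiv.prodCongrRight]
  refine ⟨e.symm.permCongr q, fun x y => ?_, e.injective ?_, e.injective ?_⟩
  · rw [← he (e.symm.permCongr q x), ← he (e.symm.permCongr q y), hq, hq]
    exact σ.injective.eq_iff.symm
  · rw [hq, s1]
    exact Prod.ext (he _).symm (by simp [τ])
  · rw [hq, s2]
    exact Prod.ext (he _).symm (by simp [τ, h.symm])

theorem exists_fib (hf : ∀ i : Fin b, Nat.card {x : Ω // f x = i} = a) (i : Fin b) (s : Finset Ω)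
    (hs : s.card < a) : ∃ x, f x = i ∧ x ∉ s := by
  classical
  by_contra hc
  push Not at hc
  have : Nat.card {x : Ω // f x = i} ≤ Nat.card s :=
    Nat.card_le_card_of_injective (fun x => ⟨x.1, hc x.1 x.2⟩) fun x y h =>
      Subtype.ext (by simpa using h)
  rw [hf, Nat.card_eq_fintype_card, Fintype.card_coe] at this
  omega

theorem exists_lab (s : Finset (Fin b)) (hs : s.card < b) : ∃ i, i ∉ s := by
  by_contra hc
  push Not at hc
  have : s = Finset.univ := Finset.eq_univ_of_forall hc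
  simp [this] at hs

theorem exists_pair (ha : 2 ≤ a) (hf : ∀ i : Fin b, Nat.card {x : Ω // f x = i} = a) (i : Fin b) :
    ∃ u v, u ≠ v ∧ f u = i ∧ f v = i := by
  obtain ⟨u, hu, -⟩ := exists_fib hf i ∅ (by simp; omega)
  obtain ⟨v, hv, h⟩ := exists_fib hf i {u} (by simp; omega)
  exact ⟨u, v, fun e => h (by simp [e]), hu, hv⟩

theorem exists_other (ha : 2 ≤ a) (hb : 2 ≤ b) (hf : ∀ i : Fin b, Nat.card {x : Ω // f x = i} = a)
    (i : Fin b) : ∃ u v, u ≠ v ∧ f u = f v ∧ f u ≠ i := by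
  obtain ⟨j, hj⟩ := exists_lab {i} (by simp; omega)
  obtain ⟨u, v, h, hu, hv⟩ := exists_pair ha hf j
  exact ⟨u, v, h, hu.trans hv.symm, hu ▸ by simpa using hj⟩

theorem trans (ha : 2 ≤ a) (hb : 2 ≤ b) (hf : ∀ i : Fin b, Nat.card {x : Ω // f x = i} = a)
    (x x' : Ω) : ∃ p ∈ P f, p x = x' := by
  obtain ⟨u, -, -, -, hu⟩ := exists_other ha hb hf (f x)
  obtain ⟨u', -, -, -, hu'⟩ := exists_other ha hb hf (f x')
  obtain ⟨p, hp, h, -⟩ := cross hf hu.symm hu'.symm
  exact ⟨p, hp, h⟩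

variable [DecidableEq Ω]

theorem three_not_mem (ha : 2 ≤ a) (hb : 2 ≤ b)
    (hf : ∀ i : Fin b, Nat.card {x : Ω // f x = i} = a) : ∃ g ∈ alternatingGroup Ω, g ∉ P f := by
  obtain ⟨u, v, h, huv, -⟩ := exists_other ha hb hf ⟨0, by omega⟩
  obtain ⟨w, -, -, -, hw⟩ := exists_other ha hb hf (f u)
  have hwu : w ≠ u := fun e => hw (e ▸ rfl)
  have hwv : w ≠ v := fun e => hw (e ▸ huv.symm)
  refine ⟨swap v w * swap u w, by simp [hwu.symm, hwv.symm], fun hm => hw ?_⟩
  have := (hm u v).1 huv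
  simp only [Perm.mul_apply, swap_apply_left, swap_apply_right,
    swap_apply_of_ne_of_ne h.symm hwv.symm] at this
  exact this.symm.trans huv.symm

theorem isCoatom_P (ha : 2 ≤ a) (hb : 2 ≤ b) (hf : ∀ i : Fin b, Nat.card {x : Ω // f x = i} = a) :
    IsCoatom (P f) := by
  obtain ⟨g, -, hg⟩ := three_not_mem ha hb hf
  refine ⟨fun h => hg (h ▸ Subgroup.mem_top g), fun K hK => ?_⟩
  obtain ⟨u, v, h, huv, -⟩ := exists_other ha hb hf ⟨0, by omega⟩
  refine subgroup_eq_top_of_isPreprimitive_of_isSwap_mem (prim K u ?_ ?_ ?_ hK.not_ge) (swap u v)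
    ⟨u, v, h, rfl⟩ (hK.le (swap_mem huv))
  · intro x y y' h1 h2
    obtain ⟨p, hp, e⟩ := cross hf h1.symm h2.symm
    exact ⟨p, hK.le hp, e⟩
  · intro x y y' h1 h2 h3 h4
    exact ⟨swap y y', hK.le (swap_mem (h1.trans h2.symm)),
      swap_apply_of_ne_of_ne h3.symm h4.symm, swap_apply_left _ _⟩
  · intro x x'
    obtain ⟨p, hp, e⟩ := trans ha hb hf x x'
    exact ⟨p, hK.le hp, hp, e⟩

theorem adjust {p : Perm Ω} (hp : p ∈ P f) {u v : Ω} (h : u ≠ v) (huv : f u = f v) :
    ∃ q ∈ P f ⊓ alternatingGroup Ω, ∀ z, p z ≠ u → p z ≠ v → q z = p z := by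
  rcases Int.units_eq_one_or (sign p) with hs | hs
  · exact ⟨p, ⟨hp, mem_alternatingGroup.2 hs⟩, fun _ _ _ => rfl⟩
  · refine ⟨swap u v * p, ⟨(P f).mul_mem (swap_mem huv) hp, mem_alternatingGroup.2 ?_⟩,
      fun z h1 h2 => swap_apply_of_ne_of_ne h1 h2⟩
    simp [h, hs]

theorem trans_alt (ha : 2 ≤ a) (hb : 2 ≤ b) (hf : ∀ i : Fin b, Nat.card {x : Ω // f x = i} = a)
    (x x' : Ω) : ∃ p ∈ P f ⊓ alternatingGroup Ω, p x = x' := by
  obtain ⟨p, hp, e⟩ := trans ha hb hf x x'
  obtain ⟨u, v, h, huv, hu⟩ := exists_other ha hb hf (f x')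
  obtain ⟨q, hq, hq'⟩ := adjust hp h huv
  exact ⟨q, hq, (hq' x (fun c => hu (by rw [← c, e])) (fun c => hu (by rw [huv, ← c, e]))).trans e⟩

theorem prim_alt (ha : 2 ≤ a) (hb : 2 ≤ b) (hab : 3 ≤ a ∨ 3 ≤ b)
    (hf : ∀ i : Fin b, Nat.card {x : Ω // f x = i} = a) (K : Subgroup (Perm Ω))
    (hK : P f ⊓ alternatingGroup Ω ≤ K) (hK' : ¬ K ≤ P f) : IsPreprimitive K Ω := by
  obtain ⟨x0, -⟩ := exists_other ha hb hf ⟨0, by omega⟩
  refine prim K x0 ?_ ?_ ?_ hK'
  · intro x y y' h1 h2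
    obtain ⟨p, hp, e1, e2⟩ := cross hf h1.symm h2.symm
    have : ∃ u v, u ≠ v ∧ f u = f v ∧ x ≠ u ∧ x ≠ v ∧ y' ≠ u ∧ y' ≠ v := by
      rcases hab with h3 | h3
      · obtain ⟨u, hu, hu'⟩ := exists_fib hf (f x) {x} (by simp; omega)
        obtain ⟨v, hv, hv'⟩ := exists_fib hf (f x) {x, u} (by
          have := Finset.card_le_two (a := x) (b := u); omega)
        simp only [Finset.mem_insert, Finset.mem_singleton, not_or] at hu' hv'
        exact ⟨u, v, Ne.symm hv'.2, hu.trans hv.symm, Ne.symm hu', Ne.symm hv'.1,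
          fun e => h2 (e ▸ hu), fun e => h2 (e ▸ hv)⟩
      · obtain ⟨j, hj⟩ := exists_lab {f x, f y'} (by
          have := Finset.card_le_two (a := f x) (b := f y'); omega)
        simp only [Finset.mem_insert, Finset.mem_singleton, not_or] at hj
        obtain ⟨u, v, h, hu, hv⟩ := exists_pair ha hf j
        exact ⟨u, v, h, hu.trans hv.symm, fun e => hj.1 (e ▸ hu.symm), fun e => hj.1 (e ▸ hv.symm),
          fun e => hj.2 (e ▸ hu.symm), fun e => hj.2 (e ▸ hv.symm)⟩
    obtain ⟨u, v, h, huv, c1, c2, c3, c4⟩ := this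
    obtain ⟨q, hq, hq'⟩ := adjust hp h huv
    exact ⟨q, hK hq, (hq' x (e1.symm ▸ c1) (e1.symm ▸ c2)).trans e1,
      (hq' y (e2.symm ▸ c3) (e2.symm ▸ c4)).trans e2⟩
  · intro x y y' h1 h2 h3 h4
    obtain ⟨u, v, h, huv, hu⟩ := exists_other ha hb hf (f x)
    obtain ⟨q, hq, hq'⟩ := adjust (swap_mem (h1.trans h2.symm)) h huv
    have e1 : swap y y' x = x := swap_apply_of_ne_of_ne h3.symm h4.symm
    have e2 : swap y y' y = y' := swap_apply_left _ _
    refine ⟨q, hK hq, (hq' x ?_ ?_).trans e1, (hq' y ?_ ?_).trans e2⟩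
    · rw [e1]; exact fun c => hu (c ▸ rfl)
    · rw [e1]; exact fun c => hu (huv.trans (c ▸ rfl))
    · rw [e2]; exact fun c => hu (c ▸ h2)
    · rw [e2]; exact fun c => hu (huv.trans (c ▸ h2))
  · intro x x'
    obtain ⟨p, hp, e⟩ := trans_alt ha hb hf x x'
    exact ⟨p, hK hp, hp.1, e⟩

end uniform

section matching
variable [Fintype Ω] [DecidableEq Ω]

omit [Fintype Ω] in
theorem comm_swap {m : Perm Ω} (hm : ∀ x, m (m x) = x) (x : Ω) : Commute m (swap x (m x)) := by
  rw [Commute, SemiconjBy, mul_swap_eq_swap_mul, hm, swap_comm]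

theorem three_of_matchings {m m' : Perm Ω} (hm : ∀ x, m (m x) = x) (hm0 : ∀ x, m x ≠ x)
    (hm' : ∀ x, m' (m' x) = x) (hm0' : ∀ x, m' x ≠ x) (hne : m ≠ m') (h4 : Fintype.card Ω ≠ 4)
    (h8 : Fintype.card Ω ≠ 8) (K : Subgroup (Perm Ω))
    (hK : ∀ p, sign p = 1 → Commute m p → p ∈ K) (hK' : ∀ p, sign p = 1 → Commute m' p → p ∈ K) :
    ∃ c ∈ K, IsThreeCycle c := by
  have inj : ∀ {x y}, m x = y → x = m y := fun {x y} h => by rw [← h, hm]
  have inj' : ∀ {x y}, m' x = y → x = m' y := fun {x y} h => by rw [← h, hm']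
  have long : ∀ x, m' (m (m' (m x))) ≠ x → ∃ c ∈ K, IsThreeCycle c := by
    intro x hx
    have h2 : m' (m x) ≠ x := fun e => hx (by rw [e, e])
    have h30 : m (m' (m x)) ≠ x := fun e => hm0' _ (inj e)
    have h31 : m (m' (m x)) ≠ m x := fun e => h2 (m.injective e)
    have k1 : swap x (m (m' (m x))) * swap (m x) (m' (m x)) ∈ K := by
      refine hK _ (by simp [h30.symm, (hm0' _).symm]) ?_
      rw [Commute, SemiconjBy, ← mul_assoc, mul_swap_eq_swap_mul m, mul_assoc,
        mul_swap_eq_swap_mul m, hm, hm, ← mul_assoc]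
      congr 1
      refine (disjoint_swap_swap ?_).commute.eq
      simp [hm0, (hm0 _).symm, (hm0' _).symm, h31.symm, h2, h30.symm]
    have k2 : swap (m x) (m' (m x)) * swap (m (m' (m x))) (m' (m (m' (m x)))) ∈ K :=
      hK' _ (by simp [(hm0' _).symm]) ((comm_swap hm' _).mul_right (comm_swap hm' _))
    refine ⟨_, K.mul_mem k1 k2, ?_⟩
    rw [mul_assoc, ← mul_assoc (swap (m x) _), swap_mul_self, one_mul, swap_comm x]
    exact isThreeCycle_swap_mul_swap_same h30 (hm0' _).symm hx.symm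
  by_contra hc
  have hcm : ∀ x, m' (m x) = m (m' x) := by
    intro x
    have : m' (m (m' (m (m (m' x))))) = m (m' x) := by
      by_contra h
      exact hc (long _ h)
    rwa [hm, hm'] at this
  obtain ⟨x, hx⟩ : ∃ x, m x ≠ m' x := by
    by_contra h
    push Not at h
    exact hne (Equiv.ext h)
  let O : Ω → Finset Ω := fun x => {x, m x, m' x, m (m' x)}
  have cO : ∀ x, m x ≠ m' x → (O x).card = 4 := by
    intro x hx
    have h1 : x ≠ m (m' x) := fun e => hx (inj e.symm).symm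
    refine Finset.card_eq_four.2 ⟨_, _, _, _, (hm0 x).symm, (hm0' x).symm, h1, hx, ?_, (hm0 _).symm,
      rfl⟩
    exact fun e => hm0' x (m.injective e).symm
  have clo : ∀ x z, (m z ∈ O x → z ∈ O x) ∧ (m' z ∈ O x → z ∈ O x) := by
    intro x z
    simp only [O, Finset.mem_insert, Finset.mem_singleton]
    constructor
    · rintro (h | h | h | h) <;> simp [inj h, hm]
    · rintro (h | h | h | h) <;> simp [inj' h, hm', hcm]
  have ex : ∀ s : Finset Ω, s.card ≠ Fintype.card Ω → ∃ u, u ∉ s := by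
    intro s hs
    by_contra h
    push Not at h
    exact hs (by rw [Finset.eq_univ_of_forall h, Finset.card_univ])
  obtain ⟨u, hu⟩ := ex (O x) (by rw [cO x hx]; exact h4.symm)
  obtain ⟨w, hw, hd⟩ : ∃ w, w ∉ O x ∧ Commute (swap u (m u)) (swap w (m' w)) := by
    by_cases h : m u = m' u
    · exact ⟨u, hu, by rw [h]⟩
    have hdis : Disjoint (O x) (O u) := by
      rw [Finset.disjoint_right]
      intro z hz hz'
      simp only [O, Finset.mem_insert, Finset.mem_singleton] at hz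
      apply hu
      rcases hz with rfl | rfl | rfl | rfl
      · exact hz'
      · exact (clo _ _).1 hz'
      · exact (clo _ _).2 hz'
      · exact (clo _ _).2 ((clo _ _).1 hz')
    obtain ⟨w, hw⟩ := ex (O x ∪ O u) (by
      rw [Finset.card_union_of_disjoint hdis, cO x hx, cO u h]; exact h8.symm)
    rw [Finset.mem_union, not_or] at hw
    have hw' : m' w ∉ O u := fun c => hw.2 ((clo _ _).2 c)
    refine ⟨w, hw.1, (disjoint_swap_swap ?_).commute⟩
    have a1 : u ≠ w := fun e => hw.2 (by simp [O, e])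
    have a2 : m u ≠ w := fun e => hw.2 (by simp [O, e])
    have a3 : u ≠ m' w := fun e => hw' (by simp [O, e])
    have a4 : m u ≠ m' w := fun e => hw' (by simp [O, e])
    simp [a1, a2, a3, a4, (hm0 _).symm, (hm0' _).symm]
  have hu' : m u ∉ O x := fun c => hu ((clo _ _).1 c)
  have hw' : m' w ∉ O x := fun c => hw ((clo _ _).2 c)
  have dis : ∀ s t y z, s ∈ O x → t ∈ O x → s ≠ t → y ∉ O x → z ∉ O x → y ≠ z →
      Commute (swap s t) (swap y z) := by
    intro s t y z hs ht hst hy hz hyz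
    refine (disjoint_swap_swap ?_).commute
    have a1 : s ≠ y := fun e => hy (e ▸ hs)
    have a2 : s ≠ z := fun e => hz (e ▸ hs)
    have a3 : t ≠ y := fun e => hy (e ▸ ht)
    have a4 : t ≠ z := fun e => hz (e ▸ ht)
    simp [a1, a2, a3, a4, hst, hyz]
  have o1 : x ∈ O x := by simp [O]
  have o2 : m x ∈ O x := by simp [O]
  have o3 : m' x ∈ O x := by simp [O]
  have k1 : swap x (m x) * swap u (m u) ∈ K :=
    hK _ (by simp [(hm0 _).symm]) ((comm_swap hm _).mul_right (comm_swap hm _))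
  have k2 : swap x (m' x) * swap w (m' w) ∈ K :=
    hK' _ (by simp [(hm0' _).symm]) ((comm_swap hm' _).mul_right (comm_swap hm' _))
  have c1 := dis _ _ _ _ o1 o2 (hm0 _).symm hu hu' (hm0 _).symm
  have c2 := dis _ _ _ _ o1 o3 (hm0' _).symm hu hu' (hm0 _).symm
  have c3 := dis _ _ _ _ o1 o2 (hm0 _).symm hw hw' (hm0' _).symm
  have c4 := dis _ _ _ _ o1 o3 (hm0' _).symm hw hw' (hm0' _).symm
  refine hc ⟨_, K.mul_mem (K.mul_mem k1 k2) (K.mul_mem k1 k2), ?_⟩
  have e1 : swap x (m x) * swap u (m u) * (swap x (m' x) * swap w (m' w)) =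
      (swap x (m x) * swap x (m' x)) * (swap u (m u) * swap w (m' w)) :=
    c2.symm.mul_mul_mul_comm _ _
  have e2 : (swap u (m u) * swap w (m' w)) * (swap u (m u) * swap w (m' w)) = 1 := by
    rw [hd.symm.mul_mul_mul_comm, swap_mul_self, swap_mul_self, one_mul]
  rw [e1, ((c1.mul_left c2).mul_right (c3.mul_left c4)).symm.mul_mul_mul_comm, e2, mul_one]
  exact (isThreeCycle_swap_mul_swap_same (hm0 _).symm (hm0' _).symm hx).isThreeCycle_sq

end matching

section alt
variable [Fintype Ω] [DecidableEq Ω] {a b : ℕ} {f : Ω → Fin b}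

omit [DecidableEq Ω] in
theorem exists_partner (hf : ∀ i : Fin b, Nat.card {x : Ω // f x = i} = 2) :
    ∃ m : Perm Ω, (∀ x, m (m x) = x) ∧ (∀ x, m x ≠ x) ∧ ∀ x y, f x = f y ↔ y = x ∨ y = m x := by
  obtain ⟨e, he⟩ := exists_coord hf
  let q : Perm (Fin b × Fin 2) := Equiv.prodCongr (Equiv.refl _) (swap 0 1)
  have hq : ∀ x, e (e.symm.permCongr q x) = ((e x).1, swap 0 1 (e x).2) := fun x => by
    simp [q, Prod.map]
  have h2 : ∀ s t : Fin 2, (swap 0 1 s ≠ s) ∧ (t = s ∨ t = swap 0 1 s) := by decide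
  refine ⟨e.symm.permCongr q, fun x => e.injective ?_, fun x h => ?_, fun x y => ⟨fun h => ?_, ?_⟩⟩
  · rw [hq, hq]; simp
  · have := congrArg (fun z => (e z).2) h
    simp only [hq] at this
    exact (h2 _ 0).1 this
  · rw [← he, ← he] at h
    refine (h2 (e x).2 (e y).2).2.imp (fun c => e.injective (Prod.ext h.symm c)) fun c =>
      e.injective ?_
    rw [hq]
    exact Prod.ext h.symm c
  · rintro (rfl | rfl)
    · rfl
    · rw [← he, ← he, hq]

theorem isCoatom_alt (h8 : Fintype.card Ω ≠ 8) (ha : 2 ≤ a) (hb : 2 ≤ b)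
    (hf : ∀ i : Fin b, Nat.card {x : Ω // f x = i} = a) :
    IsCoatom ((P f ⊓ alternatingGroup Ω).subgroupOf (alternatingGroup Ω)) := by
  obtain ⟨g, hg0, hg⟩ := three_not_mem ha hb hf
  refine ⟨fun h => hg (Subgroup.subgroupOf_eq_top.1 h hg0).1, fun K0 hK0 => ?_⟩
  set K := K0.map (alternatingGroup Ω).subtype
  have hK : P f ⊓ alternatingGroup Ω ≤ K := fun p hp => ⟨⟨p, hp.2⟩, hK0.le hp, rfl⟩
  have hK' : ¬ K ≤ P f := fun h => hK0.not_ge fun p hp => ⟨h ⟨p, hp, rfl⟩, p.2⟩
  have hcard := card_eq hf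
  suffices alternatingGroup Ω ≤ K by
    rw [eq_top_iff]
    intro p _
    obtain ⟨q, hq, e⟩ := this p.2
    exact (Subtype.ext e : q = p) ▸ hq
  by_cases hab : 3 ≤ a ∨ 3 ≤ b
  · have hp := prim_alt ha hb hab hf K hK hK'
    suffices ∃ c ∈ K, IsThreeCycle c by
      obtain ⟨c, hc, h3⟩ := this
      exact alternatingGroup_le_of_isPreprimitive_of_isThreeCycle_mem hp h3 hc
    by_cases h3 : 3 ≤ a
    · obtain ⟨u, v, h, hu, hv⟩ := exists_pair ha hf ⟨0, by omega⟩
      obtain ⟨w, hw, hw'⟩ := exists_fib hf ⟨0, by omega⟩ {u, v} (by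
          have := Finset.card_le_two (a := u) (b := v); omega)
      simp only [Finset.mem_insert, Finset.mem_singleton, not_or] at hw'
      have hc := isThreeCycle_swap_mul_swap_same h (Ne.symm hw'.1) (Ne.symm hw'.2)
      exact ⟨_, hK ⟨(P f).mul_mem (swap_mem (hu.trans hv.symm)) (swap_mem (hu.trans hw.symm)),
        hc.mem_alternatingGroup⟩, hc⟩
    obtain rfl : a = 2 := by omega
    obtain ⟨m, hm, hm0, hmf⟩ := exists_partner hf
    have hP : ∀ p : Perm Ω, Commute m p → p ∈ P f := by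
      intro p hp x y
      have : m (p x) = p (m x) := congrArg (fun s : Perm Ω => s x) hp.eq
      rw [hmf, hmf, this, p.injective.eq_iff, p.injective.eq_iff]
    have hKm : ∀ p, sign p = 1 → Commute m p → p ∈ K := fun p h1 h2 =>
      hK ⟨hP p h2, mem_alternatingGroup.2 h1⟩
    obtain ⟨k, hk, hk'⟩ := SetLike.not_le_iff_exists.1 hK'
    refine three_of_matchings (m' := k * m * k⁻¹) hm hm0 (fun x => by simp [hm])
      (fun x e => hm0 (k⁻¹ x) (k.injective (by simpa using e))) (fun e => hk' (hP k ?_))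
      (by omega) h8 K hKm fun p h1 h2 => ?_
    · rw [Commute, SemiconjBy]
      conv_lhs => rw [e]
      group
    · have : k⁻¹ * p * k ∈ K := hKm _ (by simp [h1]) (by
        have := h2.eq
        rw [Commute, SemiconjBy]
        calc m * (k⁻¹ * p * k) = k⁻¹ * (k * m * k⁻¹ * p) * k := by group
          _ = k⁻¹ * p * k * m := by rw [this]; group)
      have := K.mul_mem (K.mul_mem hk this) (K.inv_mem hk)
      simpa [mul_assoc] using this
  · obtain rfl : a = 2 := by omega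
    obtain rfl : b = 2 := by omega
    have : Nontrivial Ω := Fintype.one_lt_card_iff_nontrivial.1 (by omega)
    have htr : IsPretransitive (P f ⊓ alternatingGroup Ω : Subgroup (Perm Ω)) Ω :=
      (CA.PermBasic.subgroup_pretransitive_iff _).2 (trans_alt ha hb hf)
    have d1 : Nat.card Ω ∣ Nat.card (P f ⊓ alternatingGroup Ω : Subgroup (Perm Ω)) :=
      CA.PermBasic.card_dvd_card
    have hle : K ≤ alternatingGroup Ω := Subgroup.map_subtype_le _
    have d2 := Subgroup.card_dvd_of_le hK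
    have d3 := Subgroup.card_dvd_of_le hle
    have c12 : Nat.card (alternatingGroup Ω) = 12 := by
      rw [nat_card_alternatingGroup, Nat.card_eq_fintype_card, hcard]; rfl
    rw [Nat.card_eq_fintype_card, hcard] at d1
    have hlt : Nat.card (P f ⊓ alternatingGroup Ω : Subgroup (Perm Ω)) < Nat.card K := by
      refine lt_of_le_of_ne (Subgroup.card_le_of_le hK) fun e => hK' ?_
      rw [← Subgroup.eq_of_le_of_card_ge hK e.ge]
      exact inf_le_left
    have : Nat.card K = 12 := by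
      rw [c12] at d3
      have l1 := Nat.le_of_dvd (by norm_num) d3
      have l2 := Nat.le_of_dvd Nat.card_pos d1
      have d4 := d1.trans d2
      generalize Nat.card K = n at *
      interval_cases n <;> omega
    exact (Subgroup.eq_of_le_of_card_ge hle (by omega)).ge

end alt

end CA.PartStab
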