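import Cfsg.Agent.Lib.Perm.HallSn1
import Cfsg.Agent.Lib.Perm.PartStab
import Cfsg.Agent.Lib.Perm.SnCyc
import Cfsg.Prelude.Def_HallClasses

/-! Hall subgroups of alternating groups, part 1: the primes 2 and 3 belong to `π`. -/

set_option autoImplicit false

namespace CA.HallSn

open Equiv Equiv.Perm Cfsg Pointwise

theorem syl_le {G : Type*} [Group G] [Finite G] {p : ℕ} [hp : Fact p.Prime] {H : Subgroup G}
    (h : ¬ p ∣ H.index) : ∃ P : Sylow p G, (P : Subgroup G) ≤ H := by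
  let P0 : Sylow p H := default
  obtain ⟨S, hS⟩ := (P0.isPGroup'.map H.subtype).exists_le_sylow
  refine ⟨S, le_trans (le_of_eq (Subgroup.eq_of_le_of_card_ge hS ?_).symm)
    (Subgroup.map_subtype_le _)⟩
  rw [Subgroup.card_map_of_injective H.subtype_injective, P0.card_eq_multiplicity,
    S.card_eq_multiplicity, ← H.card_mul_index,
    Nat.factorization_mul Nat.card_pos.ne' H.index_ne_zero_of_finite]
  simp [Nat.factorization_eq_zero_of_not_dvd h]

theorem kp {G : Type*} [Group G] [Finite G] {p : ℕ} (hp : p.Prime) {H L Q : Subgroup G}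
    (hi : ¬ p ∣ H.relIndex L) (hQ : IsPGroup p Q) (hQL : Q ≤ L) :
    ∃ g ∈ L, ∀ x ∈ Q, g * x * g⁻¹ ∈ H := by
  haveI := Fact.mk hp
  obtain ⟨P, hP⟩ := syl_le (p := p) (H := H.subgroupOf L) hi
  obtain ⟨S, hS⟩ := (hQ.comap_subtype (K := L)).exists_le_sylow
  obtain ⟨g, hg⟩ := MulAction.exists_smul_eq L S P
  refine ⟨g, g.2, fun x hx => ?_⟩
  have h1 : (⟨x, hQL hx⟩ : L) ∈ (S : Subgroup L) := hS hx
  have h2 : g * ⟨x, hQL hx⟩ * g⁻¹ ∈ (P : Subgroup L) := by
    rw [← hg]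
    exact Subgroup.smul_mem_pointwise_smul _ (MulAut.conj g) _ h1
  exact hP h2

variable {α : Type*} [Fintype α] [DecidableEq α]

/-- permutations preserving every fibre of `f` -/
def Fx {ι : Type*} (f : α → ι) : Subgroup (Perm α) where
  carrier := {g | ∀ x, f (g x) = f x}
  one_mem' := fun _ => rfl
  mul_mem' := fun {a b} ha hb x => (ha (b x)).trans (hb x)
  inv_mem' := fun {a} ha x => by simpa using (ha (a⁻¹ x)).symm

omit [Fintype α] [DecidableEq α] in
theorem mem_Fx {ι : Type*} {f : α → ι} {g : Perm α} : g ∈ Fx f ↔ ∀ x, f (g x) = f x := Iff.rfl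

theorem card_Fx {ι : Type*} [Fintype ι] [DecidableEq ι] (f : α → ι) :
    Nat.card (Fx f) = ∏ i, (Finset.univ.filter fun a => f a = i).card.factorial := by
  have := DomMulAct.stabilizer_card f
  simp only [Fintype.card_subtype] at this
  rw [← this, ← Fintype.card_subtype, ← Nat.card_eq_fintype_card]
  exact Nat.card_congr (Equiv.subtypeEquivRight fun g => by
    rw [mem_Fx, funext_iff]; rfl)

variable {π : Set ℕ} {H : Subgroup (Perm α)}

theorem out (hH : IsPiHallOf π H (alternatingGroup α)) {p : ℕ} (hp : p.Prime) (hπ : p ∈ π)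
    (Z : α → Prop) (hZ : ∀ h ∈ H, ∀ x, Z x → Z (h x)) {Q : Subgroup (Perm α)}
    (hQ : IsPGroup p Q) (hQA : Q ≤ alternatingGroup α) (hQZ : ∀ q ∈ Q, ∀ x, Z x → q x = x) :
    ∃ g : Perm α, (∀ x, Z (g x) ↔ Z x) ∧ ∀ q ∈ Q, g * q * g⁻¹ ∈ H := by
  have h1 : H ≤ alternatingGroup α ⊓ Fx Z := le_inf hH.1 fun h hh x => propext
    ⟨fun hx => by simpa using hZ _ (H.inv_mem hh) _ hx, hZ h hh x⟩
  have h2 : ¬ p ∣ H.relIndex (alternatingGroup α ⊓ Fx Z) := fun hd => hH.2.2 p hp hπ (by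
    rw [← Subgroup.relIndex_mul_relIndex _ _ _ h1 inf_le_left]; exact hd.mul_right _)
  obtain ⟨g, hg, h3⟩ := kp hp h2 hQ (le_inf hQA fun q hq x => propext ⟨fun hx => by
    have := hQZ q hq _ hx
    rwa [q.injective this] at hx, fun hx => by rwa [hQZ q hq x hx]⟩)
  exact ⟨g, fun x => iff_of_eq (hg.2 x), h3⟩

/-- `c` is a cycle of length `t` -/
def Cy (t : ℕ) (c : Perm α) : Prop := c.IsCycle ∧ c.support.card = t

theorem Cy.conj {t : ℕ} {c : Perm α} (h : Cy t c) (g : Perm α) : Cy t (g * c * g⁻¹) :=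
  ⟨h.1.conj, by rw [card_support_conj]; exact h.2⟩

theorem Cy.orderOf {t : ℕ} {c : Perm α} (h : Cy t c) : orderOf c = t := h.1.orderOf.trans h.2

theorem Cy.alt {t : ℕ} {c : Perm α} (h : Cy t c) (ht : Odd t) : c ∈ alternatingGroup α := by
  rw [mem_alternatingGroup, h.1.sign, h.2, ht.neg_one_pow, neg_neg]

theorem exists_cy {t : ℕ} (ht : 2 ≤ t) {U : Finset α} (hU : t ≤ U.card) :
    ∃ c, Cy t c ∧ c.support ⊆ U := by
  obtain ⟨V, hVU, hV⟩ := Finset.exists_subset_card_eq hU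
  have h1 : V.toList.formPerm.support = V := by
    rw [List.support_formPerm_of_nodup _ V.nodup_toList, Finset.toList_toFinset]
    intro x hx
    have := congrArg List.length hx
    rw [Finset.length_toList] at this
    simp at this; omega
  exact ⟨V.toList.formPerm, ⟨List.isCycle_formPerm V.nodup_toList
    (by rw [Finset.length_toList]; omega), by rw [h1, hV]⟩, by rw [h1]; exact hVU⟩

theorem mem_supp_conj {g c : Perm α} {x : α} : g x ∈ (g * c * g⁻¹).support ↔ x ∈ c.support := by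
  simp

theorem out_cy (hH : IsPiHallOf π H (alternatingGroup α)) {t : ℕ} (ht : t.Prime) (ho : Odd t)
    (hπ : t ∈ π) (Z : α → Prop) [DecidablePred Z] (hZ : ∀ h ∈ H, ∀ x, Z x → Z (h x))
    (hc : t ≤ (Finset.univ.filter fun x => ¬ Z x).card) :
    ∃ c ∈ H, Cy t c ∧ ∀ x ∈ c.support, ¬ Z x := by
  obtain ⟨c, hc1, hc2⟩ := exists_cy ht.two_le hc
  haveI := Fact.mk ht
  obtain ⟨g, hg1, hg2⟩ := out hH ht hπ Z hZ (Q := Subgroup.zpowers c)
    (IsPGroup.of_card (n := 1) (by rw [Nat.card_zpowers, hc1.orderOf, pow_one]))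
    (Subgroup.zpowers_le.2 (hc1.alt ho)) (fun q hq x hx => by
      have : c ∈ MulAction.stabilizer (Perm α) x := by
        by_contra h
        exact (Finset.mem_filter.1 (hc2 (mem_support.2 h))).2 hx
      exact (Subgroup.zpowers_le (H := MulAction.stabilizer (Perm α) x)).2 this hq)
  refine ⟨_, hg2 c (Subgroup.mem_zpowers c), hc1.conj g, fun x hx => ?_⟩
  obtain ⟨y, rfl⟩ := g.surjective x
  rw [hg1]
  exact (Finset.mem_filter.1 (hc2 (mem_supp_conj.1 hx))).2

omit [Fintype α] [DecidableEq α] in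
theorem pow_mem_of {d : Perm α} {U : Finset α} (h : ∀ z ∈ U, d z ∈ U) (k : ℕ) :
    ∀ z ∈ U, (d ^ k) z ∈ U := by
  induction k with
  | zero => simp
  | succ k ih => intro z hz; rw [pow_succ', mul_apply]; exact h _ (ih z hz)

theorem Cy.sub {t : ℕ} {d : Perm α} (hd : Cy t d) (ht : t.Prime) {U : Finset α} {i : ℕ}
    (hi : d ^ i ≠ 1) (h : ∀ z ∈ U, (d ^ i) z ∈ U) {x : α} (hx : x ∈ U) (hxd : x ∈ d.support) :
    d.support ⊆ U := by
  have h1 : i.Coprime (_root_.orderOf d) := by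
    rw [hd.orderOf, Nat.coprime_comm, ht.coprime_iff_not_dvd, ← hd.orderOf,
      orderOf_dvd_iff_pow_eq_one]
    exact hi
  obtain ⟨m, hm⟩ := exists_pow_eq_self_of_coprime h1
  have h2 : ∀ z ∈ U, d z ∈ U := fun z hz => hm ▸ pow_mem_of h m z hz
  intro y hy
  obtain ⟨k, rfl⟩ := hd.1.exists_pow_eq (mem_support.1 hxd) (mem_support.1 hy)
  exact pow_mem_of h2 k x hx

theorem Cy.block {t : ℕ} {d : Perm α} (hd : Cy t d) (ht : t.Prime) (hdH : d ∈ H) {U : Finset α}
    (hU : ∀ g ∈ H, ∀ y ∈ U, g y ∈ U → ∀ z ∈ U, g z ∈ U) (h2 : 2 ≤ U.card) {x : α} (hx : x ∈ U)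
    (hxd : x ∈ d.support) : d.support ⊆ U := by
  obtain ⟨y, hy, hyx⟩ := Finset.exists_mem_ne h2 x
  by_cases hyd : d y = y
  · exact hd.sub ht (i := 1) (by rw [pow_one]; exact hd.1.ne_one)
      (by rw [pow_one]; exact hU d hdH y hy (hyd.symm ▸ hy)) hx hxd
  · obtain ⟨i, hi⟩ := hd.1.exists_pow_eq (mem_support.1 hxd) hyd
    exact hd.sub ht (i := i) (fun h => hyx (by rw [← hi, h]; rfl))
      (hU _ (H.pow_mem hdH i) x hx (hi ▸ hy)) hx hxd

theorem overlap {s : ℕ} (hs : s.Prime) (ho : Odd s) (N : ℕ) : ∀ c ∈ H, ∀ d ∈ H, Cy s c → Cy s d →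
    (c.support ∪ d.support).card = N → c.support ≠ d.support →
    (∃ x, x ∈ c.support ∧ x ∈ d.support) → 2 ∣ Nat.card H := by
  induction N using Nat.strong_induction_on with
  | _ N ih =>
  intro c hc d hd hcc hdc hN hne ⟨x, hxc, hxd⟩
  have nsub : ∀ {a b : Perm α}, Cy s a → Cy s b → a.support ≠ b.support →
      ¬ a.support ⊆ b.support := fun ha hb h h' =>
    h (Finset.eq_of_subset_of_card_le h' (by rw [ha.2, hb.2]))
  obtain ⟨u, huc, hud⟩ := Finset.not_subset.1 (nsub hcc hdc hne)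
  obtain ⟨v, hvd, hvc⟩ := Finset.not_subset.1 (nsub hdc hcc hne.symm)
  by_cases h1 : ∃ u' ∈ c.support, u' ∉ d.support ∧ u' ≠ u
  · obtain ⟨u', hu'c, hu'd, hu'⟩ := h1
    obtain ⟨i, hi⟩ := hcc.1.exists_pow_eq (mem_support.1 huc) (mem_support.1 hu'c)
    have hfix : ∀ z, z ∉ c.support → (c ^ i) z = z := fun z hz =>
      pow_apply_eq_self_of_apply_eq_self (notMem_support.1 hz) i
    refine ih _ ?_ d hd (c ^ i * d * (c ^ i)⁻¹)
      (H.mul_mem (H.mul_mem (H.pow_mem hc i) hd) (H.inv_mem (H.pow_mem hc i))) hdc (hdc.conj _)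
      rfl ?_ ⟨v, hvd, by rw [← hfix v hvc, mem_supp_conj]; exact hvd⟩
    · rw [← hN]
      apply Finset.card_lt_card
      refine ⟨fun z hz => ?_, fun h => ?_⟩
      · rcases Finset.mem_union.1 hz with hz | hz
        · exact Finset.mem_union_right _ hz
        · obtain ⟨y, rfl⟩ := (c ^ i).surjective z
          rw [mem_supp_conj] at hz
          by_cases hy : y ∈ c.support
          · exact Finset.mem_union_left _ (pow_apply_mem_support.2 hy)
          · rw [hfix y hy]; exact Finset.mem_union_right _ hz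
      · rcases Finset.mem_union.1 (h (Finset.mem_union_left _ hu'c)) with h | h
        · exact hu'd h
        · rw [← hi, mem_supp_conj] at h; exact hud h
    · intro h
      refine nsub hcc hdc hne (hcc.sub hs (i := i) (fun h => hu' (by rw [← hi, h]; rfl))
        (fun z hz => ?_) hxd hxc)
      rw [h, mem_supp_conj]; exact hz
  · push Not at h1
    have h2 : c.support ∪ d.support = insert u d.support := by
      ext z
      simp only [Finset.mem_union, Finset.mem_insert]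
      constructor
      · rintro (h | h)
        · by_cases hz : z ∈ d.support
          · exact Or.inr hz
          · exact Or.inl (h1 z h hz)
        · exact Or.inr h
      · rintro (rfl | h)
        · exact Or.inl huc
        · exact Or.inr h
    let K : Subgroup (Perm α) := H ⊓ Fx (· ∈ c.support ∪ d.support)
    have hmem : ∀ a ∈ H, a.support ⊆ c.support ∪ d.support → a ∈ K := fun a ha h =>
      ⟨ha, fun z => propext (by
        by_cases hz : a z = z
        · rw [hz]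
        · exact iff_of_true (h (apply_mem_support.2 (mem_support.2 hz))) (h (mem_support.2 hz)))⟩
    have h3 : MulAction.orbit K x = ((c.support ∪ d.support : Finset α) : Set α) := by
      ext z
      constructor
      · rintro ⟨g, rfl⟩
        exact (iff_of_eq (g.2.2 x)).2 (Finset.mem_union_left _ hxc)
      · intro hz
        rcases Finset.mem_union.1 hz with hz | hz
        · obtain ⟨i, hi⟩ := hcc.1.exists_pow_eq (mem_support.1 hxc) (mem_support.1 hz)
          exact ⟨⟨c ^ i, K.pow_mem (hmem c hc Finset.subset_union_left) i⟩, hi⟩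
        · obtain ⟨i, hi⟩ := hdc.1.exists_pow_eq (mem_support.1 hxd) (mem_support.1 hz)
          exact ⟨⟨d ^ i, K.pow_mem (hmem d hd Finset.subset_union_right) i⟩, hi⟩
    have h4 := CA.PermBasic.card_orbit_dvd (G := K) x
    rw [h3, Nat.card_coe_set_eq, Set.ncard_coe_finset, h2, Finset.card_insert_of_notMem hud,
      hdc.2] at h4
    exact (ho.add_one.two_dvd.trans h4).trans (Subgroup.card_dvd_of_le inf_le_left)

theorem exists_cy_mem (hH : IsPiHallOf π H (alternatingGroup α)) {t : ℕ} (ht : t.Prime)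
    (ho : Odd t) (hπ : t ∈ π) (hn : t ≤ Fintype.card α) : ∃ c ∈ H, Cy t c := by
  obtain ⟨c, h1, h2, -⟩ := out_cy hH ht ho hπ (fun _ => False) (fun _ _ _ h => h) (by simpa)
  exact ⟨c, h1, h2⟩

theorem two_mem_aux (hH : IsPiHallOf π H (alternatingGroup α)) (h2 : 2 ∉ π) {s t : ℕ}
    (hs : s.Prime) (ht : t.Prime) (hsπ : s ∈ π) (htπ : t ∈ π) (hst : s < t)
    (hn : t ≤ Fintype.card α) : False := by
  classical
  have hso : Odd s := hs.odd_of_ne_two fun h => h2 (h ▸ hsπ)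
  have hto : Odd t := ht.odd_of_ne_two fun h => h2 (h ▸ htπ)
  obtain ⟨d, hdH, hd⟩ := exists_cy_mem hH ht hto htπ hn
  have hZ : ∀ h ∈ H, ∀ x, (∃ c ∈ H, Cy s c ∧ x ∈ c.support) →
      ∃ c ∈ H, Cy s c ∧ h x ∈ c.support := fun h hh x ⟨c, h1, h2, h3⟩ =>
    ⟨_, H.mul_mem (H.mul_mem hh h1) (H.inv_mem hh), h2.conj h, mem_supp_conj.2 h3⟩
  by_cases h1 : ∃ x ∈ d.support, ∃ c ∈ H, Cy s c ∧ x ∈ c.support
  · obtain ⟨x, hxd, c, hcH, hc, hxc⟩ := h1
    have := hd.block ht hdH (U := c.support) (fun g hg y hy hgy z hz => ?_)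
      (by rw [hc.2]; exact hs.two_le) hxc hxd
    · have := Finset.card_le_card this
      rw [hd.2, hc.2] at this; omega
    · by_contra hne
      refine h2 (hH.2.1 2 Nat.prime_two (overlap hs hso _ c hcH (g * c * g⁻¹)
        (H.mul_mem (H.mul_mem hg hcH) (H.inv_mem hg)) hc (hc.conj g) rfl (fun h => hne ?_)
        ⟨g y, hgy, mem_supp_conj.2 hy⟩))
      rw [h, mem_supp_conj]; exact hz
  · obtain ⟨c, h3, h4, h5⟩ := out_cy hH hs hso hsπ _ hZ (by
      refine le_trans (by rw [hd.2]; exact hst.le) (Finset.card_le_card (s := d.support) ?_)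
      intro x hx
      exact Finset.mem_filter.2 ⟨Finset.mem_univ _, fun h => h1 ⟨x, hx, h⟩⟩)
    obtain ⟨x, hx⟩ := h4.1.nonempty_support
    exact h5 x hx ⟨c, h3, h4, hx⟩

theorem two_mem (hH : IsPiHallOf π H (alternatingGroup α)) {s t : ℕ}
    (hs : s.Prime) (ht : t.Prime) (hsπ : s ∈ π) (htπ : t ∈ π) (hst : s ≠ t)
    (hsn : s ≤ Fintype.card α) (htn : t ≤ Fintype.card α) : 2 ∈ π := by
  by_contra h2
  rcases lt_or_gt_of_ne hst with h | h
  · exact two_mem_aux hH h2 hs ht hsπ htπ h htn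
  · exact two_mem_aux hH h2 ht hs htπ hsπ h hsn

theorem exists_emb {k : ℕ} {U : Finset α} (h : k ≤ U.card) : ∃ e : Fin k ↪ α, ∀ i, e i ∈ U := by
  obtain ⟨V, hVU, hV⟩ := Finset.exists_subset_card_eq h
  exact ⟨(V.equivFinOfCardEq hV).symm.toEmbedding.trans (Function.Embedding.subtype _),
    fun i => hVU ((V.equivFinOfCardEq hV).symm i).2⟩

theorem out_emb (hH : IsPiHallOf π H (alternatingGroup α)) {p k : ℕ} (hp : p.Prime) (hπ : p ∈ π)
    (Z : α → Prop) [DecidablePred Z] (hZ : ∀ h ∈ H, ∀ x, Z x → Z (h x))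
    {Q : Subgroup (Perm (Fin k))} (hQ : IsPGroup p Q) (hQA : Q ≤ alternatingGroup (Fin k))
    (hc : k ≤ (Finset.univ.filter fun x => ¬ Z x).card) :
    ∃ e : Fin k ↪ α, (∀ i, ¬ Z (e i)) ∧ ∀ q ∈ Q, q.viaEmbedding e ∈ H := by
  obtain ⟨e, he⟩ := exists_emb hc
  obtain ⟨g, hg1, hg2⟩ := out hH hp hπ Z hZ (hQ.map (viaEmbeddingHom e))
    (by rintro _ ⟨q, hq, rfl⟩; exact (CA.SnCyc.altEmb e ⟨q, hQA hq⟩).2)
    (by
      rintro _ ⟨q, -, rfl⟩ x hx
      apply viaEmbedding_apply_of_notMem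
      rintro ⟨i, rfl⟩
      exact (Finset.mem_filter.1 (he i)).2 hx)
  refine ⟨e.trans g.toEmbedding, fun i => ?_, fun q hq => ?_⟩
  · exact fun h => (Finset.mem_filter.1 (he i)).2 ((hg1 (e i)).1 h)
  · convert hg2 _ ⟨q, hq, rfl⟩ using 1
    ext x
    obtain ⟨y, rfl⟩ := g.surjective x
    by_cases hy : y ∈ Set.range e
    · obtain ⟨i, rfl⟩ := hy
      have := viaEmbedding_apply q (e.trans g.toEmbedding) i
      simpa [viaEmbeddingHom_apply, viaEmbedding_apply] using this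
    · rw [viaEmbedding_apply_of_notMem]
      · simp [viaEmbeddingHom_apply, viaEmbedding_apply_of_notMem _ _ _ hy]
      · rintro ⟨i, hi⟩
        exact hy ⟨i, g.injective hi⟩

/-- the Klein four-group in `S₄` -/
def K4 : Subgroup (Perm (Fin 4)) where
  carrier := {g | g * g = 1 ∧ sign g = 1}
  one_mem' := by simp
  mul_mem' := by
    have : ∀ a b : Perm (Fin 4), (a * a = 1 ∧ sign a = 1) → (b * b = 1 ∧ sign b = 1) →
      (a * b * (a * b) = 1 ∧ sign (a * b) = 1) := by decide +kernel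
    exact fun {a b} => this a b
  inv_mem' := fun {a} ha => ⟨by rw [← mul_inv_rev, ha.1, inv_one], by simpa using ha.2⟩

/-- `H` contains a regular four-group on `Y` -/
def V4 (H : Subgroup (Perm α)) (Y : Finset α) : Prop :=
  Y.card = 4 ∧ ∀ w ∈ Y, ∀ u ∈ Y, ∃ x ∈ H, x w = u ∧ x u = w ∧ ∀ z, z ∉ Y → x z = z

theorem V4.map {Y : Finset α} (h : V4 H Y) {g : Perm α} (hg : g ∈ H) :
    V4 H (Y.map g.toEmbedding) := by
  refine ⟨by rw [Finset.card_map]; exact h.1, fun w hw u hu => ?_⟩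
  obtain ⟨w, hw', rfl⟩ := Finset.mem_map.1 hw
  obtain ⟨u, hu', rfl⟩ := Finset.mem_map.1 hu
  obtain ⟨x, hx, h1, h2, h3⟩ := h.2 w hw' u hu'
  refine ⟨g * x * g⁻¹, H.mul_mem (H.mul_mem hg hx) (H.inv_mem hg), by simp [h1], by simp [h2],
    fun z hz => ?_⟩
  obtain ⟨y, rfl⟩ := g.surjective z
  have : y ∉ Y := fun hy => hz (Finset.mem_map.2 ⟨y, hy, rfl⟩)
  simp [h3 y this]

theorem three_dvd {g : Perm α} {w u v : α} (h1 : g w = u) (h2 : g u = v) (h3 : g v = w)
    (hu : u ≠ w) (hv : v ≠ w) : 3 ∣ orderOf g := by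
  have key : ∀ k, (g ^ (3 * k)) w = w := by
    intro k
    induction k with
    | zero => simp
    | succ k ih =>
      rw [mul_add, add_comm, pow_add, mul_apply, ih]
      simp [pow_succ, h1, h2, h3]
  have h4 : (g ^ (orderOf g % 3 + 3 * (orderOf g / 3))) w = w := by
    rw [Nat.mod_add_div, pow_orderOf_eq_one]; rfl
  rw [pow_add, mul_apply, key] at h4
  rcases (by omega : orderOf g % 3 = 0 ∨ orderOf g % 3 = 1 ∨ orderOf g % 3 = 2) with h | h | h
  · exact Nat.dvd_of_mod_eq_zero h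
  · rw [h, pow_one, h1] at h4; exact absurd h4 hu
  · rw [h, pow_two, mul_apply, h1, h2] at h4; exact absurd h4 hv

theorem V4.eq {Y Y' : Finset α} (h3 : ¬ 3 ∣ Nat.card H) (h : V4 H Y) (h' : V4 H Y') {w : α}
    (hw : w ∈ Y) (hw' : w ∈ Y') : Y = Y' := by
  by_contra hne
  obtain ⟨u, hu, hu'⟩ := Finset.not_subset.1 fun hs : Y ⊆ Y' =>
    hne (Finset.eq_of_subset_of_card_le hs (by rw [h.1, h'.1]))
  obtain ⟨v, hv', hv⟩ := Finset.not_subset.1 fun hs : Y' ⊆ Y =>
    hne (Finset.eq_of_subset_of_card_le hs (by rw [h.1, h'.1])).symm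
  obtain ⟨x, hx, x1, x2, x3⟩ := h.2 w hw u hu
  obtain ⟨y, hy, y1, y2, y3⟩ := h'.2 w hw' v hv'
  apply h3
  refine (three_dvd (g := x * y) (w := w) (u := v) (v := u) ?_ ?_ ?_ ?_ ?_).trans
    (Subgroup.orderOf_dvd_natCard H (H.mul_mem hx hy))
  · rw [mul_apply, y1, x3 v hv]
  · rw [mul_apply, y2, x1]
  · rw [mul_apply, y3 u hu', x2]
  · rintro rfl; exact hv hw
  · rintro rfl; exact hu' hw'

theorem three_mem (hH : IsPiHallOf π H (alternatingGroup α)) (h2 : 2 ∈ π) {s : ℕ}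
    (hs : s.Prime) (hsπ : s ∈ π) (hs2 : s ≠ 2) (hn : s ≤ Fintype.card α) : 3 ∈ π := by
  classical
  by_contra h3
  have h5 : 5 ≤ s := hs.five_le_of_ne_two_of_ne_three hs2 fun h => h3 (h ▸ hsπ)
  have h3' : ¬ 3 ∣ Nat.card H := fun h => h3 (hH.2.1 3 Nat.prime_three h)
  obtain ⟨d, hdH, hd⟩ := exists_cy_mem hH hs (hs.odd_of_ne_two hs2) hsπ hn
  by_cases h1 : ∃ x ∈ d.support, ∃ Y, V4 H Y ∧ x ∈ Y
  · obtain ⟨x, hxd, Y, hY, hxY⟩ := h1
    have := hd.block hs hdH (U := Y) (fun g hg y hy hgy z hz => ?_) (by rw [hY.1]; omega) hxY hxd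
    · have := Finset.card_le_card this
      rw [hd.2, hY.1] at this; omega
    · rw [hY.eq h3' (hY.map hg) hgy (Finset.mem_map.2 ⟨y, hy, rfl⟩)]
      exact Finset.mem_map.2 ⟨z, hz, rfl⟩
  · obtain ⟨e, he1, he2⟩ := out_emb hH Nat.prime_two h2 (fun x => ∃ Y, V4 H Y ∧ x ∈ Y)
      (fun h hh x ⟨Y, hY, hx⟩ => ⟨_, hY.map hh, Finset.mem_map.2 ⟨x, hx, rfl⟩⟩) (Q := K4)
      (fun g => ⟨1, Subtype.ext (by simpa [pow_two] using g.2.1)⟩) (fun g hg => hg.2) (by
        refine le_trans (by rw [hd.2]; omega) (Finset.card_le_card (s := d.support) ?_)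
        intro x hx
        exact Finset.mem_filter.2 ⟨Finset.mem_univ _, fun h => h1 ⟨x, hx, h⟩⟩)
    refine he1 0 ⟨Finset.univ.map e, ⟨by simp, fun w hw u hu => ?_⟩, by simp⟩
    obtain ⟨i, -, rfl⟩ := Finset.mem_map.1 hw
    obtain ⟨j, -, rfl⟩ := Finset.mem_map.1 hu
    obtain ⟨q, hq, q1, q2⟩ := (by decide +kernel : ∀ i j : Fin 4, ∃ q : Perm (Fin 4),
      (q * q = 1 ∧ sign q = 1) ∧ q i = j ∧ q j = i) i j
    exact ⟨_, he2 q hq, by rw [viaEmbedding_apply, q1], by rw [viaEmbedding_apply, q2],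
      fun z hz => viaEmbedding_apply_of_notMem _ _ _ (by
        rintro ⟨k, rfl⟩; exact hz (by simp))⟩

end CA.HallSn
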