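import Cfsg.Agent.Lib.Perm.HallSn2

/-! Hall subgroups of alternating groups, part 2: the classes of 3-cycles and counting. -/

set_option autoImplicit false

namespace CA.HallSn

open Equiv Equiv.Perm Cfsg Pointwise CA.PartStab

variable {α : Type*} [Fintype α] [DecidableEq α] {π : Set ℕ} {H : Subgroup (Perm α)}

/-- `H` contains the alternating group of `U` -/
def Full (H : Subgroup (Perm α)) (U : Finset α) : Prop :=
  3 ≤ U.card ∧ ∀ a ∈ U, ∀ b ∈ U, ∀ c ∈ U, ∀ d ∈ U, a ≠ b → c ≠ d → swap a b * swap c d ∈ H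

theorem Full.union {U V : Finset α} (hU : Full H U) (hV : Full H V) {w : α} (hwU : w ∈ U)
    (hwV : w ∈ V) : Full H (U ∪ V) := by
  have ex : ∀ {W : Finset α}, 3 ≤ W.card → ∀ a b : α, ∃ c ∈ W, c ≠ a ∧ c ≠ b := by
    intro W hW a b
    obtain ⟨c, hc, hc'⟩ := Finset.exists_mem_notMem_of_card_lt_card (s := {a, b}) (t := W)
      (lt_of_le_of_lt Finset.card_le_two hW)
    exact ⟨c, hc, by simpa using hc'⟩
  obtain ⟨b, hb, hbw, -⟩ := ex hU.1 w w
  have C1 : ∀ a ∈ U ∪ V, a ≠ w → swap w a * swap w b ∈ H := by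
    intro a ha haw
    by_cases haU : a ∈ U
    · exact hU.2 w hwU a haU w hwU b hb haw.symm hbw.symm
    have haV : a ∈ V := (Finset.mem_union.1 ha).resolve_left haU
    obtain ⟨b', hb', hb'w, hb'a⟩ := ex hV.1 w a
    by_cases hb'U : b' ∈ U
    · have := H.mul_mem (hV.2 w hwV a haV w hwV b' hb' haw.symm hb'w.symm)
        (hU.2 w hwU b' hb'U w hwU b hb hb'w.symm hbw.symm)
      rwa [mul_assoc, swap_mul_self_mul] at this
    obtain ⟨u, hu, huw, hub⟩ := ex hU.1 w b
    have hx := hU.2 b hb u hu w hwU u hu hub.symm huw.symm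
    have hy := hV.2 a haV b' hb' w hwV a haV hb'a.symm haw.symm
    have hau : a ≠ u := fun h => haU (h ▸ hu)
    have hab : a ≠ b := fun h => haU (h ▸ hb)
    have hb'u : b' ≠ u := fun h => hb'U (h ▸ hu)
    have hb'b : b' ≠ b := fun h => hb'U (h ▸ hb)
    set x := swap b u * swap w u with hxdef
    have x1 : x w = b := by simp [hxdef]
    have x2 : x a = a := by simp [hxdef, swap_apply_of_ne_of_ne, haw, hau, hab]
    have x3 : x b' = b' := by simp [hxdef, swap_apply_of_ne_of_ne, hb'w, hb'u, hb'b]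
    have h1 := H.mul_mem (H.inv_mem hy) (H.mul_mem (H.mul_mem hx hy) (H.inv_mem hx))
    have e1 : x * (swap a b' * swap w a) * x⁻¹ = swap a b' * swap b a := by
      have e2 := swap_apply_apply x a b'
      have e3 := swap_apply_apply x w a
      rw [x2, x3] at e2
      rw [x1, x2] at e3
      rw [e3]
      conv_rhs => rw [e2]
      group
    rw [e1, mul_inv_rev, swap_inv, swap_inv, mul_assoc, swap_mul_self_mul] at h1
    have e4 : swap w a * swap w b = (swap w a * swap b a)⁻¹ := by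
      rw [mul_inv_rev, swap_inv, swap_inv, mul_swap_eq_swap_mul (swap w a) w b,
        swap_apply_left, swap_apply_of_ne_of_ne hbw hab.symm, swap_comm a b]
    rw [e4]; exact H.inv_mem h1
  have C2 : ∀ a ∈ U ∪ V, ∀ c ∈ U ∪ V, a ≠ c → swap a c * swap w b ∈ H := by
    intro a ha c hc hac
    by_cases haw : a = w
    · rw [haw] at hac ⊢; exact C1 c hc hac.symm
    by_cases hcw : c = w
    · rw [hcw, swap_comm]; exact C1 a ha haw
    have := H.mul_mem (H.mul_mem (C1 a ha haw) (H.inv_mem (C1 c hc hcw))) (C1 a ha haw)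
    convert this using 1
    have e := swap_apply_apply (swap w a) w c
    rw [swap_apply_left, swap_apply_of_ne_of_ne hcw (Ne.symm hac), swap_inv] at e
    rw [e, mul_inv_rev, swap_inv, swap_inv]
    simp only [mul_assoc, swap_mul_self_mul]
  refine ⟨hU.1.trans (Finset.card_le_card Finset.subset_union_left),
    fun a ha c hc a' ha' c' hc' h h' => ?_⟩
  have := H.mul_mem (C2 a ha c hc h) (H.inv_mem (C2 a' ha' c' hc' h'))
  rwa [mul_inv_rev, swap_inv, swap_inv, mul_assoc, swap_mul_self_mul] at this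

theorem Full.mem {U : Finset α} (hU : Full H U) (N : ℕ) : ∀ g : Perm α, g.support.card = N →
    g.support ⊆ U → (sign g = 1 → g ∈ H) ∧
      (sign g = -1 → ∀ a ∈ U, ∀ b ∈ U, a ≠ b → swap a b * g ∈ H) := by
  induction N using Nat.strong_induction_on with
  | _ N ih =>
  intro g hN hg
  by_cases h1 : g = 1
  · subst h1
    exact ⟨fun _ => H.one_mem, fun h => by simp at h⟩
  obtain ⟨x, hx⟩ : ∃ x, g x ≠ x := by
    by_contra h; push Not at h; exact h1 (Equiv.ext h)
  have hxU : x ∈ U := hg (mem_support.2 hx)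
  have hgxU : g x ∈ U := hg (apply_mem_support.2 (mem_support.2 hx))
  obtain ⟨i1, i2⟩ := ih _ (hN ▸ card_support_swap_mul hx) (swap x (g x) * g) rfl
    (fun z hz => hg (mem_support_swap_mul_imp_mem_support_ne hz).1)
  rw [Perm.sign_mul, sign_swap hx.symm] at i1 i2
  refine ⟨fun h => ?_, fun h a ha b hb hab => ?_⟩
  · have := i2 (by rw [h]; rfl) x hxU _ hgxU hx.symm
    rwa [swap_mul_self_mul] at this
  · have := H.mul_mem (hU.2 a ha b hb x hxU _ hgxU hab hx.symm) (i1 (by rw [h]; rfl))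
    rwa [mul_assoc, swap_mul_self_mul] at this

theorem Full.prime_mem (hH : IsPiHallOf π H (alternatingGroup α)) (h2 : 2 ∈ π) {U : Finset α}
    (hU : Full H U) {t : ℕ} (ht : t.Prime) (h : t ≤ U.card) : t ∈ π := by
  rcases ht.eq_two_or_odd' with rfl | ho
  · exact h2
  obtain ⟨c, hc, hcU⟩ := exists_cy ht.two_le h
  exact hH.2.1 t ht (hc.orderOf ▸ Subgroup.orderOf_dvd_natCard H
    ((hU.mem _ c rfl hcU).1 (hc.alt ho)))

theorem Full.map {U : Finset α} (hU : Full H U) {g : Perm α} (hg : ∀ h ∈ H, g * h * g⁻¹ ∈ H) :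
    Full H (U.map g.toEmbedding) := by
  refine ⟨by rw [Finset.card_map]; exact hU.1, fun a ha b hb c hc d hd hab hcd => ?_⟩
  obtain ⟨a, ha', rfl⟩ := Finset.mem_map.1 ha
  obtain ⟨b, hb', rfl⟩ := Finset.mem_map.1 hb
  obtain ⟨c, hc', rfl⟩ := Finset.mem_map.1 hc
  obtain ⟨d, hd', rfl⟩ := Finset.mem_map.1 hd
  have := hg _ (hU.2 a ha' b hb' c hc' d hd' (fun h => hab (h ▸ rfl)) (fun h => hcd (h ▸ rfl)))
  convert this using 1
  simp only [Equiv.coe_toEmbedding, swap_apply_apply]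
  group

/-- connected through 3-cycles of `H` -/
def R (H : Subgroup (Perm α)) (x y : α) : Prop := x = y ∨ ∃ U, Full H U ∧ x ∈ U ∧ y ∈ U

theorem R.symm {x y : α} (h : R H x y) : R H y x :=
  h.elim (fun h => Or.inl h.symm) fun ⟨U, h1, h2, h3⟩ => Or.inr ⟨U, h1, h3, h2⟩

theorem R.trans {x y z : α} (h : R H x y) (h' : R H y z) : R H x z := by
  rcases h with rfl | ⟨U, h1, h2, h3⟩
  · exact h'
  rcases h' with rfl | ⟨V, h4, h5, h6⟩
  · exact Or.inr ⟨U, h1, h2, h3⟩
  exact Or.inr ⟨U ∪ V, h1.union h4 h3 h5, Finset.mem_union_left _ h2, Finset.mem_union_right _ h6⟩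

open Classical in
/-- the class of a point -/
noncomputable def cl (H : Subgroup (Perm α)) (x : α) : Finset α := Finset.univ.filter (R H x)

theorem mem_cl {x y : α} : y ∈ cl H x ↔ R H x y := by simp [cl]

theorem self_mem_cl (x : α) : x ∈ cl H x := mem_cl.2 (Or.inl rfl)

theorem cl_eq {x y : α} : cl H x = cl H y ↔ R H x y :=
  ⟨fun h => mem_cl.1 (h ▸ self_mem_cl y), fun h => Finset.ext fun z => by
    rw [mem_cl, mem_cl]; exact ⟨h.symm.trans, h.trans⟩⟩

theorem cl_full {x : α} {U : Finset α} (hU : Full H U) (hx : x ∈ U) : Full H (cl H x) := by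
  have key : ∀ a ∈ cl H x, ∃ V, Full H V ∧ x ∈ V ∧ a ∈ V := fun a ha =>
    (mem_cl.1 ha).elim (fun h => ⟨U, hU, hx, h ▸ hx⟩) id
  refine ⟨hU.1.trans (Finset.card_le_card fun y hy => mem_cl.2 (Or.inr ⟨U, hU, hx, hy⟩)),
    fun a ha b hb c hc d hd => ?_⟩
  obtain ⟨A, a1, a2, a3⟩ := key a ha
  obtain ⟨B, b1, b2, b3⟩ := key b hb
  obtain ⟨C, c1, c2, c3⟩ := key c hc
  obtain ⟨D, d1, d2, d3⟩ := key d hd
  exact (((a1.union b1 a2 b2).union c1 (w := x) (by simp [a2]) c2).union d1 (w := x)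
    (by simp [a2]) d2).2 a (by simp [a3]) b (by simp [b3]) c (by simp [c3]) d (by simp [d3])

theorem cl_cases (x : α) : (cl H x = {x} ∧ ¬ ∃ U, Full H U ∧ x ∈ U) ∨ Full H (cl H x) := by
  by_cases h : ∃ U, Full H U ∧ x ∈ U
  · obtain ⟨U, h1, h2⟩ := h; exact Or.inr (cl_full h1 h2)
  · refine Or.inl ⟨Finset.eq_singleton_iff_unique_mem.2 ⟨self_mem_cl x, fun y hy => ?_⟩, h⟩
    rcases mem_cl.1 hy with h1 | ⟨U, h1, h2, -⟩
    · exact h1.symm
    · exact absurd ⟨U, h1, h2⟩ h

theorem norm_le : Subgroup.normalizer (H : Set (Perm α)) ≤ P (cl H) := by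
  have key : ∀ g : Perm α, (∀ h ∈ H, g * h * g⁻¹ ∈ H) → ∀ x y, R H x y → R H (g x) (g y) := by
    rintro g hg x y (rfl | ⟨U, h1, h2, h3⟩)
    · exact Or.inl rfl
    · exact Or.inr ⟨_, h1.map hg, Finset.mem_map.2 ⟨x, h2, rfl⟩, Finset.mem_map.2 ⟨y, h3, rfl⟩⟩
  intro g hg x y
  rw [cl_eq, cl_eq]
  refine ⟨key g (fun h hh => (Subgroup.mem_normalizer_iff.1 hg h).1 hh) x y, fun h => ?_⟩
  simpa using key g⁻¹ (fun h hh =>
    (Subgroup.mem_normalizer_iff.1 (Subgroup.inv_mem _ hg) h).1 hh) _ _ h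

theorem cl_map {g : Perm α} (hg : g ∈ P (cl H)) (x : α) :
    cl H (g x) = (cl H x).map g.toEmbedding := by
  ext z
  obtain ⟨y, rfl⟩ := g.surjective z
  rw [mem_cl, ← cl_eq, ← mem_P.1 hg, cl_eq, ← mem_cl]
  exact (Finset.mem_map' g.toEmbedding).symm

theorem via_swap {k : ℕ} (e : Fin k ↪ α) (i j : Fin k) :
    (swap i j).viaEmbedding e = swap (e i) (e j) := by
  ext x
  by_cases hx : x ∈ Set.range e
  · obtain ⟨l, rfl⟩ := hx
    rw [viaEmbedding_apply, e.injective.swap_apply]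
  · rw [viaEmbedding_apply_of_notMem _ _ _ hx, swap_apply_of_ne_of_ne]
    · rintro rfl; exact hx ⟨i, rfl⟩
    · rintro rfl; exact hx ⟨j, rfl⟩

open Classical in
theorem few (hH : IsPiHallOf π H (alternatingGroup α)) (h3 : 3 ∈ π) :
    (Finset.univ.filter fun x => ¬ ∃ U, Full H U ∧ x ∈ U).card ≤ 2 := by
  by_contra hc
  obtain ⟨e, he1, he2⟩ := out_emb hH Nat.prime_three h3 (fun x => ∃ U, Full H U ∧ x ∈ U)
    (fun h hh x ⟨U, hU, hx⟩ => ⟨_, hU.map fun k hk =>
      H.mul_mem (H.mul_mem hh hk) (H.inv_mem hh), Finset.mem_map.2 ⟨x, hx, rfl⟩⟩)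
    (Q := alternatingGroup (Fin 3)) (IsPGroup.of_card (n := 1) (by
      rw [nat_card_alternatingGroup]; simp [Nat.factorial])) le_rfl (by omega)
  refine he1 0 ⟨Finset.univ.map e, ⟨by simp, fun a ha b hb c hc d hd hab hcd => ?_⟩, by simp⟩
  obtain ⟨a, -, rfl⟩ := Finset.mem_map.1 ha
  obtain ⟨b, -, rfl⟩ := Finset.mem_map.1 hb
  obtain ⟨c, -, rfl⟩ := Finset.mem_map.1 hc
  obtain ⟨d, -, rfl⟩ := Finset.mem_map.1 hd
  have := he2 (swap a b * swap c d) (by
    rw [mem_alternatingGroup, Perm.sign_mul, sign_swap (fun h : a = b => hab (congrArg e h)),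
      sign_swap (fun h : c = d => hcd (congrArg e h))]; rfl)
  rwa [← viaEmbeddingHom_apply, map_mul, viaEmbeddingHom_apply, viaEmbeddingHom_apply,
    via_swap, via_swap] at this

theorem relIndex_alt {M : Subgroup (Perm α)} {t : Perm α} (ht : t ∈ M) (hs : sign t = -1) :
    M.relIndex (alternatingGroup α) = M.index := by
  have hA : t ∉ alternatingGroup α := by rw [mem_alternatingGroup, hs]; decide
  have hnt : Nontrivial α := by
    by_contra h
    rw [not_nontrivial_iff_subsingleton] at h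
    exact hA (by rw [Subsingleton.elim t 1]; exact one_mem _)
  have h1 : M ⊔ alternatingGroup α = ⊤ := by
    rw [eq_top_iff]
    intro g _
    rcases Int.units_eq_one_or (sign g) with h | h
    · exact Subgroup.mem_sup_right h
    · have : g = t * (t⁻¹ * g) := by group
      rw [this]
      exact Subgroup.mul_mem_sup ht (by rw [mem_alternatingGroup, Perm.sign_mul, Perm.sign_inv, hs, h]; rfl)
  have h2 := Subgroup.relIndex_sup_right M (alternatingGroup α)
  rw [h1, Subgroup.relIndex_top_right] at h2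
  have h3 := Subgroup.relIndex_mul_index (inf_le_left : M ⊓ alternatingGroup α ≤ M)
  have h4 := Subgroup.relIndex_mul_index
    (inf_le_right : M ⊓ alternatingGroup α ≤ alternatingGroup α)
  rw [Subgroup.inf_relIndex_left, ← h2] at h3
  rw [Subgroup.inf_relIndex_right, ← h3, mul_comm] at h4
  exact Nat.eq_of_mul_eq_mul_left (Nat.pos_of_ne_zero Subgroup.index_ne_zero_of_finite) h4

theorem card_dvd_opt {ι : Type*} [Fintype ι] [DecidableEq ι] (f : α → Option ι)
    (K : Subgroup (Perm α)) (hK : ∀ g ∈ K, ∀ i : ι, ∃ j : ι, ∀ x, f x = some i ↔ f (g x) = some j)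
    (hs : ∀ i, ∃ x, f x = some i) :
    Nat.card K ∣ (Fintype.card ι).factorial *
      ∏ o, (Finset.univ.filter fun a => f a = o).card.factorial := by
  choose s hs' using hK
  have uniq : ∀ g hg i j x, f x = some i → f (g x) = some j → s g hg i = j := fun g hg i j x h1 h2 =>
    Option.some.inj (((hs' g hg i x).1 h1).symm.trans h2)
  letI : MulAction K ι :=
    { smul := fun g i => s g g.2 i
      one_smul := fun i => by
        obtain ⟨x, hx⟩ := hs i
        exact uniq _ _ i i x hx hx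
      mul_smul := fun g h i => by
        obtain ⟨x, hx⟩ := hs i
        exact uniq _ _ i _ x hx ((hs' g g.2 _ _).1 ((hs' h h.2 i x).1 hx)) }
  let φ := MulAction.toPermHom K ι
  have h1 : φ.ker.index ∣ (Fintype.card ι).factorial := by
    rw [Subgroup.index_ker, ← Fintype.card_perm, ← Nat.card_eq_fintype_card]
    exact Subgroup.card_subgroup_dvd_card _
  have h2 : φ.ker.map K.subtype ≤ Fx f := by
    rintro _ ⟨g, hg, rfl⟩ x
    have h3 : ∀ i, s g g.2 i = i := fun i => congrArg (fun e : Perm ι => e i) hg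
    rcases h4 : f x with _ | i
    · rcases h5 : f (g.1 x) with _ | j
      · exact h5
      · have := (hs' g g.2 j x).2 (by rw [h3]; exact h5)
        rw [h4] at this; cases this
    · have := (hs' g g.2 i x).1 h4
      rwa [h3] at this
  have h3 := Subgroup.card_dvd_of_le h2
  rw [Subgroup.card_map_of_injective K.subtype_injective, card_Fx] at h3
  rw [← φ.ker.index_mul_card]
  exact Nat.mul_dvd_mul h1 h3

theorem dvd_index {M : Subgroup (Perm α)} {X D : ℕ} (h1 : Nat.card M ∣ D)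
    (h2 : X * D = (Fintype.card α).factorial) : X ∣ M.index := by
  obtain ⟨c, rfl⟩ := h1
  have h3 := M.index_mul_card
  rw [Nat.card_perm, Nat.card_eq_fintype_card (α := α), ← h2] at h3
  refine ⟨c, Nat.eq_of_mul_eq_mul_right (Nat.card_pos (α := M)) ?_⟩
  rw [h3]; ring

theorem choose_dvd_index {M : Subgroup (Perm α)} {Y Z : Finset α} (hYZ : Disjoint Y Z)
    (hY : ∀ g ∈ M, ∀ x, g x ∈ Y ↔ x ∈ Y) (hZ : ∀ g ∈ M, ∀ x, g x ∈ Z ↔ x ∈ Z) :
    (Y.card + Z.card).choose Z.card ∣ M.index := by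
  let f : α → Option Bool := fun x => if x ∈ Y then some true else if x ∈ Z then some false else none
  have h1 : M ≤ Fx f := fun g hg x => by simp only [f, hY g hg x, hZ g hg x]
  have h2 := Subgroup.card_dvd_of_le h1
  rw [card_Fx, Fintype.prod_option, Fintype.prod_bool] at h2
  have e1 : (Finset.univ.filter fun a => f a = some true) = Y := by
    ext x; by_cases hx : x ∈ Y <;> by_cases hx' : x ∈ Z <;> simp [f, hx, hx']
  have e2 : (Finset.univ.filter fun a => f a = some false) = Z := by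
    ext x; by_cases hx : x ∈ Y <;> by_cases hx' : x ∈ Z <;> simp [f, hx, hx']
    exact Finset.disjoint_left.1 hYZ hx hx'
  have e3 : (Finset.univ.filter fun a => f a = none) = (Y ∪ Z)ᶜ := by
    ext x; by_cases hx : x ∈ Y <;> by_cases hx' : x ∈ Z <;> simp [f, hx, hx']
  rw [e1, e2, e3, Finset.card_compl, Finset.card_union_of_disjoint hYZ] at h2
  have hle : Y.card + Z.card ≤ Fintype.card α := by
    rw [← Finset.card_union_of_disjoint hYZ]; exact Finset.card_le_univ _
  refine (Dvd.intro_left ((Fintype.card α).choose (Y.card + Z.card)) rfl).trans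
    (dvd_index h2 ?_)
  rw [← Nat.choose_mul_factorial_mul_factorial hle,
    ← Nat.add_choose_mul_factorial_mul_factorial Y.card Z.card]
  ring

/-- the points whose class has `s` elements -/
noncomputable def Ys (H : Subgroup (Perm α)) (s : ℕ) : Finset α :=
  Finset.univ.filter fun x => (cl H x).card = s

theorem mem_Ys {s : ℕ} {x : α} : x ∈ Ys H s ↔ (cl H x).card = s := by simp [Ys]

theorem Ys_inv (s : ℕ) : ∀ g ∈ P (cl H), ∀ x, g x ∈ Ys H s ↔ x ∈ Ys H s := fun g hg x => by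
  rw [mem_Ys, mem_Ys, cl_map hg, Finset.card_map]

theorem bell_dvd_index {s : ℕ} (hs : s ≠ 0) :
    ∃ k, (Ys H s).card = k * s ∧ Nat.uniformBell k s ∣ (P (cl H)).index := by
  let C : Finset (Finset α) := (Ys H s).image (cl H)
  let f : α → Option C := fun x =>
    if h : x ∈ Ys H s then some ⟨cl H x, Finset.mem_image_of_mem _ h⟩ else none
  have hf : ∀ x (U : C), f x = some U ↔ x ∈ U.1 := by
    rintro x ⟨U, hU⟩
    obtain ⟨y, hy, rfl⟩ := Finset.mem_image.1 hU
    by_cases hx : x ∈ Ys H s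
    · simp only [f, dif_pos hx, Option.some.injEq, Subtype.mk.injEq, cl_eq, mem_cl]
      exact ⟨R.symm, R.symm⟩
    · simp only [f, dif_neg hx, mem_cl, reduceCtorEq, false_iff]
      intro h
      exact hx (mem_Ys.2 (by rw [← cl_eq.2 h]; exact mem_Ys.1 hy))
  have hcard : ∀ U : C, U.1.card = s := by
    rintro ⟨U, hU⟩
    obtain ⟨y, hy, rfl⟩ := Finset.mem_image.1 hU
    exact mem_Ys.1 hy
  have h1 := card_dvd_opt f (P (cl H)) (fun g hg U => by
    obtain ⟨U, hU⟩ := U
    obtain ⟨y, hy, rfl⟩ := Finset.mem_image.1 hU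
    refine ⟨⟨cl H (g y), Finset.mem_image_of_mem _ ((Ys_inv s g hg y).2 hy)⟩, fun x => ?_⟩
    rw [hf, hf]
    change x ∈ cl H y ↔ g x ∈ cl H (g y)
    rw [cl_map hg]
    exact (Finset.mem_map' g.toEmbedding).symm) (fun U => by
      obtain ⟨U, hU⟩ := U
      obtain ⟨y, hy, rfl⟩ := Finset.mem_image.1 hU
      exact ⟨y, (hf _ _).2 (self_mem_cl y)⟩)
  have e1 : ∀ U : C, (Finset.univ.filter fun a => f a = some U).card = s := fun U => by
    rw [← hcard U]; congr 1; ext x; simp [hf]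
  have e2 : (Finset.univ.filter fun a => f a = none) = (Ys H s)ᶜ := by
    ext x; by_cases hx : x ∈ Ys H s <;> simp [f, hx]
  have e3 : (Ys H s).card = C.card * s := by
    rw [Finset.card_eq_sum_card_image (cl H), ← smul_eq_mul, ← Finset.sum_const]
    refine Finset.sum_congr rfl fun U hU => ?_
    rw [← hcard ⟨U, hU⟩]
    congr 1; ext x
    obtain ⟨y, hy, rfl⟩ := Finset.mem_image.1 hU
    simp only [Finset.mem_filter, cl_eq, mem_cl]
    exact ⟨fun h => h.2.symm, fun h =>
      ⟨mem_Ys.2 (by rw [← cl_eq.2 h]), h.symm⟩⟩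
  rw [Fintype.prod_option, e2, Finset.prod_congr rfl fun U _ => congrArg Nat.factorial (e1 U),
    Finset.prod_const, Finset.card_univ, Fintype.card_coe, Finset.card_compl, e3] at h1
  have hle : C.card * s ≤ Fintype.card α := e3 ▸ Finset.card_le_univ _
  refine ⟨C.card, e3, (Dvd.intro_left ((Fintype.card α).choose (C.card * s)) rfl).trans
    (dvd_index h1 ?_)⟩
  rw [← Nat.choose_mul_factorial_mul_factorial hle, ← Nat.uniformBell_mul_eq _ hs]
  ring

theorem bell_mono {j k : ℕ} (h : j ≤ k) (s : ℕ) : Nat.uniformBell j s ∣ Nat.uniformBell k s := by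
  rw [Nat.uniformBell_eq, Nat.uniformBell_eq]
  exact Finset.prod_dvd_prod_of_subset _ _ _ (Finset.range_mono h)

end CA.HallSn
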