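import Cfsg.Agent.Lib.Perm.HallSn3

/-! Hall subgroups of alternating and symmetric groups: the classification. -/

set_option autoImplicit false

namespace CA.HallSn

open Equiv Equiv.Perm Cfsg Pointwise CA.PartStab

variable {α : Type*} [Fintype α] [DecidableEq α] {π : Set ℕ} {H : Subgroup (Perm α)}

/-- the stabilizer of the partition `{B, Bᶜ}` -/
def W (B : Finset α) : Subgroup (Perm α) := P fun x => decide (x ∈ B)

omit [Fintype α] in
theorem mem_W {B : Finset α} {g : Perm α} :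
    g ∈ W B ↔ ∀ x y, (x ∈ B ↔ y ∈ B) ↔ (g x ∈ B ↔ g y ∈ B) := by
  simp only [W, mem_P, decide_eq_decide]

omit [Fintype α] in
theorem mem_W_of {B : Finset α} {g : Perm α} (h : ∀ x, g x ∈ B ↔ x ∈ B) : g ∈ W B :=
  mem_W.2 fun x y => by rw [h, h]

/-- the three exceptional situations -/
def Ex (π : Set ℕ) (n m : ℕ) : Prop :=
  (m = 1 ∧ n.Prime ∧ ∀ r : ℕ, r.Prime → r ≤ n → (r ∈ π ↔ r < n)) ∨
  (((n = 7 ∧ m = 3) ∨ (n = 8 ∧ m = 4)) ∧ ∀ r : ℕ, r.Prime → r ≤ n → (r ∈ π ↔ (r = 2 ∨ r = 3)))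

/-- `π` contains at least two but not all primes `≤ n` -/
def NT (π : Set ℕ) (n : ℕ) : Prop :=
  (∃ r s : ℕ, r.Prime ∧ s.Prime ∧ r ≠ s ∧ r ∈ π ∧ s ∈ π ∧ r ≤ n ∧ s ≤ n) ∧
    ∃ r : ℕ, r.Prime ∧ r ≤ n ∧ r ∉ π

theorem NT.five {n : ℕ} (h : NT π n) : 5 ≤ n := by
  obtain ⟨⟨r, s, hr, hs, hrs, hrπ, hsπ, hrn, hsn⟩, t, ht, htn, htπ⟩ := h
  by_contra h5
  have key : ∀ p : ℕ, p.Prime → p ≤ n → p = 2 ∨ p = 3 := fun p hp hpn => by
    have := hp.two_le
    have h4 : p ≠ 4 := by rintro rfl; exact absurd hp (by norm_num)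
    omega
  have h1 : t ≠ r := fun h => htπ (h ▸ hrπ)
  have h2 : t ≠ s := fun h => htπ (h ▸ hsπ)
  have := key r hr hrn; have := key s hs hsn; have := key t ht htn
  omega

theorem main (hH : IsPiHallOf π H (alternatingGroup α)) (hN : NT π (Fintype.card α)) :
    ∃ B : Finset α, Ex π (Fintype.card α) B.card ∧
      Subgroup.normalizer (H : Set (Perm α)) ≤ W B := by
  classical
  have h5 := hN.five
  obtain ⟨⟨s, t, hs, ht, hst, hsπ, htπ, hsn, htn⟩, r, hr, hrn, hrπ⟩ := hN
  have h2 : 2 ∈ π := two_mem hH hs ht hsπ htπ hst hsn htn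
  have h3 : 3 ∈ π := by
    by_cases h : s = 2
    · exact three_mem hH h2 ht htπ (fun h' => hst (h.trans h'.symm)) htn
    · exact three_mem hH h2 hs hsπ h hsn
  have hfew := few hH h3
  have hY1 : (Ys H 1).card ≤ 2 := le_trans (Finset.card_le_card fun x hx => by
    refine Finset.mem_filter.2 ⟨Finset.mem_univ _, ?_⟩
    rcases cl_cases (H := H) x with h | h
    · exact h.2
    · have := h.1; rw [mem_Ys.1 hx] at this; omega) hfew
  have hsz : ∀ x, (cl H x).card = 1 ∨ 3 ≤ (cl H x).card := fun x =>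
    (cl_cases (H := H) x).imp (fun h => by rw [h.1]; rfl) fun h => h.1
  haveI : Nonempty α := Fintype.card_pos_iff.1 (by omega)
  obtain ⟨x₀, -, hx₀⟩ := Finset.exists_max_image Finset.univ (fun x => (cl H x).card)
    Finset.univ_nonempty
  set a := (cl H x₀).card with ha
  have hmax : ∀ x, (cl H x).card ≤ a := fun x => hx₀ x (Finset.mem_univ _)
  have ha3 : 3 ≤ a := by
    by_contra h
    have : Ys H 1 = Finset.univ := Finset.eq_univ_of_forall fun x => mem_Ys.2 (by
      have := hsz x; have := hmax x; omega)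
    rw [this, Finset.card_univ] at hY1; omega
  have hU : Full H (cl H x₀) := (cl_cases x₀).resolve_left fun h => by
    rw [h.1] at ha; simp at ha; omega
  have hπa : ∀ p : ℕ, p.Prime → p ≤ a → p ∈ π := fun p hp h => hU.prime_mem hH h2 hp h
  have han : a < Fintype.card α := by
    by_contra h
    exact hrπ (hπa r hr (by omega))
  have hidx : ∀ p : ℕ, p.Prime → p ∈ π → ¬ p ∣ (P (cl H)).index := by
    intro p hp hπ hd
    obtain ⟨y, hy, hyx⟩ := Finset.exists_mem_ne (by omega : 1 < (cl H x₀).card) x₀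
    rw [← relIndex_alt (swap_mem (f := cl H) (cl_eq.2 (mem_cl.1 hy))) (sign_swap hyx.symm)] at hd
    exact hH.2.2 p hp hπ (hd.trans (Subgroup.relIndex_dvd_of_le_left _
      (Subgroup.le_normalizer.trans norm_le)))
  have N1 : ∀ {Y Z : Finset α}, Disjoint Y Z → (∀ g ∈ P (cl H), ∀ x, g x ∈ Y ↔ x ∈ Y) →
      (∀ g ∈ P (cl H), ∀ x, g x ∈ Z ↔ x ∈ Z) →
      ∀ p : ℕ, p.Prime → p ∈ π → ¬ p ∣ (Y.card + Z.card).choose Z.card :=
    fun h1 h2 h3 p hp hπ hd => hidx p hp hπ (hd.trans (choose_dvd_index h1 h2 h3))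
  have hdis : ∀ {i j : ℕ}, i ≠ j → Disjoint (Ys H i) (Ys H j) := fun h =>
    Finset.disjoint_left.2 fun x h1 h2 => h ((mem_Ys.1 h1).symm.trans (mem_Ys.1 h2))
  have N2 : ∀ s, 3 ≤ s → s ≤ a → (Ys H s).card = 0 ∨ (Ys H s).card = s ∨
      (s = 4 ∧ (Ys H s).card = 8 ∧ 5 ∉ π ∧ 7 ∉ π) := by
    intro s hs hsa
    obtain ⟨k, hk, hb⟩ := bell_dvd_index (H := H) (s := s) (by omega)
    rcases (by omega : k = 0 ∨ k = 1 ∨ 2 ≤ k) with rfl | rfl | hk2
    · left; simpa using hk
    · right; left; simpa using hk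
    have h1 := (bell_mono hk2 s).trans hb
    rw [Nat.uniformBell_succ_left, Nat.uniformBell_one_left, mul_one, one_mul,
      show s + s - 1 = s + (s - 1) by omega] at h1
    obtain ⟨rfl, -⟩ := choose_core (a := s) (m := s - 1) (by omega) (by omega)
      fun p hp hps hd => hidx p hp (hπa p hp (by omega)) (hd.trans h1)
    have hk3 : k = 2 := by
      by_contra h
      refine hidx 3 Nat.prime_three h3 (Dvd.dvd.trans ?_ ((bell_mono (by omega : 3 ≤ k) 4).trans hb))
      rw [Nat.uniformBell_succ_left]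
      exact Dvd.dvd.mul_right (by decide) _
    exact Or.inr (Or.inr ⟨rfl, by rw [hk, hk3],
      fun h => hidx 5 (by norm_num) h (Dvd.dvd.trans (by decide) h1),
      fun h => hidx 7 (by norm_num) h (Dvd.dvd.trans (by decide) h1)⟩)
  have hYa : (Ys H a).card ≠ 0 := Finset.card_ne_zero.2 ⟨x₀, mem_Ys.2 rfl⟩
  have hc := N1 (Y := Ys H a) (Z := (Ys H a)ᶜ) disjoint_compl_right (Ys_inv a)
    (fun g hg x => by rw [Finset.mem_compl, Finset.mem_compl, Ys_inv a g hg])
  have hWc : Subgroup.normalizer (H : Set (Perm α)) ≤ W (Ys H a)ᶜ := fun g hg =>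
    mem_W_of fun x => by rw [Finset.mem_compl, Finset.mem_compl, Ys_inv a g (norm_le hg)]
  have hcc := Finset.card_add_card_compl (Ys H a)
  have two3 : ∀ {n : ℕ}, n ≤ 8 → 5 ∉ π → 7 ∉ π →
      ∀ r : ℕ, r.Prime → r ≤ n → (r ∈ π ↔ (r = 2 ∨ r = 3)) := by
    intro n hn h5 h7 r hr hrn
    refine ⟨fun h => ?_, by rintro (rfl | rfl) <;> assumption⟩
    have := hr.two_le
    have : r ≤ 8 := by omega
    interval_cases r <;> first | omega | exact absurd h ‹_› | exact absurd hr (by norm_num)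
  have one : (Ys H a).card = a → (Ys H a)ᶜ.card = 1 → Ex π (Fintype.card α) (Ys H a)ᶜ.card := by
    intro h1 h2
    have hra : r = Fintype.card α := by
      by_contra h
      exact hrπ (hπa r hr (by omega))
    refine Or.inl ⟨h2, hra ▸ hr, fun p hp hpn => ⟨fun h => lt_of_le_of_ne hpn ?_, fun h =>
      hπa p hp (by omega)⟩⟩
    rintro rfl; exact hrπ (hra ▸ h)
  -- the complement of `Ys a` is covered by the smaller classes
  have hcov : ∀ T : Finset ℕ, (∀ s, 3 ≤ s → s < a → s ∉ T → (Ys H s).card = 0) →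
      (Ys H a)ᶜ.card ≤ 2 + ∑ s ∈ T, (Ys H s).card := by
    intro T hT
    refine le_trans (Finset.card_le_card (t := Ys H 1 ∪ T.biUnion (Ys H)) fun x hx => ?_)
      ((Finset.card_union_le _ _).trans (add_le_add hY1 Finset.card_biUnion_le))
    rw [Finset.mem_compl, mem_Ys] at hx
    rcases hsz x with h | h
    · exact Finset.mem_union_left _ (mem_Ys.2 h)
    · refine Finset.mem_union_right _ (Finset.mem_biUnion.2 ⟨_, ?_, mem_Ys.2 rfl⟩)
      by_contra h'
      exact Finset.card_ne_zero.2 ⟨x, mem_Ys.2 rfl⟩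
        (hT _ h (lt_of_le_of_ne (hmax x) hx) h')
  rcases (by omega : a = 3 ∨ a = 4 ∨ 5 ≤ a) with h | h | h
  · exfalso
    have h1 := hcov ∅ fun s h1 h2 _ => by omega
    have h4 := N2 a ha3 le_rfl
    have h6 := hc 2 Nat.prime_two h2
    rw [show (Ys H a).card = 3 by omega, show (Ys H a)ᶜ.card = 2 by simp at h1; omega] at h6
    exact h6 (by decide)
  · have h1 := hcov {3} fun s h1 h2 h3 => by simp at h3; omega
    have h4 := N2 3 le_rfl ha3
    rw [Finset.sum_singleton] at h1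
    have h6 := hc 2 Nat.prime_two h2
    have h7 := hc 3 Nat.prime_three h3
    have h8 := fun h => hc 5 (by norm_num) h
    have h9 := fun h => hc 7 (by norm_num) h
    have hle : (Ys H a)ᶜ.card ≤ 5 := by omega
    rcases N2 a ha3 le_rfl with h10 | h10 | ⟨-, h10, h11, h12⟩
    · exact absurd h10 hYa
    · by_cases h11 : (Ys H a)ᶜ.card = 1
      · exact ⟨_, one h10 h11, hWc⟩
      have h10' : (Ys H a).card = 4 := h10.trans h
      rw [h10'] at h6 h7 h8 h9 hcc
      have h12 : (Ys H a)ᶜ.card = 3 := by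
        have aux : ∀ c, c ≤ 5 → c ≠ 0 → c ≠ 1 → ¬ 2 ∣ (4 + c).choose c → ¬ 3 ∣ (4 + c).choose c →
            c = 3 := by decide
        exact aux _ hle (by omega) h11 h6 h7
      rw [h12] at h8 h9 hcc
      exact ⟨_, Or.inr ⟨Or.inl ⟨by omega, h12⟩, two3 (by omega) (fun h => h8 h (by decide))
        fun h => h9 h (by decide)⟩, hWc⟩
    · have h13 : (Ys H a)ᶜ.card = 0 := by
        rw [h10] at h7
        generalize (Ys H a)ᶜ.card = c at *
        interval_cases c <;> first | rfl | exact absurd (by decide) h7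
      have hall : ∀ x, (cl H x).card = 4 := fun x => by
        rw [← h, ← mem_Ys]
        by_contra hx
        exact Finset.card_ne_zero.2 ⟨x, Finset.mem_compl.2 hx⟩ h13
      have hn8 : Fintype.card α = 8 := by omega
      refine ⟨cl H x₀, Or.inr ⟨Or.inr ⟨hn8, hall x₀⟩, two3 hn8.le h11 h12⟩, fun g hg => ?_⟩
      have key : ∀ x y, (x ∈ cl H x₀ ↔ y ∈ cl H x₀) ↔ cl H x = cl H y := by
        have k1 : ∀ x, x ∉ cl H x₀ → cl H x = (cl H x₀)ᶜ := fun x hx =>
          Finset.eq_of_subset_of_card_le (fun y hy => Finset.mem_compl.2 fun hy' =>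
            hx (mem_cl.2 ((mem_cl.1 hy').trans (mem_cl.1 hy).symm)))
            (by rw [Finset.card_compl, hall, hall, hn8])
        intro x y
        constructor
        · intro hxy
          by_cases hx : x ∈ cl H x₀
          · exact cl_eq.2 ((mem_cl.1 hx).symm.trans (mem_cl.1 (hxy.1 hx)))
          · rw [k1 x hx, k1 y fun hy => hx (hxy.2 hy)]
        · intro hxy
          rw [mem_cl, mem_cl, ← cl_eq, ← cl_eq, hxy]
      exact mem_W.2 fun x y => by rw [key, key]; exact norm_le hg x y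
  · have hYa' : (Ys H a).card = a := by have := N2 a ha3 le_rfl; omega
    have h1 := hcov ∅ fun s h1 h4 _ => by
      have h6 := N1 (hdis h4.ne') (Ys_inv a) (Ys_inv s)
      rw [hYa'] at h6
      rcases N2 s h1 h4.le with h7 | h7 | ⟨-, h7, -⟩
      · exact h7
      · rw [h7] at h6
        have := (choose_core (by omega) h4.le fun p hp hpa => h6 p hp (hπa p hp hpa)).1
        omega
      · rw [h7] at h6
        by_cases h8 : 8 ≤ a
        · have := (choose_core (by omega) h8 fun p hp hpa => h6 p hp (hπa p hp hpa)).1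
          omega
        · have h9 := h6 3 Nat.prime_three h3
          have : a ≤ 7 := by omega
          generalize a = b at *
          interval_cases b <;> exact absurd (by decide) h9
    simp only [Finset.sum_empty, add_zero] at h1
    refine ⟨_, one hYa' ?_, hWc⟩
    by_contra h4
    rw [hYa', show (Ys H a)ᶜ.card = 2 by omega] at hc
    have := (choose_core le_rfl (by omega) fun p hp hpa => hc p hp (hπa p hp hpa)).1
    omega

end CA.HallSn
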