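import Cfsg.Agent.Lib.Perm.HallSn4

/-! Hall subgroups of alternating and symmetric groups: consequences. -/

set_option autoImplicit false

namespace CA.HallSn

open Equiv Equiv.Perm Cfsg Pointwise CA.PartStab

section Gen
variable {G : Type*} [Group G] [Finite G] {π : Set ℕ}

/-- conjugate subgroup -/
abbrev cj (g : G) (H : Subgroup G) : Subgroup G := H.map (MulAut.conj g).toMonoidHom

omit [Finite G] in
theorem mem_cj {g x : G} {H : Subgroup G} : x ∈ cj g H ↔ g⁻¹ * x * g ∈ H :=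
  ⟨by rintro ⟨y, hy, rfl⟩; simpa [mul_assoc] using hy, fun h => ⟨_, h, by simp [mul_assoc]⟩⟩

omit [Finite G] in
theorem card_cj (g : G) (H : Subgroup G) : Nat.card (cj g H) = Nat.card H :=
  Subgroup.card_map_of_injective (MulAut.conj g).injective

omit [Finite G] in
theorem index_cj (g : G) (H : Subgroup G) : (cj g H).index = H.index :=
  Subgroup.index_map_equiv H (MulAut.conj g)

omit [Finite G] in
theorem hall_cj {H : Subgroup G} (h : IsPiHall π H) (g : G) : IsPiHall π (cj g H) := by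
  unfold IsPiHall; rw [card_cj, index_cj]; exact h

theorem pi_eq {a b c d : ℕ} (h : a * b = c * d) (ha : ∀ p : ℕ, p.Prime → p ∣ a → p ∈ π)
    (hb : ∀ p : ℕ, p.Prime → p ∈ π → ¬ p ∣ b) (hc : ∀ p : ℕ, p.Prime → p ∣ c → p ∈ π)
    (hd : ∀ p : ℕ, p.Prime → p ∈ π → ¬ p ∣ d) : a = c :=
  Nat.dvd_antisymm
    ((Nat.Coprime.dvd_mul_right (Nat.coprime_of_dvd fun p hp h1 => hd p hp (ha p hp h1))).1
      ⟨b, h.symm⟩)
    ((Nat.Coprime.dvd_mul_right (Nat.coprime_of_dvd fun p hp h1 => hb p hp (hc p hp h1))).1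
      ⟨d, h⟩)

theorem hall_eq {H K : Subgroup G} (hH : IsPiHall π H) (hK : IsPiHall π K) (h : H ≤ K) : H = K :=
  Subgroup.eq_of_le_of_card_ge h (pi_eq (K.card_mul_index.trans H.card_mul_index.symm)
    hK.1 hK.2 hH.1 hH.2).le

omit [Finite G] in
theorem hallOf_iff {A : Subgroup G} {M : Subgroup A} :
    IsPiHallOf π (M.map A.subtype) A ↔ IsPiHall π M := by
  unfold IsPiHallOf IsPiHall
  rw [Subgroup.card_map_of_injective A.subtype_injective, Subgroup.relIndex,
    Subgroup.subgroupOf, Subgroup.comap_map_eq_self_of_injective A.subtype_injective]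
  exact ⟨fun h => h.2, fun h => ⟨Subgroup.map_subtype_le _, h⟩⟩

theorem hall_sub {K : Subgroup G} (h : IsPiHall π K) (A : Subgroup G) [A.Normal] :
    IsPiHall π (K.subgroupOf A) := by
  refine ⟨fun p hp hd => h.1 p hp (hd.trans ?_), fun p hp hπ hd => h.2 p hp hπ (hd.trans ?_)⟩
  · rw [← Subgroup.card_map_of_injective A.subtype_injective, Subgroup.subgroupOf_map_subtype]
    exact Subgroup.card_dvd_of_le inf_le_left
  · obtain ⟨c, hc⟩ := Subgroup.relIndex_dvd_index_of_normal A K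
    have h3 := Subgroup.relIndex_mul_index (inf_le_left : K ⊓ A ≤ K)
    have h4 := Subgroup.relIndex_mul_index (inf_le_right : K ⊓ A ≤ A)
    rw [Subgroup.inf_relIndex_left] at h3
    rw [Subgroup.inf_relIndex_right, ← h3, hc] at h4
    refine ⟨c, Nat.eq_of_mul_eq_mul_left (Nat.pos_of_ne_zero
      (Subgroup.index_ne_zero_of_finite (H := A.subgroupOf K))) ?_⟩
    change A.relIndex K * K.index = A.relIndex K * (K.relIndex A * c)
    rw [← h4]; ring

/-- a Hall subgroup containing a conjugate of every `π`-subgroup -/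
def DS (π : Set ℕ) (G : Type*) [Group G] : Prop :=
  ∃ H : Subgroup G, IsPiHall π H ∧ ∀ K : Subgroup G, IsPiSubgroup π K → ∃ g, K ≤ cj g H

omit [Finite G] in
theorem cj_cj (g h : G) (H : Subgroup G) : cj h H = cj (h * g⁻¹) (cj g H) := by
  ext x; simp only [mem_cj]; group

omit [Finite G] in
theorem DS.E (h : DS π G) : IsEPiGroup π G := ⟨_, h.choose_spec.1⟩

theorem DS.C (h : DS π G) : IsCPiGroup π G := by
  refine ⟨h.E, fun K L hK hL => ?_⟩
  obtain ⟨H, hH, h⟩ := h
  obtain ⟨g, hg⟩ := h K hK.1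
  obtain ⟨g', hg'⟩ := h L hL.1
  exact ⟨g' * g⁻¹, by
    rw [hall_eq hK (hall_cj hH g) hg, hall_eq hL (hall_cj hH g') hg']; exact cj_cj g g' H⟩

omit [Finite G] in
theorem DS.D (h : DS π G) : IsDPiGroup π G := by
  intro K L hK hL
  obtain ⟨H, hH, h⟩ := h
  obtain ⟨g, hg⟩ := h K hK.prop
  obtain ⟨g', hg'⟩ := h L hL.prop
  exact ⟨g' * g⁻¹, by
    rw [hK.eq_of_le (hall_cj hH g).1 hg, hL.eq_of_le (hall_cj hH g').1 hg']; exact cj_cj g g' H⟩

theorem pi_of_p {p : ℕ} (hp : p.Prime) (hπ : p ∈ π) {K : Subgroup G} (h : IsPGroup p K) :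
    IsPiSubgroup π K := fun q hq hd => by
  haveI := Fact.mk hp
  obtain ⟨n, hn⟩ := h.exists_card_eq
  rw [hn] at hd
  rwa [(Nat.prime_dvd_prime_iff_eq hq hp).1 (hq.dvd_of_dvd_pow hd)]

theorem DS.of_D (h : IsDPiGroup π G) : DS π G := by
  have ex : ∀ K : Subgroup G, IsPiSubgroup π K → ∃ H, K ≤ H ∧ Maximal (IsPiSubgroup π) H :=
    fun K hK => Finite.exists_le_maximal hK
  obtain ⟨H, -, hH⟩ := ex ⊥ fun p hp hd => by
    rw [Subgroup.card_bot] at hd; exact absurd (Nat.le_of_dvd one_pos hd) hp.one_lt.not_ge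
  have key : ∀ K : Subgroup G, IsPiSubgroup π K → ∃ g, K ≤ cj g H := fun K hK => by
    obtain ⟨L, h1, h2⟩ := ex K hK
    obtain ⟨g, rfl⟩ := h H L hH h2
    exact ⟨g, h1⟩
  refine ⟨H, ⟨hH.prop, fun p hp hπ hd => ?_⟩, key⟩
  haveI := Fact.mk hp
  let S : Sylow p G := default
  obtain ⟨g, hg⟩ := key S (pi_of_p hp hπ S.isPGroup')
  exact S.not_dvd_index ((index_cj g H ▸ hd).trans (Subgroup.index_dvd_of_le hg))

theorem DS.of_one (h : ∀ r s : ℕ, r.Prime → s.Prime → r ∈ π → s ∈ π → r ∣ Nat.card G →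
    s ∣ Nat.card G → r = s) : DS π G := by
  by_cases h1 : ∃ p : ℕ, p.Prime ∧ p ∈ π ∧ p ∣ Nat.card G
  · obtain ⟨p, hp, hπ, hd⟩ := h1
    haveI := Fact.mk hp
    let S : Sylow p G := default
    refine ⟨S, ⟨pi_of_p hp hπ S.isPGroup', fun q hq hqπ hqd => ?_⟩, fun K hK => ?_⟩
    · rw [h q p hq hp hqπ hπ (hqd.trans (Subgroup.index_dvd_card _)) hd] at hqd
      exact S.not_dvd_index hqd
    · have hKp : IsPGroup p K := IsPGroup.of_card (Nat.eq_prime_pow_of_unique_prime_dvd
        Nat.card_pos.ne' fun {q} hq hqd => h q p hq hp (hK q hq hqd) hπ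
          (hqd.trans (Subgroup.card_subgroup_dvd_card K)) hd)
      obtain ⟨T, hT⟩ := hKp.exists_le_sylow
      obtain ⟨g, rfl⟩ := MulAction.exists_smul_eq G S T
      exact ⟨g, hT⟩
  · refine ⟨⊥, ⟨fun p hp hd => ?_, fun p hp hπ hd => h1 ⟨p, hp, hπ, by simpa using hd⟩⟩,
      fun K hK => ⟨1, le_trans (le_of_eq ?_) bot_le⟩⟩
    · rw [Subgroup.card_bot] at hd; exact absurd (Nat.le_of_dvd one_pos hd) hp.one_lt.not_ge
    · rw [← Subgroup.card_eq_one]
      by_contra h2
      obtain ⟨p, hp, hd⟩ := Nat.exists_prime_and_dvd h2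
      exact h1 ⟨p, hp, hK p hp hd, hd.trans (Subgroup.card_subgroup_dvd_card K)⟩

omit [Finite G] in
theorem DS.of_all (h : ∀ r : ℕ, r.Prime → r ∣ Nat.card G → r ∈ π) : DS π G :=
  ⟨⊤, ⟨fun p hp hd => h p hp (by simpa using hd), fun p hp _ hd => by
    rw [Subgroup.index_top] at hd; exact absurd (Nat.le_of_dvd one_pos hd) hp.one_lt.not_ge⟩,
    fun K _ => ⟨1, fun x _ => mem_cj.2 trivial⟩⟩

end Gen

variable {α : Type*} [Fintype α] [DecidableEq α] {π : Set ℕ}

theorem le_of_dvd_perm {p : ℕ} (hp : p.Prime) (K : Subgroup (Perm α)) (h : p ∣ Nat.card K) :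
    p ≤ Fintype.card α := by
  have := h.trans (Subgroup.card_subgroup_dvd_card K)
  rwa [Nat.card_perm, Nat.card_eq_fintype_card, hp.dvd_factorial] at this

theorem DS_sub (h : ¬ NT π (Fintype.card α)) (K : Subgroup (Perm α)) :
    (∀ r s : ℕ, r.Prime → s.Prime → r ∈ π → s ∈ π → r ∣ Nat.card K → s ∣ Nat.card K → r = s) ∨
      ∀ r : ℕ, r.Prime → r ∣ Nat.card K → r ∈ π := by
  by_contra h'
  push Not at h'
  obtain ⟨⟨r, s, hr, hs, h1, h2, h3, h4, h5⟩, t, ht, h6, h7⟩ := h'
  exact h ⟨⟨r, s, hr, hs, h5, h1, h2, le_of_dvd_perm hr K h3, le_of_dvd_perm hs K h4⟩,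
    t, ht, le_of_dvd_perm ht K h6, h7⟩

theorem DS_alt (h : ¬ NT π (Fintype.card α)) : DS π (alternatingGroup α) :=
  (DS_sub h _).elim DS.of_one DS.of_all

theorem DS_perm (h : ¬ NT π (Fintype.card α)) : DS π (Perm α) := by
  have := DS_sub h ⊤
  rw [Subgroup.card_top] at this
  exact this.elim DS.of_one DS.of_all

theorem card_P_dvd {ι : Type*} [Fintype ι] [DecidableEq ι] (f : α → ι)
    (hf : Function.Surjective f) : Nat.card (P f) ∣ (Fintype.card ι).factorial *
      ∏ i, (Finset.univ.filter fun a => f a = i).card.factorial := by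
  have := card_dvd_opt (fun x => some (f x)) (P f) (fun g hg i => by
    obtain ⟨x, rfl⟩ := hf i
    exact ⟨f (g x), fun y => by simpa using hg y x⟩) fun i => by simpa using hf i
  simpa [Fintype.prod_option] using this

theorem prime_P {ι : Type*} [Fintype ι] [DecidableEq ι] (f : α → ι)
    (hf : Function.Surjective f) {p : ℕ} (hp : p.Prime) (h : p ∣ Nat.card (P f)) :
    p ≤ Fintype.card ι ∨ ∃ i, p ≤ (Finset.univ.filter fun a => f a = i).card := by
  rcases (Nat.Prime.dvd_mul hp).1 (h.trans (card_P_dvd f hf)) with h | h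
  · exact Or.inl (hp.dvd_factorial.1 h)
  · obtain ⟨i, -, hi⟩ := (Prime.dvd_finset_prod_iff hp.prime _).1 h
    exact Or.inr ⟨i, hp.dvd_factorial.1 hi⟩

theorem exists_move {B B' : Finset α} (h : B.card = B'.card) :
    ∃ g : Perm α, ∀ x, g x ∈ B' ↔ x ∈ B := by
  let e : {x // x ∈ B} ≃ {x // x ∈ B'} := Finset.equivOfCardEq h
  refine ⟨e.extendSubtype, fun x => ⟨fun h => ?_, e.extendSubtype_mem x⟩⟩
  by_contra h'
  exact e.extendSubtype_not_mem x h' h

theorem W_surj {B : Finset α} (h1 : 1 ≤ B.card) (h2 : B.card < Fintype.card α) :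
    Function.Surjective fun x => decide (x ∈ B) := by
  obtain ⟨x, hx⟩ := Finset.card_pos.1 h1
  obtain ⟨y, -, hy⟩ := Finset.exists_mem_notMem_of_card_lt_card (s := B) (t := Finset.univ) h2
  rintro (_ | _)
  · exact ⟨y, by simpa⟩
  · exact ⟨x, by simpa⟩

theorem prod_W (B : Finset α) :
    ∏ i, (Finset.univ.filter fun a => decide (a ∈ B) = i).card.factorial =
      B.card.factorial * (Fintype.card α - B.card).factorial := by
  rw [Fintype.prod_bool, ← Finset.card_compl]
  congr 3 <;> ext x <;> simp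

theorem prime_W {B : Finset α} (h1 : 1 ≤ B.card) (h2 : B.card < Fintype.card α) {p : ℕ}
    (hp : p.Prime) (h : p ∣ Nat.card (W B)) :
    p ≤ 2 ∨ p ≤ B.card ∨ p ≤ Fintype.card α - B.card := by
  have := h.trans (card_P_dvd _ (W_surj h1 h2))
  rw [prod_W, Fintype.card_bool, hp.dvd_mul, hp.dvd_mul] at this
  simpa only [hp.dvd_factorial] using this

theorem W_hall {B : Finset α} (h5 : 5 ≤ Fintype.card α) (h : Ex π (Fintype.card α) B.card) :
    IsPiHall π (W B) := by
  have hle : Fx (fun x => decide (x ∈ B)) ≤ W B := fun g hg => mem_of_fix hg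
  have hB : B.card ≤ Fintype.card α := Finset.card_le_univ B
  have hi : (Fx fun x => decide (x ∈ B)).index = (Fintype.card α).choose B.card := by
    have h3 := (Fx fun x => decide (x ∈ B)).index_mul_card
    rw [card_Fx, prod_W, Nat.card_perm, Nat.card_eq_fintype_card (α := α),
      ← Nat.choose_mul_factorial_mul_factorial hB, mul_assoc] at h3
    exact Nat.eq_of_mul_eq_mul_right (by positivity) h3
  have hd := Subgroup.index_dvd_of_le hle
  rw [hi] at hd
  have p35 : ∀ p : ℕ, p.Prime → p ∣ 35 → p = 5 ∨ p = 7 := fun p hp h =>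
    ((Nat.Prime.dvd_mul hp (m := 5) (n := 7)).1 h).imp
      (Nat.prime_dvd_prime_iff_eq hp (by norm_num)).1 (Nat.prime_dvd_prime_iff_eq hp (by norm_num)).1
  have p4 : ∀ p : ℕ, p.Prime → p ≤ 4 → p = 2 ∨ p = 3 := fun p hp h => by
    have := hp.two_le
    have h4 : p ≠ 4 := by rintro rfl; exact absurd hp (by norm_num)
    omega
  rcases h with ⟨h1, h2, h3⟩ | ⟨⟨h1, h2⟩ | ⟨h1, h2⟩, h3⟩
  · refine ⟨fun p hp hd => ?_, fun p hp hπ hd' => ?_⟩
    · have := prime_W (by omega) (by omega) hp hd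
      exact (h3 p hp (by omega)).2 (by omega)
    · rw [h1, Nat.choose_one_right] at hd
      have := (Nat.prime_dvd_prime_iff_eq hp h2).1 (hd'.trans hd)
      exact absurd ((h3 p hp this.le).1 hπ) (by omega)
  · refine ⟨fun p hp hd => ?_, fun p hp hπ hd' => ?_⟩
    · have := prime_W (by omega) (by omega) hp hd
      exact (h3 p hp (by omega)).2 (p4 p hp (by omega))
    · rw [h1, h2] at hd
      have := p35 p hp (hd'.trans hd)
      have := (h3 p hp (by omega)).1 hπ
      omega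
  · refine ⟨fun p hp hd => ?_, fun p hp hπ hd' => ?_⟩
    · have := prime_W (by omega) (by omega) hp hd
      exact (h3 p hp (by omega)).2 (p4 p hp (by omega))
    · have h4 := Subgroup.relIndex_mul_index hle
      have h6 := card_P_dvd _ (W_surj (B := B) (by omega) (by omega))
      have h7 : (Fx fun x => decide (x ∈ B)).relIndex (W B) * Nat.card (Fx fun x => decide (x ∈ B))
          = Nat.card (W B) := by
        rw [← Nat.card_congr (Subgroup.subgroupOfEquivOfLe hle).toEquiv]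
        exact Subgroup.index_mul_card _
      change Nat.card (W B) ∣ _ at h6
      rw [← card_Fx, ← h7, Fintype.card_bool] at h6
      have h8 := Nat.dvd_of_mul_dvd_mul_right Nat.card_pos h6
      have h9 : (Fx fun x => decide (x ∈ B)).relIndex (W B) ≠ 1 := by
        rw [Ne, Subgroup.relIndex_eq_one]
        intro hle'
        obtain ⟨g, hg⟩ := exists_move (B := B) (B' := Bᶜ) (by rw [Finset.card_compl]; omega)
        have hg' : ∀ x, g x ∈ B ↔ x ∉ B := fun x => by
          have := hg x; rw [Finset.mem_compl] at this; tauto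
        obtain ⟨x, hx⟩ := Finset.card_pos.1 (by omega : 0 < B.card)
        have := hle' (mem_W.2 fun x y => by rw [hg', hg']; tauto) x
        simp [hg', hx] at this
      rw [((Nat.dvd_prime Nat.prime_two).1 h8).resolve_left h9, hi, h1, h2] at h4
      have h10 : (W B).index = 35 := by
        have : Nat.choose 8 4 = 70 := by decide
        omega
      have := p35 p hp (h10 ▸ hd')
      have := (h3 p hp (by omega)).1 hπ
      omega

theorem Ex.bd {n m : ℕ} (h5 : 5 ≤ n) (h : Ex π n m) : m + 2 ≤ n := by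
  rcases h with ⟨h1, -⟩ | ⟨⟨h1, h2⟩ | ⟨h1, h2⟩, -⟩ <;> omega

theorem Ex.uniq {n m m' : ℕ} (h : Ex π n m) (h' : Ex π n m') : m = m' := by
  have key : ∀ {n : ℕ}, (n = 7 ∨ n = 8) → (∀ r : ℕ, r.Prime → r ≤ n → (r ∈ π ↔ r < n)) →
      (∀ r : ℕ, r.Prime → r ≤ n → (r ∈ π ↔ (r = 2 ∨ r = 3))) → False := fun hn h1 h2 => by
    have := (h2 5 (by norm_num) (by omega)).1 ((h1 5 (by norm_num) (by omega)).2 (by omega))
    omega
  rcases h with ⟨h1, -, h2⟩ | ⟨h1, h2⟩ <;> rcases h' with ⟨h3, -, h4⟩ | ⟨h3, h4⟩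
  · omega
  · exact (key (by omega) h2 h4).elim
  · exact (key (by omega) h4 h2).elim
  · omega

theorem exists_conj_W {B B' : Finset α} (h : B.card = B'.card) (h2 : B.card + 2 ≤ Fintype.card α) :
    ∃ g ∈ alternatingGroup α, W B' = cj g (W B) := by
  have key : ∀ g : Perm α, (∀ x, g x ∈ B' ↔ x ∈ B) → W B' = cj g (W B) := fun g hg => by
    ext k
    rw [mem_cj, mem_W, mem_W]
    simp only [← hg, mul_apply]
    exact ⟨fun h x y => by simpa using h (g x) (g y),
      fun h x y => by simpa using h (g⁻¹ x) (g⁻¹ y)⟩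
  obtain ⟨g, hg⟩ := exists_move h
  rcases Int.units_eq_one_or (sign g) with hs | hs
  · exact ⟨g, hs, key g hg⟩
  obtain ⟨u, hu, v, hv, huv⟩ := Finset.one_lt_card.1
    (by rw [Finset.card_compl]; omega : 1 < Bᶜ.card)
  refine ⟨g * swap u v, by rw [mem_alternatingGroup, Perm.sign_mul, hs, sign_swap huv]; rfl,
    key _ fun x => ?_⟩
  rw [mul_apply, hg, swap_apply_def]
  rw [Finset.mem_compl] at hu hv
  split_ifs with h1 h2
  · rw [h1]; tauto
  · rw [h2]; tauto
  · rfl

theorem alt_hall (hN : NT π (Fintype.card α)) {M : Subgroup (alternatingGroup α)}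
    (hM : IsPiHall π M) : ∃ B : Finset α, Ex π (Fintype.card α) B.card ∧
      M = (W B).subgroupOf (alternatingGroup α) := by
  obtain ⟨B, h1, h2⟩ := main (hallOf_iff.2 hM) hN
  exact ⟨B, h1, hall_eq hM (hall_sub (W_hall hN.five h1) _)
    fun x hx => h2 (Subgroup.le_normalizer ⟨x, hx, rfl⟩)⟩

theorem perm_hall (hN : NT π (Fintype.card α)) {M : Subgroup (Perm α)}
    (hM : IsPiHall π M) : ∃ B : Finset α, Ex π (Fintype.card α) B.card ∧ M = W B := by
  obtain ⟨B, h1, h2⟩ := main (hallOf_iff.2 (hall_sub hM (alternatingGroup α))) hN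
  refine ⟨B, h1, hall_eq hM (W_hall hN.five h1) fun x hx => h2 ?_⟩
  rw [Subgroup.subgroupOf_map_subtype, Subgroup.mem_normalizer_iff]
  intro k
  simp only [Subgroup.mem_inf, mem_alternatingGroup, Perm.sign_mul, Perm.sign_inv]
  rw [mul_comm (sign x), mul_assoc (sign k), Int.units_mul_self, mul_one,
    M.mul_mem_cancel_right (M.inv_mem hx), M.mul_mem_cancel_left hx]

theorem E_iff (hN : NT π (Fintype.card α)) :
    IsEPiGroup π (Perm α) ↔ ∃ m, Ex π (Fintype.card α) m := by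
  refine ⟨fun ⟨M, hM⟩ => ?_, fun ⟨m, hm⟩ => ?_⟩
  · obtain ⟨B, h, -⟩ := perm_hall hN hM; exact ⟨_, h⟩
  · obtain ⟨B, -, rfl⟩ := Finset.exists_subset_card_eq (s := (Finset.univ : Finset α)) (n := m)
      (by have := hm.bd hN.five; rw [Finset.card_univ]; omega)
    exact ⟨_, W_hall hN.five hm⟩

end CA.HallSn
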