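import Cfsg.Agent.Lib.Perm.Half2

/-! Huppert's theorem on soluble linear groups transitive on non-zero vectors. -/

set_option autoImplicit false

namespace CA.HupTr

open Subgroup MulAction CA.MC2 CA.TrLin CA.RegLin CA.Half2
open scoped commutatorElement

theorem minNA_pgroup {G : Type*} [Group G] [Finite G] {A N : Subgroup G} (hA : MaxAb A) (h : MinNA A N)
    (hs : Group.IsSolvable N) : commutator N ≤ center N ∧ ∃ p : ℕ, p.Prime ∧ IsPGroup p N := by
  have := h.normal
  have hle : ⁅N, N⁆ ≤ N := commutator_le_left N N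
  have hc : IsMulCommutative ↥⁅N, N⁆ := by_contra fun hc => by
    have : Group.IsPerfect N := Subgroup.isPerfect_iff.2 (h.min _ inferInstance hle hc)
    exact h.ncomm ⟨⟨fun a b => (CA.Fc.eq_one_of_perfect (MonoidHom.id N) inferInstance _).trans
      (CA.Fc.eq_one_of_perfect (MonoidHom.id N) inferInstance _).symm⟩⟩
  have h1 : ⁅N, N⁆ ≤ centralizer (N : Set G) :=
    (hA.le inferInstance hc (hle.trans h.le)).trans (le_centralizer_iff.1 h.le)
  have h2 : commutator N ≤ center N := commutator_le.2 fun a _ b _ => mem_center_iff.2 fun c =>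
    Subtype.ext (h1 (commutator_mem_commutator a.2 b.2) c c.2)
  have hnil : Group.IsNilpotent N := by
    refine Subgroup.nilpotent_iff_lowerCentralSeries.2 ⟨2, ?_⟩
    rw [Subgroup.lowerCentralSeries_succ, Subgroup.lowerCentralSeries_one, commutator_eq_bot_iff_le_centralizer]
    exact fun a ha c _ => mem_center_iff.1 (h2 ha) c
  obtain ⟨p, hp, P, hP⟩ : ∃ (p : ℕ) (_ : Fact p.Prime) (P : Sylow p N), ¬ IsMulCommutative P := by
    by_contra hn
    exact h.ncomm (comm_of_sylow fun p _ P => by_contra fun hP => hn ⟨p, inferInstance, P, hP⟩)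
  have hch : (P : Subgroup N).Characteristic := Sylow.characteristic_of_normal P inferInstance
  have e := h.min ((P : Subgroup N).map N.subtype) inferInstance (map_subtype_le _) fun hc => hP
    ⟨⟨fun a b => Subtype.ext (Subtype.ext (comm_iff.1 hc ⟨b.1, b.2, rfl⟩ _ ⟨a.1, a.2, rfl⟩))⟩⟩
  exact ⟨h2, p, hp.out, e ▸ P.isPGroup'.map _⟩

variable {H V : Type*} [Group H] [AddCommGroup V] [DistribMulAction H V] [Finite H] [Finite V]

theorem subsingleton_of_char [Nontrivial V] [FaithfulSMul H V] {p : ℕ} [Fact p.Prime] (hP : IsPGroup p H)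
    (hE : ∀ v : V, p • v = 0) (hc : Half H V) : Subsingleton H := by
  obtain ⟨e, he⟩ := exists_ne (0 : V)
  obtain ⟨a, ha, ha0⟩ := hP.exists_fixed_point_of_prime_dvd_card_of_fixed_point V
    (addOrderOf_eq_prime (hE e) he ▸ addOrderOf_dvd_natCard e) (a := 0) fun g => smul_zero g
  have k : ∀ (g : H) (b : V), g • b = b := fun g b => by
    by_cases hb : b = 0
    · rw [hb, smul_zero]
    exact ((stabilizer H b).eq_top_of_card_eq (by
      rw [hc _ _ hb ha0.symm, (eq_top_iff.2 fun g _ => ha g : stabilizer H a = ⊤), card_top])).ge (mem_top g)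
  exact ⟨fun g h => eq_of_smul_eq_smul (α := V) fun v => by rw [k, k]⟩

theorem card_dvd_of_comm [FaithfulSMul H V] (h : Tr H V) {A : Subgroup H} [A.Normal] (hc : IsMulCommutative A)
    (v : V) : Nat.card A ∣ Nat.card (orb A v) - 1 :=
  card_dvd_of_free (inv_orb A v) fun _ ha _ hv e => h.free_of_comm hc ha hv e

theorem semi_of_le [Nontrivial V] [FaithfulSMul H V] (h : Tr H V) {A : Subgroup H} [A.Normal]
    (hc : IsMulCommutative A) (hle : centralizer (A : Set H) ≤ A) : Semi H V := by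
  refine h.semi_of_irr hc (by_contra fun hI => ?_)
  have := CA.Huppert.isCyclic_of_fpf (E := V) A fun g hg g1 v e => by_contra fun hv =>
    g1 (h.free_of_comm hc hg hv e)
  obtain ⟨v, hv⟩ := exists_ne (0 : V)
  have h1 := h.sq_card_orb_le hI hv
  have h2 := two_le_card_orb A hv
  have h3 := Nat.le_of_dvd (by omega) (card_dvd_of_comm h hc v)
  have h4 := (Nat.le_of_dvd Nat.card_pos (index_centralizer_dvd A)).trans
    ((IsCyclic.card_mulAut A).le.trans (Nat.totient_le _))
  rw [le_antisymm hle (comm_iff.1 hc)] at h4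
  have h5 := A.index_mul_card
  have h7 := Nat.le_of_dvd Nat.card_pos (Dvd.intro _ (h.dvd_card hv))
  have h6 := Nat.mul_le_mul (h4.trans h3) h3
  obtain ⟨w, hw⟩ : ∃ w, Nat.card (orb A v) = w + 1 := ⟨_, (Nat.sub_add_cancel (by omega)).symm⟩
  rw [hw] at h1 h2 h6
  simp only [Nat.add_sub_cancel] at h6
  have : Nat.card V - 1 + 1 = Nat.card V := Nat.sub_add_cancel Nat.card_pos
  nlinarith

variable (q : ℕ) [Fact q.Prime] [Module (ZMod q) V]

omit [Finite H] in
theorem card_eq_pow (W : AddSubgroup V) : ∃ d, Nat.card W = q ^ d :=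
  ⟨_, (Module.natCard_eq_pow_finrank (K := ZMod q) (V := AddSubgroup.toZModSubmodule q W)).trans
    (by rw [Nat.card_zmod])⟩

omit [Finite V] in
theorem nsmul_eq_zero (v : V) : q • v = 0 := by rw [← Nat.cast_smul_eq_nsmul (ZMod q)]; simp

theorem card_fix [FaithfulSMul H V] (hP : IsPGroup 2 H) (hc : Half H V) {u z : H} (h : IU V u z) :
    (∃ m, Nat.card (fix V u) = 2 ^ m + 1) ∧ (Nat.card (fix V u) = q ∨ (q = 3 ∧ Nat.card (fix V u) = 9)) := by
  obtain ⟨d, hd⟩ := card_eq_pow q (fix V u)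
  obtain ⟨k, hk⟩ := hP.exists_card_eq
  obtain ⟨m, -, hm⟩ := (Nat.dvd_prime_pow Nat.prime_two).1 (Dvd.intro_left _ ((h.card hc).2.symm.trans hk))
  have : 0 < Nat.card (fix V u) := Nat.card_pos
  have e : q ^ d = 2 ^ m + 1 := by omega
  refine ⟨⟨m, hd.trans e⟩, (nt_sub e).imp ?_ ?_⟩
  · rintro rfl; rw [hd, pow_one]
  · rintro ⟨rfl, rfl⟩; exact ⟨rfl, hd⟩

theorem q8_case [Nontrivial V] [FaithfulSMul H V] (h : Tr H V) {A : Subgroup H} (hA : MaxAb A) {c w : H}
    (hm : MC 1 0 1 c w) (hN : MinNA A (zpowers c ⊔ zpowers w)) (hz : ∀ v : V, c ^ (2 : ℤ) • v = -v) :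
    Semi H V ∨ (Nat.card V = q ^ 2 ∧ q + 1 ∣ 24) := by
  have := hA.normal
  have := hN.normal
  have hp : q.Prime := Fact.out
  have hI : Irr V (zpowers c ⊔ zpowers w) := by_contra fun hI => hN.ncomm (h.comm_of_not_irr hI)
  refine or_iff_not_imp_left.2 fun hS => ?_
  have hle : Nat.card V ≤ q ^ 2 := card_le_of_quat (i := c) (j := w)
    (fun v => by rw [smul_smul, ← hz, zpow_two])
    (fun v => by rw [smul_smul, ← sq, CA.MC3.q8_sq hm odd_one, hz])
    (fun v => by
      rw [← hz, smul_smul, smul_smul, smul_smul, mul_inv_eq_iff_eq_mul.1 (CA.MC3.q8_conj hm)]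
      congr 2
      rw [← zpow_add_one, ← zpow_neg_one, hm.zpow_eq]; norm_num) hI
  obtain ⟨v, hv⟩ := exists_ne (0 : V)
  have h1 := h.sq_card_orb_le (fun hI => hS (h.semi_of_irr hA.comm hI)) hv
  have h2 := Nat.le_of_dvd Nat.card_pos (dvd_card_sub (p := q) (two_le_card_orb A hv))
  have h3 : Nat.card (orb A v) = q := le_antisymm (by nlinarith) h2
  have hC := hA.max _ inferInstance hI.comm_centralizer (le_centralizer_iff.1 hN.le)
  have hz1 : c ^ (2 : ℤ) ∈ A := hC ▸ fun g hg => by simpa using hm.z_central hg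
  have ho : orderOf (c ^ (2 : ℤ)) = 2 := by simpa using hm.ord_z
  obtain ⟨t, ht⟩ := ((zpowers c ⊔ zpowers w) ⊓ A).orderOf_dvd_natCard ⟨zpow_mem_left c w 2, hz1⟩
  have e1 := CA.H1Basic.card_sup_mul_card_inf (zpowers c ⊔ zpowers w) A
  rw [ht, ho, hm.card] at e1
  have e2 := CA.MC3.q8_relIndex_dvd' hm odd_one
  rw [hC, normalizer_eq_top, relIndex_top_right] at e2
  have e3 := mul_dvd_mul e2 ((Dvd.intro t (by norm_num at e1; linarith) : Nat.card ↥((zpowers c ⊔ zpowers w) ⊔ A) ∣ 4 * Nat.card A).trans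
    (mul_dvd_mul_left 4 (card_dvd_of_comm h hA.comm v)))
  have hV := le_antisymm hle (h3 ▸ h1)
  rw [index_mul_card, h3, ← h.dvd_card hv, hV, ← mul_assoc] at e3
  refine ⟨hV, Nat.dvd_of_mul_dvd_mul_right (by have := hp.two_le; omega : 0 < q - 1) ((dvd_of_eq ?_).trans
    ((Dvd.intro _ rfl).trans e3))⟩
  rw [← Nat.sq_sub_sq]

theorem iu_case [FaithfulSMul H V] (h : Tr H V) {N : Subgroup H} [hn : N.Normal] {u z : N} (hu : IU V u z) :
    q = 3 ∨ q = 5 := by
  have hc := half_of_tr h N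
  obtain ⟨v, v0, hv⟩ := hu.ex
  obtain ⟨w, w0, hw⟩ := hu.symm.ex
  have two : (2 : ZMod q) ≠ 0 := fun e => v0 (hu.two v (by rw [← two_smul (ZMod q), e, zero_smul]))
  obtain ⟨g, g1, g2⟩ := (hu.pair hc v0 w0 hv hw).1
  obtain ⟨g', g3, g4⟩ := (hu.pair hc v0 (smul_ne_zero two w0) hv (by rw [smul_comm_zmod, hw])).1
  obtain ⟨x, hx⟩ := h v (v + w) v0 fun e => v0 (eq_zero_of_fix hu.two hu.neg hv (by
    rw [eq_neg_of_add_eq_zero_left e, smul_neg, hw]))
  let φ : N ≃* N := MulAut.conjNormal x⁻¹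
  have k1 : ∀ k : N, k * k * u = u * (k * k) := fun k => by
    rcases hu.conj k with e | e
    · rw [mul_assoc, e, ← mul_assoc, e, mul_assoc]
    · rw [mul_assoc, e, ← mul_assoc, hu.swap' e, mul_assoc]
  have k2 : ∀ k : N, k * k * g = g * (k * k) := fun k => φ.injective (by
    simp only [map_mul]
    rcases hu.stab hc v0 hv (g := φ g) (show (x⁻¹ * g * x⁻¹⁻¹) • v = v by
      rw [inv_inv, mul_smul, mul_smul, hx, ← Subgroup.smul_def, smul_add, g1, g2, add_comm, ← hx,
        inv_smul_smul]) with e | e <;> rw [e]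
    · simp
    · exact k1 _)
  generalize hk : g * g' = k at *
  have e1 : k • v = (2 : ZMod q) • v := by rw [← hk, mul_smul, g3, smul_comm_zmod, g2]
  have e2 : (2 : ZMod q) • k • w = w := by rw [← smul_comm_zmod, ← hk, mul_smul, g4, g1]
  have e3 := congrArg (· • v) (k2 k)
  simp only [mul_smul, g1, e1, smul_comm_zmod] at e3
  have e4 : ((15 : ℕ) : ZMod q) • w = 0 := by
    have e5 := congrArg (k • ·) e2
    simp only [smul_comm_zmod, e3] at e5
    generalize k • w = x at *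
    push_cast
    linear_combination (norm := module) e2 + (2 : ZMod q) • e5
  have e5 := (ZMod.natCast_eq_zero_iff _ _).1 ((smul_eq_zero.1 e4).resolve_right w0)
  have hp : q.Prime := Fact.out
  exact (hp.dvd_mul.1 (show q ∣ 3 * 5 from e5)).imp (Nat.prime_dvd_prime_iff_eq hp Nat.prime_three).1
    (Nat.prime_dvd_prime_iff_eq hp Nat.prime_five).1

include q in
/-- Huppert's theorem -/
theorem huppert [Nontrivial V] [FaithfulSMul H V] (h : Tr H V) (hs : Group.IsSolvable H) :
    Semi H V ∨ Nat.card V ∈ ({9, 25, 49, 121, 529, 81} : Set ℕ) := by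
  have hq : q.Prime := Fact.out
  obtain ⟨A, -, hA⟩ := exists_maxAb (⊥ : Subgroup H) inferInstance inferInstance
  have := hA.normal
  by_cases hc : IsMulCommutative (centralizer (A : Set H))
  · exact .inl (semi_of_le h hA.comm (hA.max _ inferInstance hc (comm_iff.1 hA.comm)).le)
  obtain ⟨N, -, hN⟩ := exists_minNA inferInstance le_rfl hc
  have := hN.normal
  obtain ⟨h2, p, hp, hP⟩ := minNA_pgroup hA hN inferInstance
  have := Fact.mk hp
  have hh := half_of_tr h N
  obtain rfl : p = 2 := by_contra fun hp2 =>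
    hN.ncomm (CA.Huppert.cyclic_fpf hp2 hP hq (nsmul_eq_zero q) hh).1.isMulCommutative
  have q2 : q ≠ 2 := by
    rintro rfl
    have := subsingleton_of_char hP (nsmul_eq_zero 2) hh
    exact hN.ncomm ⟨⟨fun _ _ => Subsingleton.elim _ _⟩⟩
  have k : ∀ {m : ℕ} {ε δ : ℤ} {a y : N}, MC m ε δ a y → zpowers a ⊔ zpowers y = ⊤ → m ≤ 1 :=
    fun {m ε δ a y} hm hgen => by
      have e := hm.commutator_eq
      rw [hgen] at e
      have := Int.le_of_dvd (by norm_num) (hm.commute_iff.1 (mem_center_iff.1 (h2 (e.ge (mem_zpowers _))) y))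
      exact (pow_le_pow_iff_right₀ (a := (2 : ℤ)) (by norm_num)).1 (by simpa using this)
  rcases half_two hP (hq.odd_of_ne_two q2) (nsmul_eq_zero q) hh with ⟨hcy | ⟨m, a, y, hgen, hm1, hm⟩, hf⟩ |
    ⟨m, _, _, a, y, hgen, hm1, -, -, hm, -⟩ | ⟨u, z, hu⟩
  · exact (hN.ncomm hcy.isMulCommutative).elim
  · obtain rfl := le_antisymm hm1 (k hm hgen)
    refine (q8_case q h hA (hm.map N.subtype N.subtype_injective) ((CA.MC3.map_sup_eq hgen).symm ▸ hN)
      (neg_of_fpf (z := a ^ (2 : ℤ)) (by simpa [sq] using hm.z_sq) fun v e => by_contra fun hv =>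
        hm.z_ne (hf _ v hv e))).imp_right fun ⟨h1, h3⟩ => ?_
    have := Nat.le_of_dvd (by norm_num) h3
    have : ∀ q < 24, q.Prime ∧ q ≠ 2 ∧ q + 1 ∣ 24 → q ^ 2 ∈ [9, 25, 49, 121, 529, 81] := by decide
    simpa [h1] using this q (by omega) ⟨hq, q2, h3⟩
  · have := k hm hgen
    omega
  · right
    rw [(hu.card hh).1]
    rcases (card_fix q hP hh hu).2 with e | ⟨-, e⟩ <;> rw [e]
    · rcases iu_case q h hu with rfl | rfl <;> simp
    · simp

end CA.HupTr
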