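import Cfsg.Agent.Lib.Perm.Atk2

/-! Bochert's order bound and the Babai bound on the minimal degree of primitive groups. -/

set_option autoImplicit false
open MulAction CA.PermBasic CA.PermMulti CA.PermJordan CA.Sharp4 Finset

namespace CA.MinDeg
variable {G X : Type*} [Group G] [MulAction G X] [Fintype X] [DecidableEq X] [FaithfulSMul G X]
  (h : IsPreprimitive G X) (hA : ¬ alternatingGroup X ≤ (toPermHom G X).range)
include h hA

/-- supports never meet in exactly one point -/
theorem two_supp {g k : G} {a : X} (h1 : g • a ≠ a) (h2 : k • a ≠ a) :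
    ∃ x, x ≠ a ∧ g • x ≠ x ∧ k • x ≠ x := by
  by_contra! H
  have g1 : ∀ {g : G} {x : X}, g • x ≠ x → g • g • x ≠ g • x := fun e => by simpa
  have H' : ∀ x, x ≠ a → k • x ≠ x → g • x = x := fun x e f => by_contra fun g => f (H x e g)
  have i : ∀ {g : G} {x : X}, g⁻¹ • x = x ↔ g • x = x := inv_smul_eq_iff.trans eq_comm
  refine hA (alt_le_of_support_le_three (preprimitive_range h) ⟨g * k * g⁻¹ * k⁻¹, rfl⟩ (fun e => ?_)
    ((card_le_card (t := {a, g • a, k • a}) fun x hx => by_contra fun e => ?_).trans card_le_three))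
  · have := Equiv.congr_fun e (g • a)
    simp only [toPermHom_apply, toPerm_apply, mul_smul, i.2 (H _ h1 (g1 h1)), inv_smul_smul,
      H' _ h2 (g1 h2), Equiv.Perm.one_apply] at this
    exact g1 h1 (this ▸ H' _ h2 (g1 h2))
  simp only [mem_insert, mem_singleton, not_or] at e
  refine Equiv.Perm.mem_support.1 hx (show (g * k * g⁻¹ * k⁻¹) • x = x from ?_)
  simp only [mul_smul]
  by_cases f : k • x = x
  · rw [i.2 f]
    by_cases f' : g • x = x
    · rw [i.2 f', f, f']
    · rw [H (g⁻¹ • x) (fun e' => e.2.1 (inv_smul_eq_iff.1 e')) (by simpa using fun e => f' (i.1 e.symm)),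
        smul_inv_smul]
  · rw [i.2 (H' _ (fun e' => e.2.2 (inv_smul_eq_iff.1 e')) (by simpa using fun e => f (i.1 e.symm))), smul_inv_smul,
      H' x e.1 f]

theorem bochert : Nat.card G * ((Fintype.card X + 1) / 2).factorial ≤ (Fintype.card X).factorial := by
  classical
  obtain ⟨D, d1, d2⟩ := exists_min_image {D : Finset X | ∀ g : G, (∀ x ∈ D, g • x = x) → g = 1} card
    ⟨univ, by simpa using fun g => eq_one_of_forall_smul⟩
  simp only [mem_filter_univ] at d1 d2
  have h1 : #D ≤ #Dᶜ := by_contra fun e => by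
    obtain ⟨g, g1, g2⟩ := not_forall₂.1 (mt (d2 _) e)
    obtain ⟨a, ha⟩ := not_forall.1 (mt (eq_one_of_forall_smul (X := X)) g2)
    have a1 : a ∈ D := by_contra fun f => ha (g1 a (mem_compl.2 f))
    obtain ⟨k, k1, k2⟩ := not_forall₂.1 (mt (d2 _) (card_erase_lt_of_mem a1).not_ge)
    obtain ⟨x, x1, x2, x3⟩ := two_supp h hA ha fun f => k2 (d1 k fun x hx => by
      by_cases e : x = a
      exacts [e ▸ f, k1 x (mem_erase.2 ⟨e, hx⟩)])
    exact x3 (k1 x (mem_erase.2 ⟨x1, by_contra fun f => x2 (g1 x (mem_compl.2 f))⟩))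
  have h2 := Nat.card_le_card_of_injective (fun g : G => (⟨fun x => g • x.1, fun _ _ e =>
    Subtype.ext (MulAction.injective g e)⟩ : D ↪ X)) fun g k e => inv_mul_eq_one.1 (d1 _ fun x hx => by
      rw [mul_smul, inv_smul_eq_iff]; exact (DFunLike.congr_fun e ⟨x, hx⟩).symm)
  rw [Nat.card_eq_fintype_card (α := _ ↪ _), Fintype.card_embedding_eq, Fintype.card_coe] at h2
  rw [card_compl] at h1
  rw [← Nat.factorial_mul_descFactorial (card_le_univ D), mul_comm]
  exact Nat.mul_le_mul (Nat.factorial_le (by omega)) h2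

theorem two_bound (h2 : IsMultiplyPretransitive G X 2) {g : G} (hg : g ≠ 1) :
    Fintype.card X - 1 ≤ (#{x : X | g • x ≠ x} - 1) ^ 2 := by
  classical
  have : Finite G := finite_of_faithful (X := X)
  have := Fintype.ofFinite G
  obtain ⟨a, ha⟩ := not_forall.1 (mt (eq_one_of_forall_smul (X := X)) hg)
  let S := ({x : X | g • x ≠ x} : Finset X).erase a
  have key : ∀ x y, x ≠ a → y ≠ a → #{k : G | k • a = a ∧ k • x = y} = #{k : G | k • a = a ∧ k • g • a = g • a} :=
    fun x y hx hy => by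
      obtain ⟨u, u1, rfl⟩ := two_iff.1 h2 a (g • a) a x (Ne.symm ha) hx.symm
      obtain ⟨w, w1, w2⟩ := two_iff.1 h2 a y a (g • a) hy.symm (Ne.symm ha)
      refine card_equiv ((Equiv.mulRight u).trans (Equiv.mulLeft w)) fun k => ?_
      simp only [mem_filter_univ, Equiv.trans_apply, Equiv.coe_mulRight, Equiv.coe_mulLeft, mul_smul, u1]
      rw [← smul_left_cancel_iff w (x := k • a), w1, ← smul_left_cancel_iff w (y := y), w2]
  have h3 := card_eq_sum_card_fiberwise (s := {k : G | k • a = a}) (t := univ.erase a) (f := (· • g • a))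
    fun k hk => by simpa using fun e => ha (MulAction.injective k (e.trans (by simpa using hk : k • a = a).symm))
  rw [sum_congr rfl fun y hy => (congrArg card (filter_filter ..)).trans (key _ y ha (ne_of_mem_erase hy)),
    sum_const, card_erase_of_mem (mem_univ a), card_univ] at h3
  have h4 := card_le_card (s := {k : G | k • a = a})
    (t := (S ×ˢ S).biUnion fun p => {k : G | k • a = a ∧ k • p.1 = p.2}) fun k hk => by
      have hk := (mem_filter.1 hk).2
      obtain ⟨x, x1, x2, x3⟩ := two_supp h hA ha (k := k * g * k⁻¹) (by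
        rw [mul_smul, inv_smul_eq_iff.2 hk.symm, mul_smul]
        exact fun e => ha (MulAction.injective k (e.trans hk.symm)))
      refine mem_biUnion.2 ⟨(k⁻¹ • x, x), ?_, by simp [hk]⟩
      simpa [S, x1, x2, inv_smul_eq_iff, hk, mul_smul] using fun e => x3 (by
        rw [mul_smul, mul_smul, e, smul_inv_smul])
  replace h4 := h4.trans card_biUnion_le
  rw [sum_congr rfl fun p hp => key _ _ (ne_of_mem_erase (mem_product.1 hp).1)
    (ne_of_mem_erase (mem_product.1 hp).2), sum_const, card_product, card_erase_of_mem (by simpa), h3] at h4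
  exact sq (_ : ℕ) ▸ Nat.le_of_mul_le_mul_right h4 (card_pos.2 ⟨1, by simp⟩)

omit hA [FaithfulSMul G X] in
open Classical in
theorem sq_bound (h2 : ¬ IsMultiplyPretransitive G X 2) {a b : X} (hab : a ≠ b) :
    Fintype.card X ≤ #{y | ¬ ∃ k : G, k • a = a ∧ k • b = y} ^ 2 := by
  let R := fun x y => ¬ ∃ k : G, k • a = x ∧ k • b = y
  have r1 : ∀ (g : G) x y, R (g • x) (g • y) ↔ R x y := fun g x y => not_congr
    ⟨fun ⟨k, e, f⟩ => ⟨g⁻¹ * k, by simp [mul_smul, e, f]⟩, fun ⟨k, e, f⟩ => ⟨g * k, by simp [mul_smul, e, f]⟩⟩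
  have r2 : ∀ x, R x x := fun x ⟨k, e, f⟩ => hab (MulAction.injective k (e.trans f.symm))
  have r3 : ∀ x, #{y | R x y} = #{y | R a y} := fun x => by
    obtain ⟨g, rfl⟩ := h.exists_smul_eq x a
    exact card_equiv (toPerm g) fun y => by simp [r1]
  by_cases H : ∀ x y z, R x y → R y z → R x z
  · rcases prim_rel h R ⟨r2, fun {x y} e => (mem_filter.1 ((eq_of_subset_of_card_le (s := {z | R y z})
      (t := {z | R x z}) (fun z hz => by simpa using H x y z e (by simpa using hz))
      (by rw [r3, r3 y])).ge (by simpa using r2 x))).2, H _ _ _⟩ fun g x y => (r1 g x y).2 with e | e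
    · refine absurd (two_iff.2 fun p q r s e1 e2 => ?_) h2
      obtain ⟨k, rfl, rfl⟩ := not_not.1 (mt (e p q) e1)
      obtain ⟨l, rfl, rfl⟩ := not_not.1 (mt (e r s) e2)
      exact ⟨l * k⁻¹, by simp [mul_smul]⟩
    · exact absurd ⟨1, by simp⟩ (e a b)
  push Not at H
  obtain ⟨x, y, z, e1, e2, e3⟩ := H
  obtain ⟨k, rfl, rfl⟩ := not_not.1 e3
  refine (card_le_card (s := univ) (t := Finset.biUnion {y | R a y} fun y => {z | R y z}) fun w _ => ?_).trans
    (card_biUnion_le.trans (by simp only [r3]; simp [sq, R]))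
  by_cases e : R a w
  · exact mem_biUnion.2 ⟨a, by simpa using r2 a, by simpa⟩
  obtain ⟨l, l1, rfl⟩ := not_not.1 e
  refine mem_biUnion.2 ⟨(l * k⁻¹) • y, ?_, ?_⟩
  · simpa [mul_smul, l1] using (r1 (l * k⁻¹) _ _).2 e1
  · simpa [mul_smul] using (r1 (l * k⁻¹) _ _).2 e2

theorem babai {g : G} (hg : g ≠ 1) : Fintype.card X ≤ (#{x : X | g • x ≠ x} * 2 + 1) ^ 2 := by
  classical
  by_cases h2 : IsMultiplyPretransitive G X 2
  · have := (two_bound h hA h2 hg).trans (Nat.pow_le_pow_left (Nat.sub_le _ 1) 2)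
    have h3 : 0 < #{x : X | g • x ≠ x} :=
      card_pos.2 ((not_forall.1 (mt (eq_one_of_forall_smul (X := X)) hg)).imp (by simp))
    nlinarith [Nat.sub_le_iff_le_add.1 this]
  set m := #{x : X | g • x ≠ x}
  let C : ℕ → G → Prop := fun n c => #{x : X | c • x ≠ x} ≤ n
  have c1 : ∀ {n n' c c'}, C n c → C n' c' → C (n + n') (c * c') := fun {n n' c c'} a b =>
    (card_le_card (t := filter (fun x : X => c • x ≠ x) univ ∪ filter (fun x : X => c' • x ≠ x) univ) fun x hx => by_contra fun e => by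
      simp_all [mul_smul]).trans ((card_union_le ..).trans (add_le_add a b))
  have c2 : ∀ {n c} k, C n c → C n (k * c * k⁻¹) := fun {n c} k a => le_of_eq_of_le
    (card_equiv (toPerm k⁻¹) fun x => by simp [mul_smul, smul_eq_iff_eq_inv_smul]) a
  have c3 : ∀ {n c}, C n c → C n c⁻¹ := fun a => by simpa [C, inv_smul_eq_iff, eq_comm (b := _ • _)] using a
  have cl : ∀ O : Set X, (∀ c, C m c → ∀ x ∈ O, c • x ∈ O) → ∀ x ∈ O, ∀ y, y ∈ O := fun O hO x hx y => by
    have : (Subgroup.closure {c | C m c}).Normal := ⟨fun n hn k => (Subgroup.closure_le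
      ((Subgroup.closure _).comap (MulAut.conj k).toMonoidHom)).2
        (fun c hc => Subgroup.subset_closure (c2 k hc)) hn⟩
    obtain ⟨⟨k, hk⟩, rfl⟩ := (normal_pretransitive (X := X) (Subgroup.closure {c | C m c}) fun e =>
      hg (e.le (Subgroup.subset_closure (show C m g from le_rfl)))).exists_smul_eq x y
    induction hk using Subgroup.closure_induction_left with
    | one => simpa
    | mul_left c hc k _ ih => exact mul_smul c k x ▸ hO c hc _ ih
    | inv_mul_cancel c hc k _ ih => exact mul_smul c⁻¹ k x ▸ hO _ (c3 hc) _ ih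
  obtain ⟨a, ha⟩ := not_forall.1 (mt (eq_one_of_forall_smul (X := X)) hg)
  by_cases H : ∀ c d, C m c → C m d → ∀ e, C m e → ∃ c' d', C m c' ∧ C m d' ∧ c' • d' • a = e • c • d • a
  · by_contra! f
    have h3 := cl {y | ∃ c d, C m c ∧ C m d ∧ c • d • a = y}
      (by rintro e he _ ⟨c, d, a, b, rfl⟩; exact H c d a b e he) a ⟨1, 1, by simp [C]⟩
    have := card_mul_le_card_mul (s := univ.erase a) (t := univ.erase a) (m := m * 2 + 1) (n := m * 2)
      (fun x y => ¬ ∃ k : G, k • x = x ∧ k • a = y) (fun x hx => by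
        have := (f.trans_le (sq_bound h h2 (ne_of_mem_erase hx))).le
        refine (Nat.pow_le_pow_iff_left two_ne_zero).1 (this.trans_eq ?_)
        congr 2; ext y
        simpa using fun e f => e 1 (one_smul ..) (by simp [f])) fun y _ => by
        obtain ⟨c, d, a, b, rfl⟩ := h3 y
        refine (card_le_card fun x hx => ?_).trans (mul_two m ▸ c1 a b)
        simpa using fun e => (mem_filter.1 hx).2 ⟨_, e, mul_smul ..⟩
    have := Nat.le_of_mul_le_mul_left this (card_pos.2 ⟨g • a, by simpa⟩)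
    omega
  push Not at H
  obtain ⟨c, d, h3, h4, e, h5, H⟩ := H
  have h6 : #{y | ∃ c, C m c ∧ c • a = y} ≤ m + (m + m) := (card_le_card fun y hy => by
    obtain ⟨u, u1, rfl⟩ := (mem_filter.1 hy).2
    refine mem_filter.2 ⟨mem_univ _, fun f => H _ u (c2 (e * (c * d)) (c3 u1)) u1 ?_⟩
    rw [← f, mul_smul, inv_smul_smul, mul_smul, inv_smul_smul, mul_smul, mul_smul]).trans (c1 h5 (c1 h3 h4))
  choose! f f1 f2 using fun y (hy : y ∈ ({y | ∃ c, C m c ∧ c • a = y} : Finset X)) => (mem_filter.1 hy).2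
  have h7 := (card_le_card (s := univ.erase a) (t := Finset.biUnion {y | ∃ c, C m c ∧ c • a = y}
    fun y => {x | f y • x ≠ x}) fun x hx => by_contra fun g => by
      obtain ⟨k, k1, k2⟩ := cl {y | ∃ k : G, k • x = x ∧ k • a = y} (by
        rintro c hc _ ⟨k, k1, rfl⟩
        have : _ ∈ ({y | ∃ c, C m c ∧ c • a = y} : Finset X) := mem_filter.2 ⟨mem_univ _, _, c2 k⁻¹ hc, rfl⟩
        have e : f _ • x = x := not_not.1 fun e => g (mem_biUnion.2 ⟨_, this, mem_filter.2 ⟨mem_univ _, e⟩⟩)
        exact ⟨k * _, by rw [mul_smul, e, k1], by rw [mul_smul, f2 _ this]; simp [mul_smul]⟩) a ⟨1, by simp⟩ x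
      exact ne_of_mem_erase hx (MulAction.injective k (k1.trans k2.symm))).trans
    (card_biUnion_le.trans (sum_le_card_nsmul _ _ m f1))
  rw [card_erase_of_mem (mem_univ a), card_univ, smul_eq_mul] at h7
  nlinarith [Nat.sub_le_iff_le_add.1 h7, Nat.mul_le_mul_right m h6]

end CA.MinDeg
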