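import Mathlib.NumberTheory.Padics.PadicVal.Basic
import Mathlib.Data.Nat.Choose.Basic
import Mathlib.Tactic

/-! Arithmetic of the largest order of a nilpotent subgroup of a symmetric group. -/

set_option autoImplicit false

namespace CA.NilS1

open Nat

/-- the `2`-part of `n!` -/
def s (n : ℕ) : ℕ := 2 ^ padicValNat 2 n !

theorem s_pos (n : ℕ) : 0 < s n := pow_pos two_pos _

theorem dvd_s {n j : ℕ} (h : 2 ^ j ∣ n !) : 2 ^ j ∣ s n :=
  pow_dvd_pow 2 ((padicValNat_dvd_iff_le n.factorial_ne_zero).1 h)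

theorem s_add (a b : ℕ) : s a * s b ≤ s (a + b) := by
  refine le_of_dvd (s_pos _) ?_
  rw [s, s, ← pow_add]
  refine dvd_s (dvd_trans ?_ (factorial_mul_factorial_dvd_factorial_add a b))
  rw [pow_add]
  exact mul_dvd_mul pow_padicValNat_dvd pow_padicValNat_dvd

theorem s_two (n : ℕ) : s (2 * n) = 2 ^ n * s n := by
  rw [s, padicValNat_factorial_mul, pow_add, mul_comm, s]

theorem s_odd (n : ℕ) : s (2 * n + 1) = s (2 * n) := by
  rw [s, padicValNat_factorial_mul_add n one_lt_two, s]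

theorem s0 : s 0 = 1 := by simp [s]
theorem s1 : s 1 = 1 := by simp [s]
theorem s2 : s 2 = 2 := by simpa [s1] using s_two 1
theorem s3 : s 3 = 2 := by simpa [s2] using s_odd 1
theorem s4 : s 4 = 8 := by simpa [s2] using s_two 2
theorem s6 : s 6 = 16 := by simpa [s3] using s_two 3
theorem s8 : s 8 = 128 := by simpa [s4] using s_two 4

theorem s_mono {a b : ℕ} (h : a ≤ b) : s a ≤ s b := by
  obtain ⟨c, rfl⟩ := exists_add_of_le h
  exact (Nat.le_mul_of_pos_right _ (s_pos c)).trans (s_add a c)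

theorem s41 (t : ℕ) : s (4 * t + 1) = s (4 * t) := by
  simpa [← mul_assoc] using s_odd (2 * t)

theorem s42 (t : ℕ) : s (4 * t + 2) = 2 * s (4 * t) := by
  rw [show 4 * t + 2 = 2 * (2 * t + 1) by ring, show 4 * t = 2 * (2 * t) by ring, s_two, s_odd,
    s_two (2 * t)]
  ring

theorem s43 (t : ℕ) : s (4 * t + 3) = 2 * s (4 * t) := by
  rw [← s42, show 4 * t + 3 = 2 * (2 * t + 1) + 1 by ring, s_odd]
  ring_nf

/-- the bound for the symmetric group -/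
def f (n : ℕ) : ℕ := if n % 4 = 3 then 3 * s (n - 3) else s n

theorem f4 (t : ℕ) : f (4 * t) = s (4 * t) ∧ f (4 * t + 1) = s (4 * t) ∧ f (4 * t + 2) = 2 * s (4 * t) ∧
    f (4 * t + 3) = 3 * s (4 * t) := by
  refine ⟨if_neg (by omega), (if_neg (by omega)).trans (s41 t), (if_neg (by omega)).trans (s42 t),
    if_pos (by omega)⟩

theorem s_le_f (n : ℕ) : s n ≤ f n := by
  unfold f
  split_ifs with h
  · obtain ⟨t, rfl⟩ : ∃ t, n = 4 * t + 3 := ⟨n / 4, by omega⟩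
    rw [s43, Nat.add_sub_cancel]
    omega
  · rfl

theorem ex4 (n : ℕ) : ∃ t, n = 4 * t ∨ n = 4 * t + 1 ∨ n = 4 * t + 2 ∨ n = 4 * t + 3 :=
  ⟨n / 4, by omega⟩

theorem f_add (a b : ℕ) : f a * f b ≤ f (a + b) := by
  obtain ⟨t, ha⟩ := ex4 a
  obtain ⟨u, hb⟩ := ex4 b
  have h1 := s_add (4 * t) (4 * u)
  have h2 := s_add (4 * t + 4 * u) 4
  obtain ⟨a0, a1, a2, a3⟩ := f4 t
  obtain ⟨b0, b1, b2, b3⟩ := f4 u
  obtain ⟨c0, c1, c2, c3⟩ := f4 (t + u)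
  obtain ⟨d0, d1, d2, -⟩ := f4 (t + u + 1)
  rw [s4] at h2
  rcases ha with rfl | rfl | rfl | rfl <;> rcases hb with rfl | rfl | rfl | rfl <;>
    simp only [a0, a1, a2, a3, b0, b1, b2, b3] <;> ring_nf at h1 h2 c0 c1 c2 c3 d0 d1 d2 ⊢ <;>
    simp only [c0, c1, c2, c3, d0, d1, d2] <;> omega

theorem f_pow (a k : ℕ) : f a ^ k ≤ f (a * k) := by
  induction k with
  | zero => simp [f, s0]
  | succ k ih => exact (Nat.mul_le_mul_right _ ih).trans (f_add _ _)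

theorem fv : f 0 = 1 ∧ f 1 = 1 ∧ f 2 = 2 ∧ f 3 = 3 ∧ f 4 = 8 ∧ f 5 = 8 ∧ f 6 = 16 ∧ f 7 = 24 ∧
    f 8 = 128 ∧ f 9 = 128 ∧ f 10 = 256 ∧ f 11 = 384 := by
  have h0 := f4 0
  have h1 := f4 1
  have h2 := f4 2
  simp only [mul_zero, mul_one, s0, s4, s8, Nat.reduceMul, Nat.reduceAdd] at h0 h1 h2
  simp [h0, h1, h2]

theorem f_pos (n : ℕ) : 0 < f n := (s_pos n).trans_le (s_le_f n)

theorem f_mono {a b : ℕ} (h : a ≤ b) : f a ≤ f b := by
  obtain ⟨c, rfl⟩ := exists_add_of_le h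
  exact (Nat.le_mul_of_pos_right _ (f_pos c)).trans (f_add a c)

/-- twice the bound for the alternating group -/
def h (n : ℕ) : ℕ := if n ≤ 1 then 2 else if n = 3 then 6 else if n = 5 then 10 else
  if n = 6 then 18 else if n = 9 then 162 else f n

theorem h_gen {n : ℕ} (hn : n ≠ 0 ∧ n ≠ 1 ∧ n ≠ 3 ∧ n ≠ 5 ∧ n ≠ 6 ∧ n ≠ 9) : h n = f n := by
  simp [h, hn, show ¬ n ≤ 1 by omega]

theorem f_le_h (n : ℕ) : f n ≤ h n ∧ h n ≤ 2 * f n := by
  by_cases hn : n ≠ 0 ∧ n ≠ 1 ∧ n ≠ 3 ∧ n ≠ 5 ∧ n ≠ 6 ∧ n ≠ 9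
  · rw [h_gen hn]; omega
  · have := fv
    have hn : n = 0 ∨ n = 1 ∨ n = 3 ∨ n = 5 ∨ n = 6 ∨ n = 9 := by omega
    rcases hn with rfl | rfl | rfl | rfl | rfl | rfl <;> simp [h, this]

theorem fl : 1024 ≤ f 12 ∧ 2048 ≤ f 14 ∧ 3072 ≤ f 15 ∧ 16384 ≤ f 16 ∧ 32768 ≤ f 18 ∧ 131072 ≤ f 21 ∧
    262144 ≤ f 22 ∧ 3188646 ≤ f 27 := by
  have := fv
  have h1 := f_add 8 4
  have h2 := f_add 8 6
  have h3 := f_add 8 7
  have h4 := f_add 8 8
  have h5 := f_add 8 10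
  have h6 := f_add 5 16
  have h7 := f_add 6 16
  have h8 := f_add 11 16
  simp only [this, Nat.reduceAdd, Nat.reduceMul] at h1 h2 h3 h4 h5 h6 h7 h8
  omega

theorem h_add (a b : ℕ) : h a * h b ≤ 2 * h (a + b) := by
  have h1 := f_add a b
  have h2 := (f_le_h (a + b)).1
  by_cases ha : a ≠ 0 ∧ a ≠ 1 ∧ a ≠ 3 ∧ a ≠ 5 ∧ a ≠ 6 ∧ a ≠ 9
  · rw [h_gen ha]
    nlinarith [(f_le_h b).2]
  by_cases hb : b ≠ 0 ∧ b ≠ 1 ∧ b ≠ 3 ∧ b ≠ 5 ∧ b ≠ 6 ∧ b ≠ 9
  · rw [h_gen hb]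
    nlinarith [(f_le_h a).2]
  have := fv
  have := fl
  have ha : a = 0 ∨ a = 1 ∨ a = 3 ∨ a = 5 ∨ a = 6 ∨ a = 9 := by omega
  have hb : b = 0 ∨ b = 1 ∨ b = 3 ∨ b = 5 ∨ b = 6 ∨ b = 9 := by omega
  rcases ha with rfl | rfl | rfl | rfl | rfl | rfl <;>
    rcases hb with rfl | rfl | rfl | rfl | rfl | rfl <;> simp [h] <;> omega

theorem three_pow (k : ℕ) (h4 : 4 ≤ k) (h7 : k ≠ 7) : 3 ^ k ≤ f (2 * k) := by
  induction k using Nat.strong_induction_on with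
  | _ k ih =>
    have := fv
    have := fl
    by_cases hk : k = 4 ∨ k = 5 ∨ k = 6 ∨ k = 11
    · rcases hk with rfl | rfl | rfl | rfl <;> simp <;> omega
    obtain ⟨k, rfl⟩ : ∃ j, k = j + 4 := ⟨k - 4, by omega⟩
    have h1 := ih k (by omega) (by omega) (by omega)
    have h2 := f_add (2 * k) 8
    rw [pow_add, mul_add]
    simp only [*, Nat.reduceMul, Nat.reducePow] at h2 ⊢
    omega

theorem lin_le (p : ℕ) (h6 : 6 ≤ p) : 2 * (p + 1) ≤ f p := by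
  induction p using Nat.strong_induction_on with
  | _ p ih =>
    have := fv
    by_cases hk : p = 6 ∨ p = 7 ∨ p = 8 ∨ p = 9
    · rcases hk with rfl | rfl | rfl | rfl <;> omega
    obtain ⟨k, rfl⟩ : ∃ j, p = j + 4 := ⟨p - 4, by omega⟩
    have h1 := ih k (by omega) (by omega)
    have h2 := f_add k 4
    simp only [*] at h2
    omega

theorem pow_h {p : ℕ} (hp : p.Prime) (h2 : p ≠ 2) (k : ℕ) : p ^ k * h k ≤ h (p * k) := by
  have := fv
  have := fl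
  have hp2 := hp.two_le
  have h4 : p ≠ 4 := by rintro rfl; revert hp; decide
  have h6 : p ≠ 6 := by rintro rfl; revert hp; decide
  rcases k with _ | k
  · simp
  by_cases h3 : p = 3
  · subst h3
    by_cases hk : k = 0 ∨ k = 1 ∨ k = 2 ∨ k = 4 ∨ k = 5 ∨ k = 6 ∨ k = 8
    · rcases hk with rfl | rfl | rfl | rfl | rfl | rfl | rfl <;> simp [h] <;> omega
    rw [h_gen (by omega), show 3 * (k + 1) = 2 * (k + 1) + (k + 1) by ring]
    exact (Nat.mul_le_mul_right _ (three_pow _ (by omega) (by omega))).trans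
      ((f_add _ _).trans (f_le_h _).1)
  by_cases h5 : p = 5 ∧ k = 0
  · simp [h5, h]
  obtain ⟨p, rfl⟩ : ∃ q, p = q + 1 := ⟨p - 1, by omega⟩
  have key : 2 * (p + 1) ^ (k + 1) ≤ f p ^ (k + 1) := by
    by_cases h5 : p = 4
    · subst h5
      obtain ⟨k, rfl⟩ : ∃ j, k = j + 1 := ⟨k - 1, by omega⟩
      have := Nat.pow_le_pow_left (show 4 + 1 ≤ 8 by omega) k
      simp only [*, pow_succ]
      omega
    · refine le_trans ?_ (Nat.pow_le_pow_left (lin_le p (by omega)) _)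
      rw [mul_pow]
      exact Nat.mul_le_mul_right _ (Nat.le_self_pow (by omega) 2)
  calc (p + 1) ^ (k + 1) * h (k + 1) ≤ (p + 1) ^ (k + 1) * (2 * f (k + 1)) :=
        Nat.mul_le_mul_left _ (f_le_h _).2
    _ = 2 * (p + 1) ^ (k + 1) * f (k + 1) := by ring
    _ ≤ f (p * (k + 1)) * f (k + 1) := Nat.mul_le_mul_right _ (key.trans (f_pow _ _))
    _ ≤ _ := by rw [add_mul, one_mul]; exact (f_add _ _).trans (f_le_h _).1

theorem four_s {t k : ℕ} (hk : 2 ≤ k) (h : 3 * k ≤ 4 * t + 3) :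
    4 * (s (4 * t + 3 - 3 * k) * s k) ≤ s (4 * t) := by
  by_cases h2 : k = 2
  · subst h2
    obtain ⟨t, rfl⟩ : ∃ j, t = j + 1 := ⟨t - 1, by omega⟩
    have := s_add (4 * t) 4
    rw [show 4 * (t + 1) + 3 - 3 * 2 = 4 * t + 1 by omega, s41, s2, mul_add, mul_one]
    rw [s4] at this
    omega
  have h1 := s_add (4 * t + 3 - 3 * k) (3 * k - 3)
  rw [show 4 * t + 3 - 3 * k + (3 * k - 3) = 4 * t by omega] at h1
  refine le_trans ?_ h1
  rw [mul_left_comm]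
  refine Nat.mul_le_mul_left _ ?_
  by_cases h3 : k = 3
  · subst h3
    simp [s3, s6]
  have := s_add k 4
  have := s_mono (show k + 4 ≤ 3 * k - 3 by omega)
  rw [s4] at *
  omega

end CA.NilS1
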