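import Cfsg.Agent.Lib.Perm.NilS1
import Cfsg.Agent.Lib.Grp.NPC2
import Cfsg.Agent.Lib.Grp.PGBasic
import Cfsg.Agent.Lib.Grp.Rad
import Mathlib.GroupTheory.Perm.Centralizer
import Mathlib.GroupTheory.SpecificGroups.Alternating

/-! The largest order of a nilpotent subgroup of a symmetric or alternating group. -/

set_option autoImplicit false

namespace CA.NilS2

open Subgroup Equiv Equiv.Perm CA.NilS1

theorem two_mul_le {G : Type*} [Group G] [Finite G] {A B : Subgroup G} (h : A < B) :
    2 * Nat.card A ≤ Nat.card B := by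
  obtain ⟨k, hk⟩ := card_dvd_of_le h.le
  have h1 : Nat.card A ≠ Nat.card B := fun e => h.ne (eq_of_le_of_card_ge h.le e.ge)
  have h2 := Nat.card_pos (α := B)
  have : 2 ≤ k := by
    by_contra h
    push Not at h
    interval_cases k <;> omega
  nlinarith

theorem exists_central {G : Type*} [Group G] [Finite G] {N : Subgroup G} (hN : Group.IsNilpotent N)
    {p : ℕ} (hp : p.Prime) (h : p ∣ Nat.card N) :
    ∃ x ∈ N, orderOf x = p ∧ N ≤ centralizer {x} := by
  have := Fact.mk hp
  obtain ⟨P⟩ : Nonempty (Sylow p N) := inferInstance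
  have : (P : Subgroup N).Normal := inferInstance
  obtain ⟨x, h1, h2, h3⟩ := CA.PGBasic.exists_mem_center_of_nilpotent (M := (P : Subgroup N))
    (P.ne_bot_of_dvd_card h)
  obtain ⟨k, hk⟩ := IsPGroup.iff_orderOf.1 P.isPGroup' ⟨x, h1⟩
  rw [orderOf_mk] at hk
  have h4 : p ∣ orderOf x := hk ▸ dvd_pow_self p (by rintro rfl; exact h2 (by simpa using hk))
  refine ⟨(x ^ (orderOf x / p) : N), SetLike.coe_mem _, ?_, fun g hg => ?_⟩
  · rw [Subgroup.orderOf_coe, orderOf_pow_orderOf_div (orderOf_pos x).ne' h4]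
  · exact mem_centralizer_singleton_iff.2 (congrArg Subtype.val
      (mem_center_iff.1 (pow_mem h3 _) ⟨g, hg⟩))

/-- the statement proved by induction -/
def B (α : Type) [Fintype α] [DecidableEq α] : Prop :=
  ∀ N : Subgroup (Perm α), Group.IsNilpotent N → Nat.card N ≤ f (Fintype.card α) ∧
    (N ≤ alternatingGroup α → 2 * Nat.card N ≤ h (Fintype.card α))

variable {α : Type} [Fintype α] [DecidableEq α]

theorem nil_map {G H : Type*} [Group G] [Group H] {N : Subgroup G} (hN : Group.IsNilpotent N)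
    (φ : G →* H) : Group.IsNilpotent (N.map φ) :=
  Group.nilpotent_of_surjective _ (φ.subgroupMap_surjective N)

theorem split (q : α → Prop) [DecidablePred q] (h1 : B {a // q a}) (h2 : B {a // ¬ q a})
    (N : Subgroup (Perm α)) (hN : Group.IsNilpotent N) (hq : ∀ g ∈ N, ∀ a, q (g a) ↔ q a) :
    Nat.card N ≤ f (Fintype.card α) ∧
      (N ≤ alternatingGroup α → 2 * Nat.card N ≤ h (Fintype.card α)) := by
  have hr : N ≤ (subtypeCongrHom q).range := fun g hg =>
    ⟨(g.subtypePerm (hq g hg), g.subtypePerm fun a => not_congr (hq g hg a)), by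
      ext a
      by_cases h : q a <;> simp [subtypeCongrHom, h]⟩
  set M := N.comap (subtypeCongrHom q)
  have hM : M.map (subtypeCongrHom q) = N := map_comap_eq_self hr
  have e := M.equivMapOfInjective _ (subtypeCongrHom_injective q)
  rw [hM] at e
  have nM : Group.IsNilpotent M := Group.nilpotent_of_mulEquiv e.symm
  obtain ⟨a1, a2⟩ := h1 _ (nil_map nM (MonoidHom.fst _ _))
  obtain ⟨b1, b2⟩ := h2 _ (nil_map nM (MonoidHom.snd _ _))
  have hle : M ≤ (M.map (MonoidHom.fst _ _)).prod (M.map (MonoidHom.snd _ _)) := fun g hg =>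
    ⟨mem_map_of_mem _ hg, mem_map_of_mem _ hg⟩
  have hc := Nat.card_congr ((M.map (MonoidHom.fst _ _)).prodEquiv (M.map (MonoidHom.snd _ _))).toEquiv
  rw [Nat.card_prod] at hc
  have hs : Fintype.card α = Fintype.card {a // q a} + Fintype.card {a // ¬ q a} := by
    have := Fintype.card_subtype_le q
    rw [Fintype.card_subtype_compl]; omega
  have h3 := (Nat.mul_le_mul a1 b1).trans (f_add _ _)
  rw [← Nat.card_congr e.toEquiv, hs]
  refine ⟨(card_le_of_le hle).trans (hc ▸ h3), fun hA => ?_⟩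
  rcases hle.eq_or_lt with h4 | h4
  · have := (Nat.mul_le_mul (a2 fun g hg => ?_) (b2 fun g hg => ?_)).trans (h_add _ _)
    · rw [h4, hc]; nlinarith
    · simpa [subtypeCongrHom] using hA (h4.ge (show (g, 1) ∈ Subgroup.prod _ _ from ⟨hg, one_mem _⟩))
    · simpa [subtypeCongrHom] using hA (h4.ge (show (1, g) ∈ Subgroup.prod _ _ from ⟨one_mem _, hg⟩))
  · exact (two_mul_le h4).trans (hc ▸ h3.trans (f_le_h _).1)

open Equiv.Perm.OnCycleFactors in
theorem fpf {x : Perm α} {p : ℕ} (hp : p.Prime) (h2 : p ≠ 2) (hx : orderOf x = p)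
    (hs : x.support = Finset.univ) (h1 : B x.cycleFactorsFinset)
    (N : Subgroup (Perm α)) (hN : Group.IsNilpotent N) (hc : N ≤ centralizer {x}) :
    2 * Nat.card N ≤ h (Fintype.card α) := by
  have := Fact.mk hp
  have ht := cycleType_of_pow_prime_eq_one (hx ▸ pow_orderOf_eq_one x : x ^ p = 1)
  have hk : x.cycleType.card = Fintype.card x.cycleFactorsFinset := by simp [cycleType_def]
  rw [hk] at ht
  set k := Fintype.card x.cycleFactorsFinset
  have hn : Fintype.card α = p * k := by
    rw [← Finset.card_univ, ← hs, ← sum_cycleType, ht]; simp [mul_comm]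
  have hK : Nat.card (toPermHom x).ker = p ^ k := by
    rw [← CA.Rad.card_map_subtype, ← kerParam_range_eq, Nat.card_eq_fintype_card, kerParam_range_card,
      ht, hn]
    simp [mul_comm]
  set M := N.subgroupOf (centralizer {x})
  have nM : Group.IsNilpotent M := Group.nilpotent_of_mulEquiv (subgroupOfEquivOfLe hc).symm
  obtain ⟨a1, a2⟩ := h1 _ (nil_map nM (toPermHom x))
  have hM : Nat.card N = Nat.card ((toPermHom x).ker ⊓ M : Subgroup _) * Nat.card (M.map (toPermHom x)) := by
    rw [← relIndex_ker, CA.Rad.card_inf_mul_relIndex, CA.Rad.card_subgroupOf_of_le hc]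
  refine le_trans ?_ (hn ▸ pow_h hp h2 k)
  rw [hM, ← hK]
  by_cases hA : M.map (toPermHom x) ≤ alternatingGroup _
  · rw [mul_left_comm]
    exact Nat.mul_le_mul (card_le_of_le inf_le_left) (a2 hA)
  rw [← mul_assoc]
  refine Nat.mul_le_mul (two_mul_le (lt_of_le_of_ne inf_le_left fun e => hA ?_))
    (a1.trans (f_le_h _).1)
  rintro _ ⟨t, h3, rfl⟩
  obtain ⟨j, m, h4, h5⟩ := Nat.exists_eq_two_pow_mul_odd (orderOf_pos t).ne'
  have h6 : t ^ m ∈ (toPermHom x).ker := (mem_ker_toPermHom_iff _ _).2 fun c hc' => by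
    have h7 : (⟨c, mem_centralizer_singleton_iff.mpr (self_mem_cycle_factors_commute hc')⟩ :
        centralizer {x}) ∈ (toPermHom x).ker :=
      (mem_ker_toPermHom_iff _ _).2 fun d hd => cycleFactorsFinset_mem_commute' x hc' hd
    refine congrArg Subtype.val (CA.NPC2.commute_of_coprime_of_isNilpotent nM (pow_mem h3 m)
      (e.ge h7).2 (Nat.Coprime.coprime_dvd_left (orderOf_dvd_of_pow_eq_one (n := 2 ^ j) ?_)
      (Nat.Coprime.coprime_dvd_right (hK ▸ orderOf_dvd_natCard _ h7) ?_)))
    · rw [← pow_mul, mul_comm, ← h5, pow_orderOf_eq_one]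
    · exact Nat.Coprime.pow _ _ ((Nat.coprime_primes Nat.prime_two hp).2 h2.symm)
  have := congrArg sign (MonoidHom.mem_ker.1 h6)
  rw [map_pow, map_pow, map_one] at this
  refine (Int.units_eq_one_or _).resolve_right fun e => ?_
  rw [e, h4.neg_one_pow] at this
  exact absurd this (by decide)

theorem two_case {j : ℕ} (N : Subgroup (Perm α)) (hN : Nat.card N = 2 ^ j) :
    Nat.card N ≤ s (Fintype.card α) ∧
      (N ≤ alternatingGroup α → 2 * Nat.card N ≤ h (Fintype.card α)) := by
  have h1 : Nat.card (Perm α) = (Fintype.card α).factorial := by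
    rw [Nat.card_eq_fintype_card, Fintype.card_perm]
  have h2 := Nat.le_of_dvd (s_pos _) (dvd_s (hN ▸ h1 ▸ card_subgroup_dvd_card N))
  refine ⟨hN ▸ h2, fun hA => ?_⟩
  by_cases h3 : Fintype.card α ≤ 1
  · have := s_mono h3
    rw [s1] at this
    rw [h, if_pos h3]
    omega
  have := Fintype.one_lt_card_iff_nontrivial.1 (not_le.1 h3)
  refine (Nat.le_of_dvd (s_pos _) ?_).trans ((s_le_f _).trans (f_le_h _).1)
  rw [hN, ← pow_succ']
  refine dvd_s ?_
  rw [pow_succ', ← h1, ← two_mul_nat_card_alternatingGroup, ← hN]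
  exact Nat.mul_dvd_mul_left 2 (card_dvd_of_le hA)

theorem main (n : ℕ) : ∀ (α : Type) [Fintype α] [DecidableEq α], Fintype.card α = n → B α := by
  induction n using Nat.strong_induction_on with
  | _ n ih =>
  intro α _ _ hn N hN
  by_cases h0 : ∀ {d : ℕ}, d.Prime → d ∣ Nat.card N → d = 2
  · obtain ⟨h1, h2⟩ := two_case N (Nat.eq_prime_pow_of_unique_prime_dvd Nat.card_pos.ne' h0)
    exact ⟨h1.trans (s_le_f _), h2⟩
  push Not at h0
  obtain ⟨p, hp, h1, h2⟩ := h0
  obtain ⟨x, -, hx, hc⟩ := exists_central hN hp h1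
  have hx1 : x ≠ 1 := by rintro rfl; exact hp.one_lt.ne (by simpa using hx)
  by_cases hs : x.support = Finset.univ
  · have := fpf hp h2 hx hs (ih _ ?_ _ rfl) N hN hc
    · exact ⟨by have := (f_le_h (Fintype.card α)).2; omega, fun _ => this⟩
    · have := Fact.mk hp
      have ht := cycleType_of_pow_prime_eq_one (hx ▸ pow_orderOf_eq_one x : x ^ p = 1)
      have hk : x.cycleType.card = Fintype.card x.cycleFactorsFinset := by simp [cycleType_def]
      rw [← hk, ← hn, ← Finset.card_univ, ← hs, ← sum_cycleType, ht]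
      simpa using lt_mul_of_one_lt_right (card_cycleType_pos.2 hx1) hp.one_lt
  refine split (fun a => x a ≠ a) (ih _ ?_ _ rfl) (ih _ ?_ _ rfl) N hN fun g hg a => ?_
  · obtain ⟨a, ha⟩ : ∃ a, a ∉ x.support := by simpa [Finset.eq_univ_iff_forall] using hs
    exact hn ▸ Fintype.card_subtype_lt (mt mem_support.2 ha)
  · obtain ⟨a, ha⟩ := Finset.nonempty_iff_ne_empty.2 (mt support_eq_empty_iff.1 hx1)
    exact hn ▸ Fintype.card_subtype_lt (not_not.2 (mem_support.1 ha))
  · rw [← mul_apply, ← mem_centralizer_singleton_iff.1 (hc hg), mul_apply,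
      g.injective.ne_iff]

theorem bound {n : ℕ} (N : Subgroup (Perm (Fin n))) (hN : Group.IsNilpotent N) : Nat.card N ≤ f n := by
  simpa using (main n (Fin n) (by simp) N hN).1

theorem bound_alt {n : ℕ} (N : Subgroup (alternatingGroup (Fin n))) (hN : Group.IsNilpotent N) :
    2 * Nat.card N ≤ h n := by
  simpa only [CA.Rad.card_map_subtype, Fintype.card_fin] using
    (main n (Fin n) (by simp) _ (nil_map hN (alternatingGroup (Fin n)).subtype)).2 (map_subtype_le _)

theorem card_syl {n : ℕ} (P : Sylow 2 (Perm (Fin n))) : Nat.card P = s n := by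
  rw [P.card_eq_multiplicity, Nat.card_eq_fintype_card, Fintype.card_perm, Fintype.card_fin,
    Nat.factorization_def _ Nat.prime_two, s]

theorem card_syl_alt {n : ℕ} (hn : 2 ≤ n) (P : Sylow 2 (alternatingGroup (Fin n))) :
    2 * Nat.card P = s n := by
  have : Nontrivial (Fin n) := Fin.nontrivial_iff_two_le.2 hn
  have h := two_mul_nat_card_alternatingGroup (α := Fin n)
  rw [Nat.card_eq_fintype_card (α := Perm _), Fintype.card_perm, Fintype.card_fin] at h
  rw [P.card_eq_multiplicity, s, ← h, padicValNat.mul two_ne_zero Nat.card_pos.ne',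
    Nat.factorization_def _ Nat.prime_two, padicValNat_self, pow_add, pow_one]

end CA.NilS2
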