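import Cfsg.Agent.S5914
import Cfsg.Agent.Lib.Perm.PermMulti

/-! Direct powers of non-abelian simple groups and the core of the O'Nan–Scott theorem. -/

set_option autoImplicit false
open MulAction CA.PermBasic

namespace CA.ONS

theorem pow_of_min {H : Type*} [Group H] [Finite H] (N : Subgroup H) [N.Normal] (hN : N ≠ ⊥)
    (hmin : ∀ M : Subgroup H, M.Normal → M ≤ N → M = ⊥ ∨ M = N) :
    ∃ (T : Type) (_ : Group T) (m : ℕ), IsSimpleGroup T ∧ 0 < m ∧ Nonempty (N ≃* (Fin m → T)) := by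
  have := (Subgroup.nontrivial_iff_ne_bot N).2 hN
  obtain ⟨T, _, h1, m, h2, h3⟩ := (Cfsg.Agent.S5914.result (G := N)).1 fun K hK =>
    (hmin (K.map N.subtype) inferInstance (Subgroup.map_subtype_le _)).imp
      (Subgroup.map_eq_bot_iff_of_injective _ N.subtype_injective).1 fun e =>
      Subgroup.map_injective N.subtype_injective (by rw [e, ← MonoidHom.range_eq_map, N.range_subtype])
  exact ⟨T, _, m, h1, h2, h3⟩

variable {T ι : Type*} [Group T] [IsSimpleGroup T] (hT : ¬ IsMulCommutative T)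
include hT

theorem cen {a : T} (h : ∀ b, a * b = b * a) : a = 1 :=
  ((inferInstance : (Subgroup.center T).Normal).eq_bot_or_eq_top.resolve_right fun e =>
    hT ⟨⟨fun a b => Subgroup.mem_center_iff.1 (e ▸ Subgroup.mem_top b) a⟩⟩).le
    (Subgroup.mem_center_iff.2 fun b => (h b).symm)

theorem exists_conj {a b : T} (ha : a ≠ 1) (hb : b ≠ 1) : ∃ c, a * (c * b * c⁻¹) ≠ c * b * c⁻¹ * a := by
  by_contra! H
  refine ha (cen hT fun d => ?_)
  have := (Subgroup.normalClosure_normal (s := {b})).eq_bot_or_eq_top.resolve_left fun e =>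
    hb (e.le (Subgroup.subset_normalClosure rfl))
  refine (Subgroup.closure_le (Subgroup.centralizer {a})).2 (fun x hx => ?_) (this.ge trivial : d ∈ _) a rfl
  obtain ⟨_, rfl, e⟩ := Group.mem_conjugatesOfSet_iff.1 hx
  obtain ⟨c, rfl⟩ := isConj_iff.1 e
  rintro _ rfl
  exact H c

variable [Finite ι] [DecidableEq ι]

theorem hom_form (f : (ι → T) →* T) (hf : Function.Surjective f) :
    ∃ (i : ι) (α : T ≃* T), ∀ x, f x = α (x i) := by
  have key : ∀ y : ι → T, (∀ j, f (Pi.mulSingle j (y j)) = 1) → f y = 1 := fun y h =>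
    Subgroup.pi_mem_of_mulSingle_mem (H := f.ker) y h
  obtain ⟨i, s, hs⟩ : ∃ i s, f (Pi.mulSingle i s) ≠ 1 := by
    by_contra! H
    obtain ⟨a, ha⟩ := exists_ne (1 : T)
    obtain ⟨x, rfl⟩ := hf a
    exact ha (key x fun j => H j _)
  let g := f.comp (MonoidHom.mulSingle (fun _ => T) i)
  have h1 : g.range.Normal := ⟨by
    rintro _ ⟨a, rfl⟩ b
    obtain ⟨x, rfl⟩ := hf b
    refine ⟨x i * a * (x i)⁻¹, ?_⟩
    simp only [g, MonoidHom.comp_apply, ← map_mul, ← map_inv]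
    congr 1; ext j
    by_cases e : j = i <;> simp [e]⟩
  have h2 := MonoidHom.range_eq_top.1 (h1.eq_bot_or_eq_top.resolve_left fun e => hs (e.le ⟨s, rfl⟩))
  refine ⟨i, .ofBijective g ⟨g.ker_eq_bot_iff.1 (g.normal_ker.eq_bot_or_eq_top.resolve_right fun e =>
    hs (e.ge trivial : s ∈ g.ker)), h2⟩, fun x => ?_⟩
  refine eq_of_mul_inv_eq_one ((map_mul_inv f x (Pi.mulSingle i (x i))).symm.trans (key _ fun j => ?_))
  by_cases e : j = i
  · simp [e]
  refine cen hT fun b => ?_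
  obtain ⟨a, rfl⟩ := h2 b
  exact ((Pi.mulSingle_commute (f := fun _ => T) e _ _).map f).eq

theorem aut_form (φ : (ι → T) ≃* (ι → T)) :
    ∃ (τ : Equiv.Perm ι) (α : ι → T ≃* T), ∀ x j, φ x j = α j (x (τ j)) := by
  choose τ α h using fun j => hom_form hT ((Pi.evalMonoidHom (fun _ => T) j).comp φ.toMonoidHom)
    ((Function.surjective_eval j).comp φ.surjective)
  refine ⟨.ofBijective τ (Finite.injective_iff_bijective.1 fun j k e => by_contra fun f => ?_), α,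
    fun x j => h j x⟩
  obtain ⟨a, ha⟩ := exists_ne (1 : T)
  have h1 := h j (φ.symm (Pi.mulSingle j a))
  have h2 := h k (φ.symm (Pi.mulSingle j a))
  simp [Ne.symm f] at h1 h2
  exact ha (h1.trans (by rw [e, (map_eq_one_iff _ (α k).injective).1 h2.symm, map_one]))

/-- a factor not linked to any other lies in a subdirect product -/
theorem single_mem {R : Subgroup (ι → T)} (hR : ∀ i s, ∃ r ∈ R, r i = s) {i : ι}
    (h : ∀ j, j ≠ i → ¬ ∀ r ∈ R, r i = 1 ↔ r j = 1) (s : T) : Pi.mulSingle i s ∈ R := by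
  have nm : ∀ (f : T →* ι → T), (∀ r a, r * f a * r⁻¹ = f (r i * a * (r i)⁻¹)) →
      (R.comap f).Normal := fun f hf => ⟨fun a ha b => by
    obtain ⟨r, hr, rfl⟩ := hR i b
    exact Subgroup.mem_comap.2 (hf r a ▸ mul_mem (mul_mem hr ha) (inv_mem hr))⟩
  have h1 : ∀ j, j ≠ i → ∃ r ∈ R, r i ≠ 1 ∧ r j = 1 := fun j hj => by
    by_contra! H
    have := h j hj
    push Not at this
    obtain ⟨r, hr, ⟨e1, e2⟩ | ⟨e1, e2⟩⟩ := this
    swap
    · exact H r hr e1 e2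
    have h3 : ((R ⊓ (Pi.evalMonoidHom (fun _ => T) i).ker).map (Pi.evalMonoidHom _ j)).Normal := ⟨by
      rintro _ ⟨x, ⟨x1, x2⟩, rfl⟩ b
      obtain ⟨y, hy, rfl⟩ := hR j b
      exact ⟨y * x * y⁻¹, ⟨R.mul_mem (R.mul_mem hy x1) (R.inv_mem hy), by
        simp [show x i = 1 from x2]⟩, rfl⟩⟩
    obtain ⟨a, ha⟩ := exists_ne (1 : T)
    obtain ⟨x, hx, rfl⟩ := hR i a
    obtain ⟨y, ⟨y1, y2⟩, e⟩ := (h3.eq_bot_or_eq_top.resolve_left fun e =>
      e2 (e.le ⟨r, ⟨hr, e1⟩, rfl⟩)).ge (Subgroup.mem_top (x j))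
    exact H (x * y⁻¹) (mul_mem hx (R.inv_mem y1)) (by simpa [show y i = 1 from y2]) (by simp [← e])
  have h2 : ∀ S : Finset ι, ∃ r ∈ R, r i ≠ 1 ∧ ∀ j ∈ S, j ≠ i → r j = 1 := fun S => by
    induction S using Finset.induction with
    | empty => obtain ⟨a, ha⟩ := exists_ne (1 : T); simpa using (hR i a).imp fun r e => ⟨e.1, e.2 ▸ ha⟩
    | insert k S _ ih =>
      obtain ⟨x, x1, x2, x3⟩ := ih
      by_cases e : k = i
      · exact ⟨x, x1, x2, fun j hj e' => x3 j ((Finset.mem_insert.1 hj).resolve_left (e ▸ e')) e'⟩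
      obtain ⟨y, y1, y2, y3⟩ := h1 k e
      obtain ⟨c, hc⟩ := exists_conj hT x2 y2
      obtain ⟨z, z1, rfl⟩ := hR i c
      have z2 := mul_mem (mul_mem z1 y1) (inv_mem z1)
      refine ⟨x * (z * y * z⁻¹) * (z * y * z⁻¹ * x)⁻¹, mul_mem (mul_mem x1 z2) (inv_mem (mul_mem z2 x1)),
        fun f => hc (mul_inv_eq_one.1 f), fun j hj e' => ?_⟩
      rcases Finset.mem_insert.1 hj with rfl | hj
      · simp [y3]
      · simp [x3 j hj e']
  have := Fintype.ofFinite ι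
  obtain ⟨r, r1, r2, r3⟩ := h2 Finset.univ
  exact ((nm (MonoidHom.mulSingle (fun _ => T) i) fun r a => by
    ext j; by_cases e : j = i <;> simp [e]).eq_bot_or_eq_top.resolve_left fun e => r2 (e.le
      (show Pi.mulSingle i (r i) ∈ R by
        convert r1 using 1; ext j; by_cases e : j = i <;> simp [e, r3]))).ge trivial

omit [Finite ι] [DecidableEq ι] hT [IsSimpleGroup T] in
theorem link {R : Subgroup (ι → T)} (hR : ∀ i s, ∃ r ∈ R, r i = s) {i j : ι}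
    (h : ∀ r ∈ R, r i = 1 ↔ r j = 1) : ∃ β : T ≃* T, ∀ r ∈ R, r j = β (r i) := by
  choose f f1 f2 using hR
  have k1 : ∀ r ∈ R, ∀ r' ∈ R, r i = r' i ↔ r j = r' j := fun r hr r' hr' => by
    simpa [mul_inv_eq_one] using h _ (mul_mem hr (inv_mem hr'))
  refine ⟨⟨⟨fun s => f i s j, fun s => f j s i, fun s => ((k1 _ (f1 ..) _ (f1 ..)).2 (f2 ..)).trans (f2 ..),
    fun s => ((k1 _ (f1 ..) _ (f1 ..)).1 (f2 ..)).trans (f2 ..)⟩, fun a b =>
    (k1 _ (f1 ..) _ (mul_mem (f1 ..) (f1 ..))).1 (by simp [f2])⟩, fun r hr =>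
    (k1 _ hr _ (f1 ..)).1 (f2 ..).symm⟩

theorem core [Nonempty ι] (Φ : Set ((ι → T) ≃* (ι → T))) (R : Subgroup (ι → T))
    (h1 : ∀ φ ∈ Φ, ∀ x, φ x ∈ R ↔ x ∈ R)
    (h2 : ∀ L : Subgroup (ι → T), R ≤ L → (∀ φ ∈ Φ, ∀ x ∈ L, φ x ∈ L) → L = R ∨ L = ⊤)
    (h3 : ∀ i, ¬ ∀ s, Pi.mulSingle i s ∈ R)
    (h4 : ∀ L : Subgroup (ι → T), L.Normal → (∀ φ ∈ Φ, ∀ x ∈ L, φ x ∈ L) → L = ⊥ ∨ L = ⊤) :
    (∃ K : ι → Subgroup T, (∀ i, K i ≠ ⊤) ∧ ∀ x, x ∈ R ↔ ∀ i, x i ∈ K i) ∨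
    ∃ (e : (ι → T) ≃* (ι → T)) (k : ℕ) (c : ι → ι), 2 ≤ k ∧
      (∀ j, Nat.card {i // c i = j} = k ∨ Nat.card {i // c i = j} = 0) ∧
      ∀ x, x ∈ R ↔ ∀ i j, c i = c j → e x i = e x j := by
  by_cases hR : ∀ i s, ∃ r ∈ R, r i = s
  swap
  · let K := fun i => R.map (Pi.evalMonoidHom (fun _ => T) i)
    have h5 := (h2 (Subgroup.pi Set.univ K) (fun x hx i _ => ⟨x, hx, rfl⟩) fun φ hφ x hx j _ => by
      obtain ⟨τ, α, h⟩ := aut_form hT φ
      obtain ⟨r, r1, r2⟩ := hx (τ j) trivial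
      exact ⟨φ r, (h1 φ hφ r).2 r1, (h r j).trans (by rw [h, ← r2]; rfl)⟩).resolve_right fun e =>
        hR fun i s => (e.ge (Subgroup.mem_top fun _ => s) i trivial :)
    refine .inl ⟨K, fun i e => h3 i fun s => h5.le fun j _ => ?_, fun x => by
      rw [← h5]; simp [Subgroup.mem_pi]⟩
    by_cases f : j = i
    · exact show _ ∈ K j by rw [f, e]; trivial
    · simp [f]
  let ρ : Setoid ι := ⟨fun i j => ∀ r ∈ R, r i = 1 ↔ r j = 1, fun _ _ _ => Iff.rfl,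
    fun h r e => (h r e).symm, fun h h' r e => (h r e).trans (h' r e)⟩
  let c : ι → ι := fun i => (Quotient.mk ρ i).out
  have c1 : ∀ i j, c i = c j ↔ ρ i j := fun i j => Quotient.out_inj.trans Quotient.eq
  choose β hβ using fun i => link hR (i := c i) (j := i) (Quotient.mk_out (s := ρ) i)
  have c2 : ∀ i, ∃ j, j ≠ i ∧ ρ i j := fun i => by_contra fun e =>
    h3 i (single_mem hT hR fun j hj f => e ⟨j, hj, f⟩)
  have c3 : ∀ φ ∈ Φ, ∀ (τ : Equiv.Perm ι) (α : ι → T ≃* T), (∀ x j, φ x j = α j (x (τ j))) →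
      ∀ i j, ρ (τ i) (τ j) ↔ ρ i j := fun φ hφ τ α h i j => ⟨fun e r hr => by
    obtain ⟨r, rfl⟩ := φ.surjective r
    simpa [h] using e r ((h1 φ hφ r).1 hr), fun e r hr => by simpa [h] using e _ ((h1 φ hφ r).2 hr)⟩
  obtain ⟨a, ha⟩ := exists_ne (1 : T)
  obtain ⟨i₀⟩ := ‹Nonempty ι›
  let L : Subgroup (ι → T) := ⨅ i, ⨅ j, ⨅ _ : ρ i j, (R.map ((Pi.evalMonoidHom (fun _ => T) i).prod
    (Pi.evalMonoidHom _ j))).comap ((Pi.evalMonoidHom (fun _ => T) i).prod (Pi.evalMonoidHom _ j))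
  have l1 : ∀ x, x ∈ L ↔ ∀ i j, ρ i j → ∃ r ∈ R, r i = x i ∧ r j = x j := fun x => by
    simp [L, Subgroup.mem_iInf]
  have l2 := (h2 L (fun x hx => (l1 x).2 fun _ _ _ => ⟨x, hx, rfl, rfl⟩) fun φ hφ x hx =>
    (l1 _).2 fun i j e => by
      obtain ⟨τ, α, h⟩ := aut_form hT φ
      obtain ⟨r, r1, r2, r3⟩ := (l1 x).1 hx _ _ ((c3 φ hφ τ α h i j).2 e)
      exact ⟨φ r, (h1 φ hφ r).2 r1, by rw [h, h, r2], by rw [h, h, r3]⟩).resolve_right fun e => by
        obtain ⟨j, j1, j2⟩ := c2 i₀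
        obtain ⟨r, r1, r2, r3⟩ := (l1 (Pi.mulSingle i₀ a)).1 (e.ge trivial) _ _ j2
        exact ha (by simpa [r2] using (j2 r r1).2 (by simpa [j1] using r3))
  let n : ι → ℕ := fun i => Nat.card {j // ρ j i}
  have n1 := (h4 (Subgroup.pi {i | n i = n i₀} ⊥) ⟨fun x hx y i hi => by
    simp [show x i = 1 from hx i hi]⟩ fun φ hφ x hx i hi => by
      obtain ⟨τ, α, h⟩ := aut_form hT φ
      have : n (τ i) = n i := (Nat.card_congr (τ.subtypeEquiv fun j => (c3 φ hφ τ α h j i).symm)).symm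
      simp [h, show x (τ i) = 1 from hx _ (this.trans hi)]).resolve_right fun e =>
        ha (e.ge (Subgroup.mem_top fun _ => a) i₀ rfl)
  refine .inr ⟨MulEquiv.piCongrRight fun i => (β i).symm, n i₀, c, ?_, fun j => ?_, fun x =>
    ⟨fun hx i j e => by simp [hβ i x hx, hβ j x hx, e], fun H => l2.le ((l1 x).2 fun i j e => ?_)⟩⟩
  · obtain ⟨j, j1, j2⟩ := c2 i₀
    exact Finite.one_lt_card_iff_nontrivial.2 ⟨⟨j, ρ.symm j2⟩, ⟨i₀, ρ.refl _⟩, by simpa⟩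
  · by_cases e : ∃ i, c i = j
    · obtain ⟨i, rfl⟩ := e
      simp only [c1]
      refine .inl (by_contra fun f => ha ?_)
      simpa using congrFun (Subgroup.mem_bot.1 (n1.le (show Pi.mulSingle i a ∈ _ from fun k hk => by
        rw [Pi.mulSingle_eq_of_ne (by rintro rfl; exact f hk)]; exact rfl))) i
    · exact .inr (Nat.card_eq_zero.2 (.inl ⟨fun i => e ⟨i, i.2⟩⟩))
  · obtain ⟨r, r1, r2⟩ := hR (c i) ((β i).symm (x i))
    have := H i j ((c1 i j).2 e)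
    exact ⟨r, r1, by simp [hβ i r r1, r2], by
      rw [hβ j r r1, ← (c1 i j).2 e, r2]; exact (β j).eq_symm_apply.1 this⟩

end CA.ONS
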