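import Cfsg.Agent.Lib.Perm.NilS2
import Cfsg.Agent.Lib.Perm.HallSn5

/-! Sylow `2`-subgroups of symmetric groups: the invariant matching; they are self-normalizing. -/

set_option autoImplicit false
set_option linter.unusedSectionVars false

namespace CA.SymSyl1

open Subgroup Equiv Equiv.Perm CA.NilS1 CA.NilS2 Equiv.Perm.OnCycleFactors

variable {α : Type} [Fintype α] [DecidableEq α]

theorem card_perm' : Nat.card (Perm α) = (Fintype.card α).factorial := by
  rw [Nat.card_eq_fintype_card, Fintype.card_perm]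

theorem conj_le {K T : Subgroup (Perm α)} (hK : s (Fintype.card α) ∣ Nat.card K) (hT : IsPGroup 2 T) :
    ∃ g : Perm α, ∀ x ∈ T, g * x * g⁻¹ ∈ K := by
  refine (CA.HallSn.kp Nat.prime_two (H := K) (L := ⊤) (fun h => ?_) hT le_top).imp fun g h => h.2
  rw [relIndex_top_right] at h
  have h1 := Nat.mul_dvd_mul hK h
  rw [K.card_mul_index, card_perm', s, ← pow_succ] at h1
  have := dvd_s h1
  rw [s, Nat.pow_dvd_pow_iff_le_right one_lt_two] at this
  omega

/-- an involution with at most one fixed point -/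
structure Mt (m : Perm α) : Prop where
  sq : ∀ x, m (m x) = x
  fix : ∀ x y, m x = x → m y = y → x = y

variable {m : Perm α} {T : Subgroup (Perm α)}

theorem Mt.cyc (h : Mt m) : m.cycleType = Multiset.replicate (Fintype.card α / 2) 2 ∧
    Fintype.card m.cycleFactorsFinset = Fintype.card α / 2 := by
  have ht := cycleType_of_pow_prime_eq_one (σ := m) (p := 2) (by ext x; simp [pow_two, h.sq])
  have hk : m.cycleType.card = Fintype.card m.cycleFactorsFinset := by simp [cycleType_def]
  have h1 := m.sum_cycleType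
  have h2 : m.supportᶜ.card ≤ 1 := Finset.card_le_one.2 fun x hx y hy =>
    h.fix x y (by simpa using hx) (by simpa using hy)
  have h3 := Finset.card_le_univ m.support
  rw [ht, Multiset.sum_replicate, smul_eq_mul] at h1
  rw [Finset.card_compl] at h2
  have h4 : m.cycleType.card = Fintype.card α / 2 := by omega
  exact ⟨h4 ▸ ht, hk ▸ h4⟩

theorem s_half (n : ℕ) : s n = 2 ^ (n / 2) * s (n / 2) := by
  obtain ⟨k, rfl | rfl⟩ := n.even_or_odd'
  · rw [s_two]; simp
  · rw [s_odd, s_two, show (2 * k + 1) / 2 = k by omega]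

theorem Mt.card_ker (h : Mt m) : Nat.card (toPermHom m).ker = 2 ^ (Fintype.card α / 2) := by
  rw [← CA.Rad.card_map_subtype, ← kerParam_range_eq, Nat.card_eq_fintype_card, kerParam_range_card,
    h.cyc.1]
  have : Fintype.card α - Fintype.card α / 2 * 2 = 0 ∨ Fintype.card α - Fintype.card α / 2 * 2 = 1 := by
    omega
  rcases this with e | e <;> simp [e]

theorem exists_mt (hT : IsPGroup 2 T) : ∃ m, Mt m ∧ T ≤ centralizer {m} := by
  obtain ⟨m, hm⟩ := (exists_with_cycleType_iff α (m := Multiset.replicate (Fintype.card α / 2) 2)).2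
    ⟨by simp; omega, fun a ha => (Multiset.eq_of_mem_replicate ha).ge⟩
  have h1 : m ^ 2 = 1 := pow_prime_eq_one_iff.2 fun c hc => Multiset.eq_of_mem_replicate (hm ▸ hc)
  have h2 : m.supportᶜ.card ≤ 1 := by
    rw [Finset.card_compl, ← sum_cycleType, hm]; simp; omega
  obtain ⟨g, hg⟩ := conj_le (K := centralizer {m}) (by
    rw [nat_card_centralizer, hm, s_half, mul_assoc]
    refine Dvd.dvd.mul_left (Nat.mul_dvd_mul (by simp) ?_) _
    by_cases h : Fintype.card α / 2 = 0
    · simp [h, s0]
    · simpa [h, s] using pow_padicValNat_dvd) hT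
  refine ⟨g⁻¹ * m * g, ⟨fun x => ?_, fun x y hx hy => g.injective (Finset.card_le_one.1 h2 _ ?_ _ ?_)⟩,
    fun t ht => mem_centralizer_singleton_iff.2 ?_⟩
  · have := congrArg (fun σ : Perm α => σ (g x)) h1
    simp only [pow_two, mul_apply] at this
    simp [this]
  · simpa [eq_comm, eq_symm_apply] using hx
  · simpa [eq_comm, eq_symm_apply] using hy
  · calc t * (g⁻¹ * m * g) = g⁻¹ * (g * t * g⁻¹ * m) * g := by group
      _ = _ := by rw [mem_centralizer_singleton_iff.1 (hg t ht)]; group

theorem cen_apply {t : Perm α} (h : t ∈ centralizer {m}) (x : α) : m (t x) = t (m x) := by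
  rw [← mul_apply, ← mem_centralizer_singleton_iff.1 h, mul_apply]

theorem mem_cen {t : Perm α} (h : ∀ x, m (t x) = t (m x)) : t ∈ centralizer {m} :=
  mem_centralizer_singleton_iff.2 (Equiv.ext fun x => (h x).symm)

theorem Mt.struct (h : Mt m) (hT : Nat.card T = s (Fintype.card α)) (hc : T ≤ centralizer {m}) :
    (toPermHom m).ker ≤ T.subgroupOf _ ∧ Nat.card ((T.subgroupOf _).map (toPermHom m)) =
      s (Fintype.card m.cycleFactorsFinset) := by
  set M := T.subgroupOf (centralizer {m})
  have hM : Nat.card T = Nat.card ((toPermHom m).ker ⊓ M : Subgroup _) *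
      Nat.card (M.map (toPermHom m)) := by
    rw [← relIndex_ker, CA.Rad.card_inf_mul_relIndex, CA.Rad.card_subgroupOf_of_le hc]
  have h1 := card_le_of_le (inf_le_left : (toPermHom m).ker ⊓ M ≤ _)
  obtain ⟨j, hj⟩ := IsPGroup.iff_card.1
    (((IsPGroup.of_card hT).comap_subtype (K := centralizer {m})).map (toPermHom m))
  have h2 : Nat.card (M.map (toPermHom m)) ≤ _ := (two_case _ hj).1
  rw [hT, s_half, ← h.card_ker, ← h.cyc.2] at hM
  have h3 : 0 < Nat.card (toPermHom m).ker := Nat.card_pos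
  have h4 := s_pos (Fintype.card m.cycleFactorsFinset)
  exact ⟨inf_eq_left.1 (eq_of_le_of_card_ge inf_le_left (by nlinarith)), by nlinarith⟩

theorem Mt.swap_mem (h : Mt m) (hT : Nat.card T = s (Fintype.card α)) (hc : T ≤ centralizer {m})
    (x : α) : swap x (m x) ∈ T := by
  by_cases hx : m x = x
  · rw [hx, swap_self]; exact one_mem _
  have h1 : swap x (m x) ∈ m.cycleFactorsFinset := mem_cycleFactorsFinset_iff.2
    ⟨isCycle_swap (Ne.symm hx), fun a ha => by
      rw [support_swap (Ne.symm hx)] at ha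
      rcases Finset.mem_insert.1 ha with rfl | ha
      · simp
      · rw [Finset.mem_singleton.1 ha]; simp [h.sq]⟩
  exact (h.struct hT hc).1 (show (⟨_, mem_centralizer_singleton_iff.mpr
    (self_mem_cycle_factors_commute h1)⟩ : centralizer {m}) ∈ _ from
    (mem_ker_toPermHom_iff _ _).2 fun d hd => cycleFactorsFinset_mem_commute' m h1 hd)

theorem Mt.cen_of (h : Mt m) {g : Perm α} (hg : ∀ x, m x ≠ x → m (g x) = g (m x)) :
    g ∈ centralizer {m} := mem_cen fun x => by
  by_contra h1
  have hx : m x = x := by_contra fun e => h1 (hg x e)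
  obtain ⟨y, hy⟩ := g.surjective (m (g x))
  have h2 : y ≠ x := by rintro rfl; exact h1 (by rw [← hy, hx])
  have := hg y fun e => h2 (h.fix _ _ e hx)
  rw [hy, h.sq, g.injective.eq_iff] at this
  exact h2 (by rw [← h.sq y, ← this, hx])

theorem moved {σ : Perm α} (h : σ ∈ centralizer {m}) {u : α} (hu : σ u ≠ u) : σ (m u) ≠ m u := by
  rw [← cen_apply h]; exact m.injective.ne hu

theorem Mt.eq_of (h : Mt m) {u v : α} (huv : u ≠ v) (h1 : m u = u ∨ m u = v) (h2 : m v = u ∨ m v = v) :
    m u = v := h1.resolve_left fun e => h2.elim (fun e' => huv (m.injective (e.trans e'.symm)))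
      fun e' => huv (h.fix _ _ e e')

theorem self_norm (n : ℕ) : ∀ (α : Type) [Fintype α] [DecidableEq α], Fintype.card α = n →
    ∀ T : Subgroup (Perm α), Nat.card T = s n → ∀ g : Perm α, (∀ t ∈ T, g * t * g⁻¹ ∈ T) → g ∈ T := by
  induction n using Nat.strong_induction_on with
  | _ n ih =>
  intro α _ _ hn T hT g hg
  subst hn
  by_cases h0 : Fintype.card α = 0
  · have := Fintype.card_eq_zero_iff.1 h0
    rw [Subsingleton.elim g 1]; exact one_mem _
  obtain ⟨m, h, hc⟩ := exists_mt (IsPGroup.of_card hT)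
  have h1 : g ∈ centralizer {m} := h.cen_of fun x hx => by
    have h2 := hc (hg _ (h.swap_mem hT hc x))
    rw [← swap_apply_apply] at h2
    have h3 : g x ≠ g (m x) := g.injective.ne hx.symm
    refine h.eq_of h3 ?_ ?_
    · by_contra e
      push Not at e
      exact moved h2 (u := g x) (by simpa using h3.symm) (swap_apply_of_ne_of_ne e.1 e.2)
    · by_contra e
      push Not at e
      exact moved h2 (u := g (m x)) (by simpa using h3) (swap_apply_of_ne_of_ne e.1 e.2)
  obtain ⟨h2, h3⟩ := h.struct hT hc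
  obtain ⟨t, h4, h5⟩ := ih _ (by rw [h.cyc.2]; omega) _ rfl _ h3 (toPermHom m ⟨g, h1⟩) (by
    rintro _ ⟨t, ht, rfl⟩
    exact ⟨⟨g, h1⟩ * t * ⟨g, h1⟩⁻¹, hg _ ht, by simp⟩)
  exact (Subgroup.mul_mem_cancel_left _ (inv_mem h4)).1
    (h2 (show t⁻¹ * ⟨g, h1⟩ ∈ _ by rw [MonoidHom.mem_ker, map_mul, map_inv, h5, inv_mul_cancel]))

theorem Mt.pick (h : Mt m) (A : Finset α) (hA : A.card + 1 < Fintype.card α) :
    ∃ y, y ∉ A ∧ m y ≠ y := by
  obtain ⟨a, ha, b, hb, hab⟩ := Finset.one_lt_card.1
    (show 1 < Aᶜ.card by rw [Finset.card_compl]; omega)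
  by_contra e
  push Not at e
  exact hab (h.fix _ _ (e a (Finset.mem_compl.1 ha)) (e b (Finset.mem_compl.1 hb)))

theorem card_le2 (a b : α) : ({a, b} : Finset α).card ≤ 2 := Finset.card_le_two

theorem card_le4 (a b c d : α) : ({a, b, c, d} : Finset α).card ≤ 4 := Finset.card_le_four

theorem self_norm_alt (h6 : 6 ≤ Fintype.card α) (hT : Nat.card T = s (Fintype.card α)) {g : Perm α}
    (hg : ∀ t ∈ T, sign t = 1 → g * t * g⁻¹ ∈ T) : g ∈ T := by
  obtain ⟨m, h, hc⟩ := exists_mt (IsPGroup.of_card hT)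
  have h1 : g ∈ centralizer {m} := h.cen_of fun x hx => by
    obtain ⟨y, y1, y2⟩ := h.pick {x, m x} (by have := card_le2 x (m x); omega)
    obtain ⟨z, z1, z2⟩ := h.pick {x, m x, y, m y} (by have := card_le4 x (m x) y (m y); omega)
    simp only [Finset.mem_insert, Finset.mem_singleton, not_or] at y1 z1
    have key : ∀ y, y ≠ x → y ≠ m x → m y ≠ y → ∀ u, u = x ∨ u = m x →
        (m (g u) = g x ∨ m (g u) = g (m x)) ∨ m (g u) = g y ∨ m (g u) = g (m y) := by
      intro y y1 y2 y3 u hu
      have h2 := hc (hg _ (mul_mem (h.swap_mem hT hc x) (h.swap_mem hT hc y))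
        (by simp [hx.symm, y3.symm]))
      rw [← conj_mul, ← swap_apply_apply, ← swap_apply_apply] at h2
      by_contra e
      push Not at e
      refine moved h2 (u := g u) ?_ (by
        rw [mul_apply, swap_apply_of_ne_of_ne e.2.1 e.2.2, swap_apply_of_ne_of_ne e.1.1 e.1.2])
      have y4 : m y ≠ x := fun e => y2 (by rw [← e, h.sq])
      have y5 : m y ≠ m x := m.injective.ne y1
      rcases hu with rfl | rfl
      · rw [mul_apply, swap_apply_of_ne_of_ne (g.injective.ne y1.symm) (g.injective.ne y4.symm)]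
        simpa using hx
      · rw [mul_apply, swap_apply_of_ne_of_ne (g.injective.ne y2.symm) (g.injective.ne y5.symm)]
        simpa using hx.symm
    have key2 : ∀ u, u = x ∨ u = m x → m (g u) = g x ∨ m (g u) = g (m x) := fun u hu =>
      (key y y1.1 y1.2 y2 u hu).elim id fun a => (key z z1.1 z1.2.1 z2 u hu).elim id fun b => by
        exfalso
        rcases a with a | a <;> rcases b with b | b <;> rw [a, g.injective.eq_iff] at b
        · exact z1.2.2.1 b.symm
        · exact z1.2.2.2 (by rw [b, h.sq])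
        · exact z1.2.2.2 b.symm
        · exact z1.2.2.1 (m.injective b.symm)
    exact h.eq_of (g.injective.ne hx.symm) (key2 _ (Or.inl rfl)) (key2 _ (Or.inr rfl))
  refine self_norm _ α rfl T hT g fun t ht => (Int.units_eq_one_or (sign t)).elim (hg t ht) fun e => ?_
  obtain ⟨x, -, hx⟩ := h.pick ∅ (by simp; omega)
  have h2 := hg _ (mul_mem (h.swap_mem hT hc x) ht) (by simp [hx.symm, e])
  rw [← conj_mul, ← swap_apply_apply, ← cen_apply h1] at h2
  exact (Subgroup.mul_mem_cancel_left _ (h.swap_mem hT hc _)).1 h2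

theorem exists_syl (R : Sylow 2 (alternatingGroup α)) : ∃ T : Subgroup (Perm α),
    Nat.card T = s (Fintype.card α) ∧ (R : Subgroup _) = T.subgroupOf (alternatingGroup α) := by
  obtain ⟨T, hT⟩ := (R.isPGroup'.map (Subgroup.subtype _)).exists_le_sylow
  refine ⟨T, ?_, (R.is_maximal' T.isPGroup'.comap_subtype (map_le_iff_le_comap.1 hT)).symm⟩
  rw [T.card_eq_multiplicity, card_perm', Nat.factorization_def _ Nat.prime_two, s]

end CA.SymSyl1
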