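import Cfsg.Agent.Lib.Perm.SymSyl1
import Cfsg.Agent.Lib.Grp.H10BF

/-! Overgroups of Sylow `2`-subgroups of symmetric and alternating groups. -/

set_option autoImplicit false
set_option linter.unusedSectionVars false

namespace CA.SymSyl2

open Subgroup Equiv Equiv.Perm CA.NilS1 CA.NilS2 CA.SymSyl1 CA.HallSn CA.PartStab MulAction
open scoped Pointwise

variable {α : Type} [Fintype α] [DecidableEq α] {m : Perm α} {T H : Subgroup (Perm α)}

theorem exists_fix {k : ℕ} (hk : 2 ≤ k) (hn : Fintype.card α = 2 ^ k + 1)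
    (hT : Nat.card T = s (Fintype.card α)) (h : Mt m) (hc : T ≤ centralizer {m}) :
    ∃ o, m o = o ∧ (∀ t ∈ T, t o = o) ∧
      ∀ x y, x ≠ o → y ≠ o → ∃ t ∈ T, sign t = 1 ∧ t x = y := by
  have h4 : 2 ^ 2 ≤ 2 ^ k := Nat.pow_le_pow_right two_pos hk
  obtain ⟨o, ho⟩ : ∃ o, m o = o := by
    by_contra e
    have h1 := m.sum_cycleType
    rw [h.cyc.1, Finset.eq_univ_of_forall fun x => mem_support.2 fun e' => e ⟨x, e'⟩, Finset.card_univ,
      hn, Multiset.sum_replicate, smul_eq_mul, show k = k - 1 + 1 by omega, pow_succ] at h1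
    omega
  have h1 : ∀ t ∈ T, t o = o := fun t ht => h.fix _ _ (by rw [cen_apply (hc ht), ho]) ho
  refine ⟨o, ho, h1, fun x y hx hy => ?_⟩
  obtain ⟨c, h2, -⟩ := exists_cy (α := α) (t := 2 ^ k) (by omega) (U := Finset.univ) (by simp [hn])
  obtain ⟨g, hg⟩ := conj_le (K := T) (T := zpowers c) hT.symm.dvd (IsPGroup.of_card
    ((Nat.card_zpowers c).trans h2.orderOf))
  have h3 := h2.conj g
  have h5 := hg c (mem_zpowers c)
  generalize g * c * g⁻¹ = d at h3 h5
  have h6 : d.support = {o}ᶜ := Finset.eq_of_subset_of_card_le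
    (fun z hz => by simpa using fun e : z = o => mem_support.1 hz (e ▸ h1 d h5))
    (by simp [Finset.card_compl, hn, h3.2])
  obtain ⟨i, hi⟩ := h3.1.exists_pow_eq (x := x) (y := y) (mem_support.1 (by simpa [h6]))
    (mem_support.1 (by simpa [h6]))
  refine (Int.units_eq_one_or (sign (d ^ i))).elim (fun e => ⟨_, pow_mem h5 i, e, hi⟩) fun e => ?_
  obtain ⟨z, z1, z2⟩ := h.pick {y, m y} (by have := card_le2 y (m y); omega)
  simp only [Finset.mem_insert, Finset.mem_singleton, not_or] at z1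
  exact ⟨_, mul_mem (h.swap_mem hT hc z) (pow_mem h5 i), by rw [map_mul, e]; simp [z2.symm], by
    rw [mul_apply, hi, swap_apply_of_ne_of_ne (Ne.symm z1.1) fun e => z1.2 (by rw [e, h.sq])]⟩

theorem two_tr {o : α} (h1 : ∀ t ∈ T, t o = o)
    (h2 : ∀ x y, x ≠ o → y ≠ o → ∃ t ∈ T, sign t = 1 ∧ t x = y)
    (hH : T ⊓ alternatingGroup α ≤ H) {g : Perm α} (hg : g ∈ H) (hgo : g o ≠ o) :
    IsMultiplyPretransitive H α 2 := by
  have key : ∀ a b, a ≠ b → ∃ p ∈ H, p a = o ∧ p b = g o := fun a b hab => by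
    obtain ⟨p, p1, rfl⟩ : ∃ p ∈ H, p a = o := by
      by_cases e : a = o
      · exact ⟨1, one_mem _, e⟩
      obtain ⟨t, t1, t2, t3⟩ := h2 a _ e hgo
      exact ⟨g⁻¹ * t, mul_mem (inv_mem hg) (hH ⟨t1, t2⟩), by simp [t3]⟩
    obtain ⟨t, t1, t2, t3⟩ := h2 (p b) _ (p.injective.ne hab.symm) hgo
    exact ⟨t * p, mul_mem (hH ⟨t1, t2⟩) p1, h1 t t1, t3⟩
  refine CA.PermBasic.two_iff.2 fun a b c d hab hcd => ?_
  obtain ⟨p, p1, p2, p3⟩ := key a b hab
  obtain ⟨q, q1, q2, q3⟩ := key c d hcd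
  exact ⟨⟨q⁻¹ * p, mul_mem (inv_mem q1) p1⟩, by simp [p2, ← q2], by simp [p3, ← q3]⟩

theorem three_mem' (h9 : 9 ≤ Fintype.card α) (hT : Nat.card T = s (Fintype.card α)) (h : Mt m)
    (hc : T ≤ centralizer {m}) {o : α} (ho : m o = o) (hH : T ⊓ alternatingGroup α ≤ H)
    {g : Perm α} (hg : g ∈ H) (hgo : g o ≠ o) : ∃ c ∈ H, IsThreeCycle c := by
  have pr : ∀ x y, m x ≠ x → m y ≠ y → swap x (m x) * swap y (m y) ∈ H := fun x y hx hy =>
    hH ⟨mul_mem (h.swap_mem hT hc x) (h.swap_mem hT hc y), by simp [hx.symm, hy.symm]⟩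
  obtain ⟨y, hy⟩ := g.surjective o
  have y1 : m y ≠ y := fun e => hgo (h.fix _ _ e ho ▸ hy)
  have a1 : g (m y) ≠ o := hy ▸ g.injective.ne y1
  have a2 : m (g (m y)) ≠ g (m y) := fun e => a1 (h.fix _ _ e ho)
  have a3 : m (g (m y)) ≠ o := fun e => a1 (m.injective (e.trans ho.symm))
  obtain ⟨w, hw⟩ := g.surjective (m (g (m y)))
  obtain ⟨z, z1, z2⟩ := h.pick {y, m y, w, m w} (by have := card_le4 y (m y) w (m w); omega)
  have hs := mul_mem (mul_mem hg (pr y z y1 z2)) (inv_mem hg)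
  rw [← conj_mul, ← swap_apply_apply, ← swap_apply_apply, hy] at hs
  simp only [Finset.mem_insert, Finset.mem_singleton, not_or] at z1
  have u1 : g z ≠ g (m y) := g.injective.ne z1.2.1
  have u2 : g z ≠ m (g (m y)) := hw ▸ g.injective.ne z1.2.2.1
  have v1 : g (m z) ≠ g (m y) := g.injective.ne (m.injective.ne z1.1)
  have v2 : g (m z) ≠ m (g (m y)) := hw ▸ g.injective.ne fun e => z1.2.2.2 (by rw [← e, h.sq])
  generalize g (m y) = a at *
  generalize g z = u at *
  generalize g (m z) = v at *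
  obtain ⟨c, c1, c2⟩ := h.pick (insert o (insert a (insert (m a) {u, m u, v, m v}))) (by
    have := card_le4 u (m u) v (m v)
    have := Finset.card_insert_le (m a) {u, m u, v, m v}
    have := Finset.card_insert_le a (insert (m a) {u, m u, v, m v})
    have := Finset.card_insert_le o (insert a (insert (m a) {u, m u, v, m v}))
    omega)
  simp only [Finset.mem_insert, Finset.mem_singleton, not_or] at c1
  obtain ⟨c1, c3, c4, c5, c6, c7, c8⟩ := c1
  have d : ∀ x, c ≠ m x → m c ≠ x := fun x hx e => hx (by rw [← e, h.sq])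
  refine ⟨_, mul_mem (mul_mem (mul_mem hs (pr a c a2 c2)) (inv_mem hs)) (pr a c a2 c2), ?_⟩
  rw [← conj_mul, ← swap_apply_apply, ← swap_apply_apply]
  simp only [mul_apply]
  rw [swap_apply_of_ne_of_ne u1.symm v1.symm, swap_apply_of_ne_of_ne u2.symm v2.symm,
    swap_apply_of_ne_of_ne c5 c7, swap_apply_of_ne_of_ne (d u c6) (d v c8), swap_apply_right,
    swap_apply_of_ne_of_ne a3 a2, swap_apply_of_ne_of_ne c1 c3,
    swap_apply_of_ne_of_ne (d o (by rwa [ho])) (d a c4)]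
  have e : swap c (m c) * (swap a (m a) * swap c (m c)) = swap a (m a) := by
    rw [← mul_assoc, mul_swap_eq_swap_mul (swap c _), swap_apply_of_ne_of_ne (Ne.symm c3) (d a c4).symm,
      swap_apply_of_ne_of_ne (Ne.symm c4) (m.injective.ne (Ne.symm c3)), mul_assoc, swap_mul_self, mul_one]
  rw [mul_assoc, e, swap_comm o, swap_comm a]
  exact isThreeCycle_swap_mul_swap_same a3 a2 a1.symm

theorem uniq {k : ℕ} (hk : 2 ≤ k) (hn : Fintype.card α = 2 ^ k + 1)
    (hT : Nat.card T = s (Fintype.card α)) : ∃ o, (∀ t ∈ T, t o = o) ∧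
      (∀ H : Subgroup (Perm α), T ≤ H → H ≤ stabilizer _ o ∨ H = ⊤) ∧
      ∀ H : Subgroup (alternatingGroup α), T.subgroupOf _ ≤ H → H ≤ stabilizer _ o ∨ H = ⊤ := by
  obtain ⟨m, h, hc⟩ := exists_mt (IsPGroup.of_card hT)
  obtain ⟨o, ho, h1, h2⟩ := exists_fix hk hn hT h hc
  have h4 : 2 ^ 2 ≤ 2 ^ k := Nat.pow_le_pow_right two_pos hk
  refine ⟨o, h1, fun H hH => or_iff_not_imp_left.2 fun e => ?_,
    fun H hH => or_iff_not_imp_left.2 fun e => ?_⟩
  · obtain ⟨g, g1, g2⟩ := SetLike.not_le_iff_exists.1 e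
    obtain ⟨x, -, hx⟩ := h.pick ∅ (by simp; omega)
    exact subgroup_eq_top_of_isPreprimitive_of_isSwap_mem (isPreprimitive_of_is_two_pretransitive
      (two_tr h1 h2 (inf_le_left.trans hH) g1 g2)) _ ⟨_, _, hx.symm, rfl⟩ (hH (h.swap_mem hT hc x))
  obtain ⟨g, g1, g2⟩ := SetLike.not_le_iff_exists.1 e
  have h5 : T ⊓ alternatingGroup α ≤ H.map (Subgroup.subtype _) := fun t ht => ⟨⟨t, ht.2⟩, hH ht.1, rfl⟩
  have h6 := two_tr h1 h2 h5 (g := g) ⟨g, g1, rfl⟩ g2
  by_cases h9 : 9 ≤ Fintype.card α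
  · obtain ⟨c, c1, c2⟩ := three_mem' h9 hT h hc ho h5 (g := g) ⟨g, g1, rfl⟩ g2
    have := alternatingGroup_le_of_isPreprimitive_of_isThreeCycle_mem
      (isPreprimitive_of_is_two_pretransitive h6) c2 c1
    refine eq_top_iff.2 fun x _ => ?_
    obtain ⟨y, y1, y2⟩ := this x.2
    exact Subtype.ext y2 ▸ y1
  obtain rfl : k = 2 := by
    by_contra e
    have : 2 ^ 3 ≤ 2 ^ k := Nat.pow_le_pow_right two_pos (by omega)
    omega
  have hn' : Nat.card α = 5 := by simpa using hn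
  have := alternatingGroup.isSimpleGroup (α := α) hn'.ge
  have : Nontrivial α := Fintype.one_lt_card_iff_nontrivial.1 (by omega)
  have h7 := two_mul_nat_card_alternatingGroup (α := α)
  rw [card_perm', hn] at h7
  have h8 := h6.index_of_fixingSubgroup_mul (s := {o, g.1 o}) (Set.ncard_pair (Ne.symm g2))
  have h9 := (fixingSubgroup (H.map (Subgroup.subtype _)) {o, g.1 o}).index_dvd_card
  rw [CA.Rad.card_map_subtype] at h9
  have h10 := H.card_mul_index
  rcases H.normalCore_normal.eq_bot_or_eq_top with e | e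
  · have h11 := CA.H10BF.index_normalCore_le H
    rw [e, index_bot] at h11
    have h12 := Nat.le_of_dvd Nat.card_pos h9
    simp only [hn', Nat.factorial, Nat.reducePow, Nat.reduceAdd, Nat.reduceMul, Nat.reduceSub,
      Nat.succ_eq_add_one] at h7 h8
    have h13 : H.index ≤ 3 := by nlinarith
    have := Nat.factorial_le h13
    simp only [Nat.factorial] at this
    omega
  · exact eq_top_iff.2 (e.ge.trans H.normalCore_le)

theorem s_top (j : ℕ) : ∀ r < 2 ^ j, s (2 ^ j + r) = s (2 ^ j) * s r := by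
  induction j with
  | zero => intro r hr; simp [show r = 0 by omega, s0]
  | succ j ih =>
    intro r hr
    rw [s_half, s_half r, pow_succ', s_two, show (2 * 2 ^ j + r) / 2 = 2 ^ j + r / 2 by omega,
      ih _ (by omega)]
    ring

theorem s_pow (j : ℕ) : 2 * s (2 ^ j) = 2 ^ 2 ^ j := by
  induction j with
  | zero => simp [s1]
  | succ j ih => rw [pow_succ', s_two, mul_left_comm, ih, two_mul, pow_add]

theorem tau (h : Mt m) {a b : α} (ha : m a ≠ a) (h1 : b ≠ a) (h2 : b ≠ m a) (hb : m b ≠ b) :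
    ∃ t ∈ centralizer {m} ⊓ alternatingGroup α, t a = b ∧ ∀ y, y ≠ a → y ≠ m a → y ≠ b → y ≠ m b →
      t y = y := by
  refine ⟨swap a b * swap (m a) (m b), ⟨mem_centralizer_singleton_iff.2 ?_, ?_⟩, ?_,
    fun y y1 y2 y3 y4 => ?_⟩
  · have h3 : a ≠ m b := fun e => h2 (by rw [e, h.sq])
    rw [← mul_assoc, mul_swap_eq_swap_mul m, mul_assoc (swap (m a) _), mul_swap_eq_swap_mul m, h.sq,
      h.sq, ← mul_assoc, mul_swap_eq_swap_mul (swap (m a) _), swap_apply_of_ne_of_ne ha.symm h3,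
      swap_apply_of_ne_of_ne h2 hb.symm]
  · simp [h1.symm]
  · rw [mul_apply, swap_apply_of_ne_of_ne ha.symm fun e => h2 (by rw [e, h.sq]), swap_apply_left]
  · rw [mul_apply, swap_apply_of_ne_of_ne y2 y4, swap_apply_of_ne_of_ne y1 y3]

theorem not_uniq (h5 : 5 ≤ Fintype.card α) (hn : ∀ k, 2 ≤ k → Fintype.card α ≠ 2 ^ k + 1)
    (hT : Nat.card T = s (Fintype.card α)) : ∃ K L : Subgroup (Perm α), T ≤ K ∧ T ≤ L ∧
      ¬ alternatingGroup α ≤ K ∧ ¬ alternatingGroup α ≤ L ∧ ∀ H : Subgroup (Perm α),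
        K ⊓ alternatingGroup α ≤ H → L ⊓ alternatingGroup α ≤ H → alternatingGroup α ≤ H := by
  have hT2 := IsPGroup.of_card hT
  obtain ⟨m, h, hc⟩ := exists_mt hT2
  suffices ∃ L : Subgroup (Perm α), T ≤ L ∧ (¬ centralizer {m} ⊓ alternatingGroup α ≤ L) ∧
      ∀ H : Subgroup (Perm α), L ⊓ alternatingGroup α ≤ H →
        (∃ t ∈ H ⊓ alternatingGroup α, t ∉ L) → alternatingGroup α ≤ H by
    obtain ⟨L, h1, h2, h3⟩ := this
    refine ⟨_, L, hc, h1, fun e => ?_, fun e => h2 (inf_le_right.trans e), fun H h4 h6 => h3 H h6 ?_⟩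
    · obtain ⟨a, -, ha⟩ := h.pick ∅ (by simp; omega)
      obtain ⟨c, hc, -⟩ := h.pick {a, m a} (by have := card_le2 a (m a); omega)
      simp only [Finset.mem_insert, Finset.mem_singleton, not_or] at hc
      have := cen_apply (e (show swap a c * swap a (m a) ∈ _ by simp [ha.symm, Ne.symm hc.1])) a
      rw [mul_apply, mul_apply, swap_apply_left, swap_apply_right, swap_apply_left,
        swap_apply_of_ne_of_ne ha (Ne.symm hc.2), h.sq] at this
      exact hc.1 this.symm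
    · obtain ⟨t, t1, t2⟩ := SetLike.not_le_iff_exists.1 h2
      exact ⟨t, ⟨h4 t1, t1.2⟩, t2⟩
  obtain ⟨j, r, e, hr⟩ : ∃ j r, Fintype.card α = 2 ^ (j + 2) + r ∧ r < 2 ^ (j + 2) := by
    have h1 := Nat.pow_log_le_self 2 (show Fintype.card α ≠ 0 by omega)
    have h2 := Nat.lt_pow_succ_log_self one_lt_two (Fintype.card α)
    obtain ⟨j, hj⟩ := Nat.exists_eq_add_of_le' (Nat.le_log_of_pow_le one_lt_two
      (show 2 ^ 2 ≤ Fintype.card α by omega))
    exact ⟨j, Fintype.card α - 2 ^ (j + 2), by rw [← hj]; omega, by rw [← hj]; omega⟩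
  have h4 : 1 ≤ 2 ^ j := Nat.one_le_two_pow
  have h41 : 2 ^ (j + 2) = 4 * 2 ^ j := by ring
  have h42 : 2 ^ (j + 1) = 2 * 2 ^ j := by ring
  by_cases h0 : r = 0
  · subst h0
    have h8 : 4 ≤ 2 ^ (j + 1) := by omega
    obtain ⟨f, hf, hfT⟩ : ∃ f : α → Fin 2, (∀ i, Nat.card {x // f x = i} = 2 ^ (j + 1)) ∧ T ≤ P f := by
      have q : α ≃ Fin 2 × Fin (2 ^ (j + 1)) := Fintype.equivOfCardEq (by simp; omega)
      have hf : ∀ (g : Perm α) i, Nat.card {x // (q (g x)).1 = i} = 2 ^ (j + 1) := fun g i => by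
        refine (Nat.card_congr ((g.trans q).subtypeEquiv (q := fun y => y.1 = i) fun _ => Iff.rfl)).trans ?_
        simp [Fintype.card_subtype, Finset.filter_product_left (p := (· = i)), ← Finset.univ_product_univ,
          Finset.filter_eq']
      obtain ⟨g, hg⟩ := conj_le (K := P fun x => (q x).1) (by
        have h1 : Fx (fun x => (q x).1) < P fun x => (q x).1 :=
          lt_of_le_of_ne (fun g hg => mem_of_fix hg) fun e => by
            obtain ⟨p, p1, p2⟩ := trans (by omega) le_rfl (hf 1) (q.symm (0, 0)) (q.symm (1, 0))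
            simpa [p2] using (e.ge p1) (q.symm (0, 0))
        have h2 := card_P_dvd (fun x => (q x).1) fun i => ⟨q.symm (i, 0), by simp⟩
        have h3 := card_Fx fun x => (q x).1
        have h6 : ∀ i, (Finset.univ.filter fun a => (q a).1 = i).card = 2 ^ (j + 1) := fun i => by
          refine Eq.trans ?_ (hf 1 i)
          rw [Nat.card_eq_fintype_card, Fintype.card_subtype]; rfl
        have h7 := two_mul_le h1
        simp only [h6, Finset.prod_const, Finset.card_univ, Fintype.card_fin] at h2 h3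
        rw [le_antisymm (Nat.le_of_dvd (by positivity) h2) (h3 ▸ h7), e, add_zero, pow_succ', s_two,
          ← s_pow, mul_assoc, sq]
        exact Nat.mul_dvd_mul_left 2 (Nat.mul_dvd_mul pow_padicValNat_dvd pow_padicValNat_dvd)) hT2
      exact ⟨fun x => (q (g x)).1, hf g, fun t ht x y => by simpa using hg t ht (g x) (g y)⟩
    have nf : ∀ i, ∃ a, f a = i ∧ m a ≠ a ∧ f (m a) = i := fun i => by
      obtain ⟨a, rfl, ha⟩ : ∃ a, f a = i ∧ m a ≠ a := by
        obtain ⟨u, v, h1, h2, h3⟩ := exists_pair (by omega) hf i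
        by_contra e
        push Not at e
        exact h1 (h.fix _ _ (e u h2) (e v h3))
      obtain ⟨y, y1, y2⟩ := exists_fib hf (f a) {a, m a} (by have := card_le2 a (m a); omega)
      simp only [Finset.mem_insert, Finset.mem_singleton, not_or] at y2
      have := (hfT (h.swap_mem hT hc a) a y).1 y1.symm
      rw [swap_apply_left, swap_apply_of_ne_of_ne y2.1 y2.2] at this
      exact ⟨a, rfl, ha, this.trans y1⟩
    obtain ⟨a, a1, a2, a3⟩ := nf 0
    obtain ⟨y, y1, y2⟩ := exists_fib hf 0 {a, m a} (by have := card_le2 a (m a); omega)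
    simp only [Finset.mem_insert, Finset.mem_singleton, not_or] at y2
    refine ⟨P f, hfT, fun hle => ?_, fun H h1 ⟨t, t1, t2⟩ => ?_⟩
    · obtain ⟨b, b1, b2, b3⟩ := nf 1
      obtain ⟨t, t1, t2, t3⟩ := tau h a2 (b := b) (by rintro rfl; simp [a1] at b1)
        (by rintro rfl; simp [a3] at b1) b2
      have := (hle t1 a y).1 (a1.trans y1.symm)
      rw [t2, t3 y y2.1 y2.2 (by rintro rfl; simp [y1] at b1) (by rintro rfl; simp [y1] at b3), b1,
        y1] at this
      simp at this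
    · have c3 := isThreeCycle_swap_mul_swap_same a2.symm (Ne.symm y2.1) (Ne.symm y2.2)
      exact alternatingGroup_le_of_isPreprimitive_of_isThreeCycle_mem (prim_alt (by omega) le_rfl
        (Or.inl (by omega)) hf H h1 fun e => t2 (e t1.1)) c3 (h1 ⟨mul_mem (swap_mem (a1.trans a3.symm))
          (swap_mem (a1.trans y1.symm)), c3.mem_alternatingGroup⟩)
  have h2 : 2 ≤ r := by have := hn (j + 2) (by omega); omega
  obtain ⟨B, hB, hBT⟩ : ∃ B : Finset α, B.card = 2 ^ (j + 2) ∧ T ≤ Fx fun x => decide (x ∈ B) := by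
    obtain ⟨B, -, hB⟩ := Finset.exists_subset_card_eq (s := (Finset.univ : Finset α))
      (n := 2 ^ (j + 2)) (by simp [e])
    obtain ⟨g, hg⟩ := conj_le (K := Fx fun x => decide (x ∈ B)) (by
      rw [card_Fx, prod_W, hB, e, s_top _ r hr, Nat.add_sub_cancel_left]
      exact Nat.mul_dvd_mul pow_padicValNat_dvd pow_padicValNat_dvd) hT2
    exact ⟨B.map g.symm.toEmbedding, by simpa, fun t ht x => by simpa using hg t ht (g x)⟩
  have hm : ∀ a, m a ∈ B ↔ a ∈ B := fun a => by simpa using hBT (h.swap_mem hT hc a) a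
  obtain ⟨a, a1, a2⟩ := h.pick Bᶜ (by rw [Finset.card_compl]; omega)
  obtain ⟨b, b1, b2⟩ := h.pick B (by omega)
  rw [Finset.mem_compl, not_not] at a1
  refine ⟨_, hBT, fun hle => ?_, fun H h1 ⟨t, t1, t2⟩ x hx => ?_⟩
  · obtain ⟨t, t1, t2, -⟩ := tau h a2 (b := b) (by rintro rfl; exact b1 a1)
      (by rintro rfl; exact b1 ((hm a).2 a1)) b2
    simpa [t2, a1, b1] using hle t1 a
  have hst : ∀ g : alternatingGroup α, g ∈ stabilizer (alternatingGroup α) (B : Set α) ↔
      g.1 ∈ Fx fun x => decide (x ∈ B) := fun g => by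
    rw [mem_stabilizer_set]
    simp [mem_Fx, Subgroup.smul_def]
  exact ((alternatingGroup.isCoatom_stabilizer (s := (B : Set α)) ⟨a, a1⟩ ⟨b, b1⟩ (by
    simp [hB, e]; omega)).2 (H.subgroupOf _) (lt_of_le_of_ne (fun g hg => h1 ⟨(hst g).1 hg, g.2⟩)
      fun e => t2 ((hst ⟨t, t1.2⟩).1 (e.ge t1.1)))).ge (mem_top ⟨x, hx⟩)

theorem uniq_of {G : Type*} [Group G] {R M : Subgroup G} (h1 : M ≠ ⊤) (h2 : R ≤ M)
    (h : ∀ H, R ≤ H → H ≤ M ∨ H = ⊤) : ∃! M : Subgroup G, IsCoatom M ∧ R ≤ M :=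
  ⟨M, ⟨⟨h1, fun H hH => (h H (h2.trans hH.le)).resolve_left hH.not_ge⟩, h2⟩, fun N hN =>
    (hN.1.le_iff.1 ((h N hN.2).resolve_right hN.1.1)).resolve_left h1 |>.symm⟩

theorem sup_ne {G : Type*} [Group G] [Finite G] {R K L : Subgroup G}
    (h : ∃! M : Subgroup G, IsCoatom M ∧ R ≤ M) (h1 : R ≤ K) (h2 : R ≤ L) (h3 : K ≠ ⊤) (h4 : L ≠ ⊤) :
    K ⊔ L ≠ ⊤ := by
  obtain ⟨M, m1, m2⟩ := (eq_top_or_exists_le_coatom K).resolve_left h3
  obtain ⟨N, n1, n2⟩ := (eq_top_or_exists_le_coatom L).resolve_left h4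
  obtain rfl := h.unique ⟨m1, h1.trans m2⟩ ⟨n1, h2.trans n2⟩
  exact ne_top_of_le_ne_top m1.1 (sup_le m2 n2)

end CA.SymSyl2
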